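import Cfsg.Agent.Cam.Cl.J1

/-!
# The box Bk (helper8)
-/

set_option autoImplicit false

namespace Cfsg.Agent.Cam.Cl.JB

open Cfsg Cfsg.Agent.DS.Cl

variable {A : Type} [Ring A] [StarRing A]

/-- symmetric central idempotents of a subring -/
structure CI (B : Subring A) (e : A) : Prop where
  mem : e ∈ B
  cen : ∀ b ∈ B, b * e = e * b
  idem : e * e = e
  symm : star e = e

/-- primitive symmetric central idempotents -/
theorem exists_prim [Finite A] (B : Subring A) {n : A} (hn : n ≠ 0) :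
    ∃ e, CI B e ∧ n * e ≠ 0 ∧ ∀ f, CI B f → f * e = f → f = 0 ∨ f = e := by
  obtain ⟨e, ⟨he, h0⟩, hmin⟩ := exists_minimalFor_of_wellFoundedLT (fun e => CI B e ∧ n * e ≠ 0)
    (fun e => {x : A | x * e = x}) ⟨1, ⟨one_mem _, fun b _ => by rw [mul_one, one_mul], one_mul 1, star_one _⟩, by
      rwa [mul_one]⟩
  have key : ∀ f, CI B f → f * e = f → n * f ≠ 0 → f = e := fun f hf h1 h2 => by
    have h3 : e * f = e := hmin ⟨hf, h2⟩ (fun x (hx : x * f = x) => by
      show x * e = x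
      rw [← hx, mul_assoc, h1]) he.idem
    exact h1.symm.trans ((he.cen f hf.mem).trans h3)
  refine ⟨e, he, h0, fun f hf h1 => ?_⟩
  by_cases h2 : n * f = 0
  · left
    have h3 : e * f = f := by rw [← he.cen f hf.mem, h1]
    have h4 := key (e - f) ⟨sub_mem he.mem hf.mem, fun b hb => by rw [mul_sub, sub_mul, he.cen b hb, hf.cen b hb], by
      rw [mul_sub, sub_mul, sub_mul, he.idem, h1, h3, hf.idem, sub_self, sub_zero], by
      rw [star_sub, he.symm, hf.symm]⟩ (by rw [sub_mul, he.idem, h1]) (by rwa [mul_sub, h2, sub_zero])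
    exact sub_eq_self.1 h4
  · exact Or.inr (key f hf h1 h2)

/-- the block of a symmetric central idempotent -/
def blk {B : Subring A} (hs : ∀ x ∈ B, star x ∈ B) {e : A} (h : CI B e) : Blk A where
  car :=
    { carrier := {x | x ∈ B ∧ x * e = x}
      add_mem' := by
        rintro a b ⟨ha, ha'⟩ ⟨hb, hb'⟩
        exact ⟨add_mem ha hb, by rw [add_mul, ha', hb']⟩
      zero_mem' := ⟨zero_mem _, zero_mul e⟩
      mul_mem' := by
        rintro a b ⟨ha, -⟩ ⟨hb, hb'⟩
        exact ⟨mul_mem ha hb, by rw [mul_assoc, hb']⟩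
      neg_mem' := by
        rintro a ⟨ha, ha'⟩
        exact ⟨neg_mem ha, by rw [neg_mul, ha']⟩ }
  e := e
  e_mem := ⟨h.mem, h.idem⟩
  e_mul x hx := (h.cen x hx.1).symm.trans hx.2
  mul_e _ hx := hx.2
  star_mem := by
    rintro x ⟨h1, h2⟩
    exact ⟨hs x h1, by rw [← h.symm, ← star_mul, ← h.cen x h1, h2]⟩

section blk

variable {B : Subring A} {hs : ∀ x ∈ B, star x ∈ B} {e : A} {h : CI B e}

theorem mem_blk {x : A} : x ∈ (blk hs h).car ↔ x ∈ B ∧ x * e = x := Iff.rfl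

theorem blk_left {b x : A} (hb : b ∈ B) (hx : x ∈ (blk hs h).car) : b * x ∈ (blk hs h).car :=
  ⟨mul_mem hb hx.1, by rw [mul_assoc, hx.2]⟩

theorem blk_right {b x : A} (hx : x ∈ (blk hs h).car) (hb : b ∈ B) : x * b ∈ (blk hs h).car :=
  ⟨mul_mem hx.1 hb, by rw [mul_assoc, h.cen b hb, ← mul_assoc, hx.2]⟩

theorem ss_blk [IsSemisimpleRing B] (h0 : e ≠ 0) (hp : ∀ f, CI B f → f * e = f → f = 0 ∨ f = e) :
    SS (blk hs h).T := by
  refine Blk.ss_of _ h0 fun I h1 h2 h3 => ?_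
  have h4 : ∀ x ∈ I, ∀ b ∈ B, b * x ∈ I := fun x hx b hb => by
    have h5 := h2 x hx _ (blk_left hb (blk hs h).e_mem)
    rwa [mul_assoc, (blk hs h).e_mul x (h1 x hx)] at h5
  let J : Ideal B :=
    { carrier := {x | (x : A) ∈ I}
      add_mem' := fun ha hb => I.add_mem ha hb
      zero_mem' := I.zero_mem
      smul_mem' := fun c x hx => h4 _ hx _ c.2 }
  obtain ⟨f, hf, hc, hff, h5⟩ := cen_idem_of_semisimple (I := J) fun x hx a => by
    have h5 := h3 _ (h4 _ (h3 _ hx) _ (hs _ a.2))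
    rw [star_mul, star_star, star_star] at h5
    exact h5
  have h6 : ∀ x ∈ I, x * f = x := fun x hx => congrArg Subtype.val (h5 ⟨x, (h1 x hx).1⟩ hx)
  have h7 : star (f : A) = f := by
    have h7 := h6 _ (h3 _ hf)
    have h8 := congrArg star h7
    rw [star_mul, star_star] at h8
    rw [← h7, h8]
  rcases hp f ⟨f.2, fun b hb => congrArg Subtype.val (Subring.mem_center_iff.1 hc ⟨b, hb⟩), congrArg Subtype.val hff,
    h7⟩ (h1 _ hf).2 with h8 | h8
  · left
    rw [eq_bot_iff]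
    intro x hx
    rw [← h6 x hx, h8, mul_zero]
    exact zero_mem _
  · right
    show e ∈ I
    rw [← h8]
    exact hf

end blk

section gen

variable {X : Subgroup Aˣ} (hX : ∀ t ∈ X, (t : A) * star (t : A) = 1) {e : A} {h : CI (Bd X) e}
  (hD : SS (blk (fun _ => star_mem_Bd hX) h).T) {t : Aˣ} (ht : t ∈ X) (h0 : ((t : A) - 1) * e ≠ 0)
include hD ht h0

/-- a class of elements stable under multiplication contains the support -/
theorem blk_ind (I : AddSubgroup A) (hl : ∀ x ∈ I, x ∈ Bd X → x * e = x → ∀ b ∈ Bd X, b * x ∈ I)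
    (hr : ∀ x ∈ I, x ∈ Bd X → x * e = x → ∀ b ∈ Bd X, x * b ∈ I) (h1 : ∀ t ∈ X, ((t : A) - 1) * e ∈ I) : e ∈ I := by
  let I' : AddSubgroup A :=
    { carrier := {z | z ∈ (blk (fun _ => star_mem_Bd hX) h).car ∧ z ∈ I ∧ star z ∈ I}
      add_mem' := by
        rintro a b ⟨ha, ha1, ha2⟩ ⟨hb, hb1, hb2⟩
        exact ⟨add_mem ha hb, add_mem ha1 hb1, by rw [star_add]; exact add_mem ha2 hb2⟩
      zero_mem' := ⟨zero_mem _, zero_mem _, by rw [star_zero]; exact zero_mem _⟩
      neg_mem' := by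
        rintro a ⟨ha, ha1, ha2⟩
        exact ⟨neg_mem ha, neg_mem ha1, by rw [star_neg]; exact neg_mem ha2⟩ }
  rcases Blk.ss_elim _ hD I' (fun z hz => hz.1) (fun z hz a ha => ⟨mul_mem ha hz.1, hl z hz.2.1 hz.1.1 hz.1.2 a ha.1, by
      have h2 := Blk.star_mem _ z hz.1
      rw [star_mul]
      exact hr _ hz.2.2 h2.1 h2.2 _ (star_mem_Bd hX ha.1)⟩)
    (fun z hz => ⟨Blk.star_mem _ z hz.1, hz.2.2, by rw [star_star]; exact hz.2.1⟩) with h3 | h3
  · refine absurd (AddSubgroup.mem_bot.1 (h3 ▸ (?_ : ((t : A) - 1) * e ∈ I'))) h0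
    refine ⟨blk_left (sub_mem (mem_Bd ht) (one_mem _)) (Blk.e_mem _), h1 t ht, ?_⟩
    rw [star_mul, h.symm, star_sub, star_one, ← star_eq_inv (hX t ht),
      ← h.cen _ (sub_mem (mem_Bd (inv_mem ht)) (one_mem _))]
    exact h1 _ (inv_mem ht)
  · exact h3.2.1

theorem e_mem_ImI : e ∈ ImI X :=
  blk_ind hX hD ht h0 (ImI X).toAddSubgroup (fun _ hx _ _ b _ => Ideal.mul_mem_left _ b hx)
    (fun _ hx _ _ _ hb => ImI_mul_Bd hx hb) fun _ ht => ImI_mul_Bd (sub_one_mem_ImI ht) h.mem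

/-- the block has an element of trace one -/
theorem exists_l [Finite A] (hA : SS A) : ∃ l, (l ∈ Bd X ∧ l * e = l) ∧ l + star l = e := by
  have hs : ∀ b ∈ Bd X, star b ∈ Bd X := fun _ => star_mem_Bd hX
  rcases Cl.SS.natCast_cases hA 2 with h2 | ⟨u, hu⟩
  · have h3 : ∀ x : A, -x = x := fun x => by
      rw [neg_eq_iff_add_eq_zero, ← two_mul, ← Nat.cast_ofNat, h2, zero_mul]
    let I : AddSubgroup A :=
      { carrier := {a | a ∈ (blk hs h).car ∧ ∃ x ∈ (blk hs h).car, a * star a = x + star x}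
        add_mem' := by
          rintro a b ⟨ha, x, hx, ha'⟩ ⟨hb, y, hy, hb'⟩
          refine ⟨add_mem ha hb, x + y + a * star b, add_mem (add_mem hx hy) (mul_mem ha (Blk.star_mem _ _ hb)), ?_⟩
          rw [star_add, add_mul, mul_add, mul_add, ha', hb', star_add, star_add, star_mul, star_star]
          abel
        zero_mem' := ⟨zero_mem _, 0, zero_mem _, by simp⟩
        neg_mem' := fun {a} ha => by rwa [h3] }
    have hl : ∀ a ∈ I, ∀ b ∈ Bd X, b * a ∈ I := by
      rintro a ⟨ha, x, hx, ha'⟩ b hb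
      refine ⟨blk_left hb ha, b * x * star b, blk_right (blk_left hb hx) (hs b hb), ?_⟩
      rw [star_mul, mul_assoc, ← mul_assoc a, ha', star_mul, star_mul, star_star]
      noncomm_ring
    let R : Subring A :=
      { carrier := {b | ∀ a ∈ I, a * b ∈ I}
        mul_mem' := fun {x y} hx hy a ha => by rw [← mul_assoc]; exact hy _ (hx a ha)
        one_mem' := fun a ha => by rwa [mul_one]
        add_mem' := fun {x y} hx hy a ha => by rw [mul_add]; exact add_mem (hx a ha) (hy a ha)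
        zero_mem' := fun a _ => by rw [mul_zero]; exact zero_mem _
        neg_mem' := fun {x} hx a ha => by rw [mul_neg]; exact neg_mem (hx a ha) }
    have hr : Bd X ≤ R := Bd_le (fun c hc a ha => by rw [cen_comm hc]; exact hl a ha c (cen_mem_Bd _ hc)) (by
      rintro s hs' a ⟨ha, x, hx, ha'⟩
      exact ⟨blk_right ha (mem_Bd hs'), x, hx, by rw [star_mul, mul_assoc, ← mul_assoc (s : A), hX s hs', one_mul, ha']⟩)
    obtain ⟨-, x, hx, h4⟩ := blk_ind hX hD ht h0 I (fun a ha _ _ => hl a ha) (fun a ha _ _ b hb => hr hb a ha)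
      fun s hs' => ⟨blk_left (sub_mem (mem_Bd hs') (one_mem _)) (Blk.e_mem _), ((s : A) - 1) * e,
        blk_left (sub_mem (mem_Bd hs') (one_mem _)) (Blk.e_mem _), by
          have h4 : ((s : A) - 1) * star ((s : A) - 1) = (s - 1) + star ((s : A) - 1) := by
            rw [← h3 (_ + _), star_sub, star_one, sub_mul, mul_sub, mul_sub, hX s hs']
            noncomm_ring
          have h5 := h.cen _ (hs _ (sub_mem (mem_Bd hs') (one_mem _)))
          rw [star_mul, h.symm, mul_assoc, ← mul_assoc e, h.idem, ← h5, ← mul_assoc, h4, add_mul]⟩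
    exact ⟨x, hx, by rw [← h4, h.symm, h.idem]⟩
  · have hc : (u : A) ∈ Subring.center A := hu ▸ Subring.mem_center_iff.2 fun a => (Nat.cast_comm 2 a).symm
    have hus : star (u : A) = u := by rw [hu, star_natCast]
    have hus' : star ((u⁻¹ : Aˣ) : A) = (u⁻¹ : Aˣ) := by
      have h3 : star ((u⁻¹ : Aˣ) : A) * u = 1 := by rw [← hus, ← star_mul, Units.mul_inv, star_one]
      rw [← mul_one (star _), ← u.mul_inv, ← mul_assoc, h3, one_mul]
    refine ⟨(u⁻¹ : Aˣ) * e, ⟨mul_mem (cen_mem_Bd _ (inv_cen hc)) h.mem, by rw [mul_assoc, h.idem]⟩, ?_⟩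
    rw [star_mul, h.symm, hus', cen_comm (inv_cen hc), ← two_mul, ← Nat.cast_ofNat, ← hu, ← mul_assoc, Units.mul_inv,
      one_mul]

end gen

/-- **Bk** -/
theorem boxBk (hPc : BoxPc) : BoxBk := by
  intro A _ _ _ F Hh Y 𝒯 𝒯₁ h h1 hout hss hiso T hT
  have hX := sSup_ms h h1
  have hs : ∀ b ∈ Bd (sSup 𝒯₁), star b ∈ Bd (sSup 𝒯₁) := fun _ => star_mem_Bd hX
  obtain ⟨⟨t, ht⟩, h0⟩ := Subgroup.ne_bot_iff_exists_ne_one.1 (h.mem T (h1 hT)).qs.ne_bot
  obtain ⟨e, he, h2, hp⟩ := exists_prim (Bd (sSup 𝒯₁)) (n := (t : A) - 1) fun h2 =>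
    h0 (Subtype.ext (Units.ext (sub_eq_zero.1 h2)))
  have hD : SS (blk hs he).T := ss_blk (fun h3 => h2 (by rw [h3, mul_zero])) hp
  have htX : t ∈ sSup 𝒯₁ := le_sSup hT ht
  have heI := e_mem_ImI hX hD htX h2
  obtain ⟨l, hl, hl'⟩ := exists_l hX hD htX h2 h.ss
  obtain ⟨h3, h4, D', h5, h6, h7⟩ := hPc A F Hh Y 𝒯 h (blk hs he)
    ⟨(blk hs he).mk' l hl, Lmax _, (blk hs he).val_inj hl', Or.inr rfl⟩ hD
    (fun c hc => blk_left (cen_mem_Bd _ hc) (Blk.e_mem _))
    (fun u hu v hv => by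
      have h3 := (blk hs he).val_mem u
      have h4 : (blk hs he).val u * star ((blk hs he).val u) = e := congrArg (blk hs he).val hu.1
      have h5 := (blk hs he).e_mul _ ((blk hs he).star_mem _ h3)
      change (v : A) = _ + (1 - e) at hv
      change e * _ = _ at h5
      generalize (blk hs he).val u = x at h3 h4 h5 hv
      refine hiso v (hv ▸ add_mem h3.1 (sub_mem (one_mem _) he.mem)) ?_ ?_
      · have h6 := Ideal.mul_mem_left _ (x - 1) heI
        rwa [sub_mul, h3.2, one_mul, show x - e = x + (1 - e) - 1 by abel, ← hv] at h6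
      · rw [hv, star_add, star_sub, star_one, he.symm, add_mul, mul_add, mul_add, h4, mul_sub, mul_one, h3.2, sub_mul,
          one_mul, h5, sub_mul, one_mul, mul_sub, mul_one, he.idem]
        abel)
    (fun y hy x hx => y_comm_Bd h h1 hy hx.1)
    (fun S hS s hs' => by
      change (s : A) * e = e * s ∧ ∃ u ∈ _, _ = (s : A) * e
      have h3 := (h.mem S hS).le hs'
      by_cases h4 : S ∈ 𝒯₁
      · have h5 : (s : A) ∈ Bd (sSup 𝒯₁) := mem_Bd (le_sSup h4 hs')
        have h6 : (blk hs he).mk' _ (blk_left h5 (Blk.e_mem _)) * star ((blk hs he).mk' _ (blk_left h5 (Blk.e_mem _))) =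
            1 := (blk hs he).val_inj (by
          change (s : A) * e * star ((s : A) * e) = e
          rw [star_mul, he.symm, mul_assoc, ← mul_assoc e, he.idem, ← he.cen _ (hs _ h5), ← mul_assoc, h3.1, one_mul])
        exact ⟨he.cen _ h5, mkU _ h6, Fwd.mem_Iso_max rfl h6, rfl⟩
      · have h5 := congrArg star (hout S hS h4 _ (inv_mem hs') e heI)
        rw [star_mul, he.symm, FR.Iso.inv_eq h3, star_star] at h5
        exact ⟨h5.trans (hout S hS h4 s hs' e heI).symm, 1, one_mem _, h5.symm⟩)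
    T (h1 hT) ⟨t, ht, fun h3 => h2 (by rw [sub_mul, one_mul]; exact sub_eq_zero.2 h3)⟩
  rw [← h6] at h3 h7
  exact ⟨⟨D', h5, h4, Or.inr (h7.resolve_right fun h8 => h8.1 rfl)⟩, D', h5, h3⟩

end Cfsg.Agent.Cam.Cl.JB
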