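import Cfsg.Agent.Cam.Cl.Rad
import Cfsg.Agent.DS.Cl.ModBase

/-!
# The box J1 (helper8)
-/

set_option autoImplicit false

namespace Cfsg.Agent.Cam.Cl.JB

open Cfsg Cfsg.Agent.DS.Cl
open scoped commutatorElement

variable {A : Type} [Ring A] [StarRing A] {F : FR A} {Hh Y : Subgroup Aˣ} {𝒯 : Set (Subgroup Aˣ)}

theorem sSup_le_Hh (h : Loc F Hh Y 𝒯) {𝒯₁ : Set (Subgroup Aˣ)} (h1 : 𝒯₁ ⊆ 𝒯) : sSup 𝒯₁ ≤ Hh :=
  sSup_le fun T hT => h.t_le T (h1 hT)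

theorem sSup_le_Iso (h : Loc F Hh Y 𝒯) {𝒯₁ : Set (Subgroup Aˣ)} (h1 : 𝒯₁ ⊆ 𝒯) : sSup 𝒯₁ ≤ F.Iso :=
  sSup_le fun T hT => (h.mem T (h1 hT)).le

theorem sSup_ms (h : Loc F Hh Y 𝒯) {𝒯₁ : Set (Subgroup Aˣ)} (h1 : 𝒯₁ ⊆ 𝒯) :
    ∀ t ∈ sSup 𝒯₁, (t : A) * star (t : A) = 1 := fun _ ht => (sSup_le_Iso h h1 ht).1

theorem sSup_perf (h : Loc F Hh Y 𝒯) {𝒯₁ : Set (Subgroup Aˣ)} (h1 : 𝒯₁ ⊆ 𝒯) : sSup 𝒯₁ ≤ ⁅sSup 𝒯₁, sSup 𝒯₁⁆ :=
  perf_sSup fun T hT => (h.mem T (h1 hT)).qs.perf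

theorem y_comm_Bd (h : Loc F Hh Y 𝒯) {𝒯₁ : Set (Subgroup Aˣ)} (h1 : 𝒯₁ ⊆ 𝒯) {y : Aˣ} (hy : y ∈ Y) {x : A}
    (hx : x ∈ Bd (sSup 𝒯₁)) : (y : A) * x = x * y :=
  comm_Bd (fun t ht => by
    rw [← Units.val_mul, ← Units.val_mul, (cm_sSup_left fun T hT => (h.y_comm T (h1 hT)).symm) t ht y hy]) hx

theorem nm_sSup (h : Loc F Hh Y 𝒯) : Nm Hh (sSup 𝒯) := by
  intro g hg
  have h1 : sSup 𝒯 ≤ (sSup 𝒯).comap (MulAut.conj g).toMonoidHom := sSup_le fun T hT t ht => by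
    have h2 := conj_mem_cj (a := g⁻¹) ht
    rw [inv_inv] at h2
    exact le_sSup (h.inv _ (inv_mem hg) T hT) h2
  exact h1

omit [StarRing A] in
theorem cj_mem_Bd {T : Subgroup Aˣ} {g : Aˣ} (hg : ∀ t ∈ T, g * t * g⁻¹ ∈ T) {x : A} (hx : x ∈ Bd T) :
    DS.Cl.cj A g x ∈ Bd T := by
  have h1 : Bd T ≤ (Bd T).comap (DS.Cl.cj A g : A →+* A) := Bd_le
    (fun c hc => by
      show DS.Cl.cj A g c ∈ Bd T
      rw [cj_mem_Lin g c hc]
      exact cen_mem_Bd _ hc)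
    (fun t ht => mem_Bd (hg t ht))
  exact h1 hx

omit [StarRing A] in
theorem cj_mem_Jr [Finite A] {S T : Subgroup Aˣ} (h : Nm S T) {g : Aˣ} (hg : g ∈ S) {x : A} (hx : x ∈ Jr (Bd T)) :
    (g : A) * x * (g⁻¹ : Aˣ) ∈ Jr (Bd T) :=
  Jr_map (γ := DS.Cl.cj A g) (fun _ hb => cj_mem_Bd (h g hg) hb) (fun _ hb => by
    rw [← map_inv]
    exact cj_mem_Bd (h _ (inv_mem hg)) hb) hx

/-- elements of the commutator group which are congruent to one modulo the radical are trivial -/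
theorem eq_one_of_Jr [Finite A] (h : Loc F Hh Y 𝒯) {𝒯₁ : Set (Subgroup Aˣ)} (h1 : 𝒯₁ ⊆ 𝒯) (hn : Nm Hh (sSup 𝒯₁))
    {u : Aˣ} (hu : u ∈ Dr F) (hj : (u : A) - 1 ∈ Jr (Bd (sSup 𝒯₁))) : u = 1 := by
  have hB : ∀ v : Aˣ, (v : A) - 1 ∈ Jr (Bd (sSup 𝒯₁)) → (v : A) ∈ Bd (sSup 𝒯₁) := fun v hv => by
    simpa using add_mem (Jr_le hv) (one_mem _)
  let P : Subgroup Aˣ :=
    { carrier := {u | u ∈ Dr F ∧ (u : A) - 1 ∈ Jr (Bd (sSup 𝒯₁))}
      mul_mem' := by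
        rintro a b ⟨ha, ha'⟩ ⟨hb, hb'⟩
        refine ⟨mul_mem ha hb, ?_⟩
        have h2 := add_mem (Jr_mul_right ha' (hB b hb')) hb'
        rwa [sub_mul, one_mul, sub_add_sub_cancel] at h2
      one_mem' := ⟨one_mem _, by simp⟩
      inv_mem' := by
        rintro a ⟨ha, ha'⟩
        refine ⟨inv_mem ha, ?_⟩
        have h2 := Jr_star (fun _ => star_mem_Bd (sSup_ms h h1)) ha'
        rwa [star_sub, star_one, ← FR.Iso.inv_eq (Dr_le F ha)] at h2 }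
  have h2 : P = ⊥ := h.op P
    (fun v hv => h.cY v hv.1 fun y hy => Units.ext (y_comm_Bd h h1 hy (hB v hv.2)).symm)
    (fun g hg v hv => ⟨mul_mem (mul_mem (h.le hg) hv.1) (inv_mem (h.le hg)), by
      have h3 := cj_mem_Jr hn hg hv.2
      rwa [mul_sub, sub_mul, mul_one, Units.mul_inv] at h3⟩)
    (fun v hv => Jr_nil hv.2)
  have h3 : u ∈ P := ⟨hu, hj⟩
  rwa [h2] at h3

/-- **J1** -/
theorem boxJ1 : BoxJ1 := by
  intro A _ _ _ F Hh Y 𝒯 h hU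
  have hs : ∀ b ∈ Bd (sSup 𝒯), star b ∈ Bd (sSup 𝒯) := fun _ => star_mem_Bd (sSup_ms h le_rfl)
  have key : ∀ x : A, x * star x = 1 → x - 1 ∈ Jr (Bd (sSup 𝒯)) → x = 1 := fun x h1 h2 =>
    congrArg Units.val (eq_one_of_Jr h le_rfl (nm_sSup h) (u := mkU x h1)
      (hU.2 _ (Fwd.mem_Iso_max hU.1 h1) (Jr_nil h2)) h2)
  rcases Cl.SS.natCast_cases h.ss 2 with h2 | h2
  · refine semisimple_of_Jr fun x0 hx0 => ?_
    by_contra hne
    obtain ⟨x, hx, h0, h3⟩ := exists_ann ⟨x0, hx0, hne⟩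
    have h4 : ∀ y ∈ Jr (Bd (sSup 𝒯)), star y = y → y * y = 0 → y = 0 := fun y hy e1 e2 => by
      have h5 := key (1 + y) (by
        rw [star_add, star_one, e1, add_mul, mul_add, mul_add, e2, one_mul, one_mul, mul_one, add_zero, add_assoc,
          ← two_mul, ← Nat.cast_ofNat, h2, zero_mul, add_zero]) (by rwa [add_sub_cancel_left])
      exact add_eq_left.1 h5
    have hx' := Jr_star hs hx
    have h5 : x + star x = 0 := h4 _ (add_mem hx hx') (by rw [star_add, star_star, add_comm]) (by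
      rw [add_mul, mul_add, mul_add, (h3 x hx).1, (h3 _ hx').1, (h3 _ hx').2, ← star_mul, (h3 x hx).1]
      simp)
    have h6 : star x = x := by
      have h7 : x + x = 0 := by rw [← two_mul, ← Nat.cast_ofNat, h2, zero_mul]
      exact add_left_cancel (h5.trans h7.symm)
    exact h0 (h4 x hx h6 (h3 x hx).1)
  · refine semisimple_of_symm h.ss (sSup_perf h le_rfl) (sSup_ms h le_rfl) fun j hj => ?_
    have hy := sub_mem hj (Jr_star hs hj)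
    have hsy : star (j - star j) = -(j - star j) := by rw [star_sub, star_star, neg_sub]
    generalize hyy : j - star j = y at hy hsy
    obtain ⟨n, hn⟩ := Jr_nil hy
    have e1 : (1 - y) * ∑ i ∈ Finset.range n, y ^ i = 1 := by rw [mul_neg_geom_sum, hn, sub_zero]
    have e2 : (∑ i ∈ Finset.range n, y ^ i) * (1 - y) = 1 := by rw [geom_sum_mul_neg, hn, sub_zero]
    have hw : ∑ i ∈ Finset.range n, y ^ i ∈ Bd (sSup 𝒯) := sum_mem fun i _ => pow_mem (Jr_le hy) i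
    generalize ∑ i ∈ Finset.range n, y ^ i = w at e1 e2 hw
    have e3 : (1 + y) * star w = 1 := by
      have e4 := congrArg star e2
      rwa [star_mul, star_sub, star_one, hsy, sub_neg_eq_add] at e4
    have h3 := key (w * (1 + y)) (by
      rw [star_mul, star_add, star_one, hsy, mul_assoc, ← mul_assoc (1 + y),
        show (1 + y) * (1 + -y) = (1 - y) * (1 + y) by noncomm_ring, mul_assoc, e3, mul_one, e2]) (by
      have e4 : w * (1 + y) - 1 = w * (y + y) := by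
        nth_rewrite 2 [← e2]
        noncomm_ring
      rw [e4]
      exact Jr_mul_left hw (add_mem hy hy))
    have h4 : 1 + y = 1 - y := by
      have e4 := congrArg (· * (1 + y)) e1
      simp only [mul_assoc, h3, mul_one, one_mul] at e4
      exact e4.symm
    have h5 : ((2 : ℕ) : A) * y = 0 := by
      rw [Nat.cast_ofNat, two_mul, ← add_left_cancel_iff (a := (1 : A)), ← add_assoc, h4, sub_add_cancel, add_zero]
    rw [h2.mul_right_eq_zero] at h5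
    rw [h5, sub_eq_zero] at hyy
    exact hyy.symm

end Cfsg.Agent.Cam.Cl.JB
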