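import Cfsg.Agent.Cam.Cl.Mov

/-!
# Classical rows of S3689: components are pieces of blocks (helper65)
-/

set_option autoImplicit false

namespace Cfsg.Agent.Cam.Cl.Pc

open Cfsg Cfsg.Agent.DS.Cl
open scoped commutatorElement

/-- a subring that generates a star-simple ring over its centre is star-simple -/
theorem ss_sub {R B : Type} [Ring R] [StarRing R] [Ring B] [StarRing B] [Finite B] (φ : R →+* B)
    (hi : Function.Injective φ) (hs : ∀ x, φ (star x) = star (φ x)) (hB : SS B)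
    (hg : ∀ S : Subring B, Subring.center B ≤ S → (∀ x, φ x ∈ S) → S = ⊤) : SS R := by
  have := hB.nontrivial
  have : Nontrivial R := φ.domain_nontrivial
  have hs' : ∀ x ∈ φ.range, star x ∈ φ.range := by
    rintro _ ⟨x, rfl⟩
    exact ⟨star x, hs x⟩
  have h1 := semisimple_of_two hB hs' (by
    set I := Ideal.span ((Blk.ofSubring φ.range hs').val '' (Ring.jacobson (Blk.ofSubring φ.range hs').T))
    let S : Subring B :=
      { carrier := {x | ∀ a ∈ I, a * x ∈ I}
        mul_mem' := fun {x y} hx hy a ha => by rw [← mul_assoc]; exact hy _ (hx a ha)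
        one_mem' := fun a ha => by rwa [mul_one]
        add_mem' := fun {x y} hx hy a ha => by rw [mul_add]; exact add_mem (hx a ha) (hy a ha)
        zero_mem' := fun a _ => by rw [mul_zero]; exact zero_mem _
        neg_mem' := fun {x} hx a ha => by rw [mul_neg]; exact neg_mem (hx a ha) }
    have h1 : S = ⊤ := hg S (fun c hc a ha => by rw [cen_comm hc a]; exact Ideal.mul_mem_left _ c ha) fun x a ha => by
      have h2 : I ≤ rmul I (φ x) := by
        rw [Ideal.span_le]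
        rintro _ ⟨y, hy, rfl⟩
        exact Ideal.subset_span ⟨y * (Blk.ofSubring φ.range hs').mk' (φ x) ⟨x, rfl⟩, Ideal.mul_mem_right _ _ hy, rfl⟩
      exact h2 ha
    intro x hx a
    have h2 : a ∈ S := h1 ▸ Subring.mem_top a
    exact h2 x hx)
  let ψ : R →+* (Blk.ofSubring φ.range hs').T :=
    { toFun := fun x => (Blk.ofSubring φ.range hs').mk' (φ x) ⟨x, rfl⟩
      map_one' := Blk.val_inj _ φ.map_one
      map_mul' := fun x y => Blk.val_inj _ (φ.map_mul x y)
      map_zero' := Blk.val_inj _ φ.map_zero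
      map_add' := fun x y => Blk.val_inj _ (φ.map_add x y) }
  have h2 : Function.Bijective ψ := ⟨fun x y h => hi (congrArg (Blk.val _) h), by
    rintro ⟨_, x, rfl⟩
    exact ⟨x, rfl⟩⟩
  have h3 : IsSemisimpleRing R := (RingEquiv.ofBijective ψ h2).symm.isSemisimpleRing
  refine ss_of_idem fun e hc h4 h5 => ?_
  have h6 : Subring.centralizer {φ e} = ⊤ := hg _
    (fun c hc' y hy => by rw [Set.mem_singleton_iff.1 hy]; exact cen_comm hc' _)
    fun x y hy => by rw [Set.mem_singleton_iff.1 hy, ← map_mul, ← map_mul, cen_comm hc]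
  have h7 : φ e ∈ Subring.center B := Subring.mem_center_iff.2 fun g => by
    have h8 : g ∈ Subring.centralizer {φ e} := h6 ▸ Subring.mem_top g
    exact (h8 _ rfl).symm
  exact (hB.idem_symm h7 (by rw [← hs, h4]) (by rw [← map_mul, h5])).imp (fun h => hi (h.trans φ.map_zero.symm))
    fun h => hi (h.trans φ.map_one.symm)

variable {A : Type} [Ring A] [StarRing A]

section lam

variable (D : Blk A)

theorem val_e (x : D.T) : D.val x * D.e = D.val x := D.mul_e _ (D.val_mem x)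

theorem e_val (x : D.T) : D.e * D.val x = D.val x := D.e_mul _ (D.val_mem x)

theorem up_mul (x y : D.T) : (D.val x + (1 - D.e)) * D.val y = D.val (x * y) := by
  rw [add_mul, sub_mul, one_mul, e_val, sub_self, add_zero, D.val_mul]

theorem mul_up (x y : D.T) : D.val y * (D.val x + (1 - D.e)) = D.val (y * x) := by
  rw [mul_add, mul_sub, mul_one, val_e, sub_self, add_zero, D.val_mul]

theorem up_compl (x : D.T) : (D.val x + (1 - D.e)) * (1 - D.e) = 1 - D.e := by
  rw [add_mul, mul_sub, mul_one, val_e, sub_self, zero_add, mul_sub, mul_one, sub_mul, one_mul, D.idem, sub_self, sub_zero]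

theorem compl_up (x : D.T) : (1 - D.e) * (D.val x + (1 - D.e)) = 1 - D.e := by
  rw [mul_add, sub_mul, one_mul, e_val, sub_self, zero_add, mul_sub, mul_one, sub_mul, one_mul, D.idem, sub_self, sub_zero]

theorem up_up (x y : D.T) : (D.val x + (1 - D.e)) * (D.val y + (1 - D.e)) = D.val (x * y) + (1 - D.e) := by
  rw [mul_add, up_mul, up_compl]

/-- units of the block as units of the ring -/
def lam : D.Tˣ →* Aˣ where
  toFun u := ⟨D.val u + (1 - D.e), D.val (u⁻¹ : D.Tˣ) + (1 - D.e),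
    by rw [up_up, Units.mul_inv, D.val_one, add_sub_cancel], by rw [up_up, Units.inv_mul, D.val_one, add_sub_cancel]⟩
  map_one' := Units.ext (by
    change D.val 1 + (1 - D.e) = 1
    rw [D.val_one, add_sub_cancel])
  map_mul' a b := Units.ext (up_up D a b).symm

theorem lam_val (u : D.Tˣ) : (lam D u : A) = D.val u + (1 - D.e) := rfl

theorem lam_inj : Function.Injective (lam D) := fun _ _ h =>
  Units.ext (D.val_inj (add_right_cancel (congrArg Units.val h)))

theorem lam_mul (u : D.Tˣ) (x : D.T) : (lam D u : A) * D.val x = D.val (u * x) := up_mul D _ x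

theorem mul_lam (u : D.Tˣ) (x : D.T) : D.val x * (lam D u : A) = D.val (x * u) := mul_up D _ x

theorem lam_e (u : D.Tˣ) : (lam D u : A) * D.e = D.val u := by rw [← D.val_one, lam_mul, mul_one]

theorem e_lam (u : D.Tˣ) : D.e * (lam D u : A) = D.val u := by rw [← D.val_one, mul_lam, one_mul]

theorem lam_sub (u : D.Tˣ) : (lam D u : A) - 1 = D.val ((u : D.T) - 1) := by
  rw [lam_val, map_sub, D.val_one]; abel

theorem val_pow (x : D.T) (n : ℕ) : D.val x ^ (n + 1) = D.val (x ^ (n + 1)) := by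
  induction n with
  | zero => rw [zero_add, pow_one, pow_one]
  | succ n ih => rw [pow_succ, ih, pow_succ x (n + 1), D.val_mul]

theorem val_natCast (n : ℕ) : D.val (n : D.T) = (n : A) * D.e := by
  rw [← Nat.smul_one_eq_cast, map_nsmul, D.val_one, nsmul_eq_mul]

theorem uni_lam {v : D.Tˣ} (h : Uni v) : Uni (lam D v) := by
  obtain ⟨n, hn⟩ := h
  exact ⟨n + 1, by rw [lam_sub, val_pow, pow_succ, hn, zero_mul, map_zero]⟩

theorem lam_ne_one {v : D.Tˣ} (h : v ≠ 1) : lam D v ≠ 1 := fun h1 => h (lam_inj D (h1.trans (map_one _).symm))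

theorem hasUni {Z : Subgroup D.Tˣ} (h : HasUni Z) : HasUni (Z.map (lam D)) := by
  obtain ⟨v, hv, h1, h2⟩ := h
  exact ⟨_, ⟨v, hv, rfl⟩, lam_ne_one D h1, uni_lam D h2⟩

theorem noCen {Z : Subgroup D.Tˣ} (h : NoCen Z) : NoCen (Z.map (lam D)) := by
  rintro _ ⟨t, ht, rfl⟩ h1
  rw [h t ht fun s hs => lam_inj D (by rw [map_mul, map_mul]; exact h1 _ ⟨s, hs, rfl⟩), map_one]

theorem isUnit_nat [Finite A] (hA : SS A) (hD : SS D.T) {n : ℕ} (h : IsUnit (n : D.T)) : IsUnit (n : A) := by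
  refine (SS.natCast_cases hA n).resolve_left fun h0 => ?_
  have := hD.nontrivial
  have h1 : (n : D.T) = 0 := D.val_inj (by rw [val_natCast, h0, zero_mul, map_zero])
  rw [h1] at h
  exact not_isUnit_zero h

theorem tyI {Z : Subgroup D.Tˣ} (h : TyI Z) : TyI (Z.map (lam D)) := by
  rintro _ ⟨s, hs, rfl⟩ _ ⟨t, ht, rfl⟩
  have h1 : (lam D t : A) + ((lam D t)⁻¹ : Aˣ) = D.val ((t : D.T) + (t⁻¹ : D.Tˣ)) + (1 - D.e) + (1 - D.e) := by
    rw [← map_inv, lam_val, lam_val, map_add]; abel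
  rw [h1, mul_add, mul_add, add_mul, add_mul, lam_mul, mul_lam, h s hs t ht, lam_val, up_compl, compl_up]

theorem ty [Finite A] (hA : SS A) (hD : SS D.T) {Z : Subgroup D.Tˣ} (h : Ty Z 1) : Ty (Z.map (lam D)) D.e := by
  have := hD.nontrivial
  rcases h with ⟨v, hv, h1, h2, a, f, h3, h4, h5⟩ | ⟨v, hv, j, hj, h1, h2, h3⟩ | h | ⟨h1, h2, h3⟩ |
    ⟨h1, h2, h3, t, ht, h4, h5, s, hs, s', h6, h7⟩
  · refine Or.inl ⟨_, ⟨v, hv, rfl⟩, lam_ne_one D h1, uni_lam D h2, D.val a, D.val f, ?_, ?_, fun h6 => h5 (D.val_inj ?_)⟩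
    · rw [lam_sub, ← D.val_mul, h3, map_zero]
    · rw [lam_sub, ← D.val_mul, h4, map_zero]
    · rw [D.val_mul, D.val_mul, D.val_one, h6, map_zero]
  · obtain ⟨k, rfl⟩ : ∃ k, j = k + 1 := ⟨j - 1, by omega⟩
    refine Or.inr (Or.inl ⟨_, ⟨v, hv, rfl⟩, k + 1, hj, ?_, fun h4 => h2 (D.val_inj ?_), isUnit_nat D hA hD h3⟩)
    · rw [lam_sub, val_pow, h1, map_zero]
    · rw [← val_pow, ← lam_sub, h4, map_zero]
  · exact Or.inr (Or.inr (Or.inl (tyI D h)))
  · refine Or.inr (Or.inr (Or.inr (Or.inl ⟨by simpa using isUnit_nat D hA hD (n := 2) (by simpa using h1), noCen D h2, ?_⟩)))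
    rintro _ ⟨a, ha, rfl⟩ _ ⟨b, hb, rfl⟩ h4 h5 h6 h7 h8 h9
    have h10 := h3 a ha b hb (lam_inj D (by rw [map_mul, h4, map_one])) (lam_inj D (by rw [map_mul, h5, map_one]))
      (lam_inj D (by rw [map_mul, map_mul, h6])) (fun h => h7 (by rw [h, map_one])) (fun h => h8 (by rw [h, map_one]))
      fun h => h9 (by rw [h])
    have h11 : ∀ (u : D.Tˣ) (x : D.T), (1 + (lam D u : A)) * D.val x = D.val ((1 + (u : D.T)) * x) := fun u x => by
      rw [add_mul, add_mul, one_mul, one_mul, lam_mul, map_add]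
    rw [mul_assoc, ← D.val_one, h11, h11, ← mul_assoc, h10, map_zero]
  · refine Or.inr (Or.inr (Or.inr (Or.inr ⟨?_, noCen D h2, ?_, _, ⟨t, ht, rfl⟩, by rw [← map_pow, h4, map_one],
      lam_ne_one D h5, D.val s, ?_, D.val s', by rw [← D.val_mul, h6, D.val_one], ?_⟩)))
    · have h8 := SS.natCast_cases hA 2
      rw [Nat.cast_ofNat] at h8
      refine h8.resolve_right fun h9 => ?_
      have h10 := val_natCast D 2
      rw [Nat.cast_ofNat, Nat.cast_ofNat, h1, map_zero, eq_comm, h9.mul_right_eq_zero] at h10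
      exact one_ne_zero (D.val_inj (D.val_one.trans (h10.trans (map_zero D.val).symm)))
    · rintro _ ⟨w, hw, rfl⟩ h8 h9
      have h10 := congrArg D.val (h3 w hw (lam_inj D (by rw [map_pow, h8, map_one])) fun h => h9 (by rw [h, map_one]))
      simp only [← Units.val_pow_eq_pow_val, ← map_pow, add_mul, lam_e, one_mul, mul_one, map_add, map_zero,
        D.val_one] at h10 ⊢
      exact h10
    · let S : Subring D.T :=
        { carrier := {x | D.val x ∈ Subring.closure (insert D.e ((fun u : Aˣ => (u : A)) '' (Z.map (lam D))))}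
          mul_mem' := fun {x y} hx hy => by
            change D.val x * D.val y ∈ Subring.closure _
            exact mul_mem hx hy
          one_mem' := Subring.subset_closure (Set.mem_insert _ _)
          add_mem' := fun {x y} hx hy => by
            change D.val (x + y) ∈ Subring.closure _
            rw [map_add]
            exact add_mem hx hy
          zero_mem' := by
            change D.val 0 ∈ Subring.closure _
            rw [map_zero]
            exact zero_mem _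
          neg_mem' := fun {x} hx => by
            change D.val (-x) ∈ Subring.closure _
            rw [map_neg]
            exact neg_mem hx }
      have h8 : Subring.closure (insert 1 ((fun u : D.Tˣ => (u : D.T)) '' Z)) ≤ S := by
        rw [Subring.closure_le]
        rintro x (rfl | ⟨z, hz, rfl⟩)
        · exact S.one_mem
        · change D.val z ∈ Subring.closure _
          rw [← lam_e]
          exact mul_mem (Subring.subset_closure (Set.mem_insert_of_mem _ ⟨_, ⟨z, hz, rfl⟩, rfl⟩))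
            (Subring.subset_closure (Set.mem_insert _ _))
      exact h8 hs
    · rw [mul_lam, h7, ← Units.val_pow_eq_pow_val, ← Units.val_pow_eq_pow_val, ← map_pow, lam_mul]

/-- the block generated by a piece -/
theorem piece [Finite A] (hc : ∀ c ∈ Subring.center A, c * D.e ∈ D.car) {Z : Subgroup D.Tˣ}
    (hZ : ∀ z ∈ Z, (z : D.T) * star (z : D.T) = 1) (hne : Z ≠ ⊥)
    (hB : SS (Blk.ofSubring (Bd Z) fun _ => star_mem_Bd hZ).T) : ∃ D' : Blk A, Sh (Z.map (lam D)) D' ∧ D'.e = D.e := by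
  set T := Z.map (lam D)
  have h1 : ∀ t ∈ T, (t : A) * star (t : A) = 1 := by
    rintro _ ⟨z, hz, rfl⟩
    rw [lam_val, star_add, star_sub, star_one, D.star_e, ← D.val_star, up_up, hZ z hz, D.val_one, add_sub_cancel]
  have h2 : ∀ x ∈ Bd T, D.e * x = x * D.e := fun x hx => comm_Bd (by
    rintro _ ⟨z, -, rfl⟩
    rw [e_lam, lam_e]) hx
  have h3 : ∀ x ∈ Bd T, ∃ b ∈ Bd Z, D.val b = x * D.e := by
    let S : Subring A :=
      { carrier := {x | ∃ b ∈ Bd Z, D.val b = x * D.e}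
        mul_mem' := by
          rintro x y ⟨a, ha, hx⟩ ⟨b, hb, hy⟩
          exact ⟨a * b, mul_mem ha hb, by rw [D.val_mul, hx, mul_assoc, e_val, hy, mul_assoc]⟩
        one_mem' := ⟨1, one_mem _, by rw [D.val_one, one_mul]⟩
        add_mem' := by
          rintro x y ⟨a, ha, hx⟩ ⟨b, hb, hy⟩
          exact ⟨a + b, add_mem ha hb, by rw [map_add, hx, hy, add_mul]⟩
        zero_mem' := ⟨0, zero_mem _, by rw [map_zero, zero_mul]⟩
        neg_mem' := by
          rintro x ⟨a, ha, hx⟩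
          exact ⟨-a, neg_mem ha, by rw [map_neg, hx, neg_mul]⟩ }
    have h3 : Bd T ≤ S := Bd_le (fun c hc' => ⟨D.mk' _ (hc c hc'), cen_mem_Bd _ (D.mem_center_iff.2 fun y hy => by
      rw [D.val_mk', ← mul_assoc, cen_comm hc', mul_assoc, D.mul_e y hy, mul_assoc, D.e_mul y hy]), rfl⟩) (by
      rintro _ ⟨z, hz, rfl⟩
      exact ⟨z, mem_Bd hz, (lam_e D z).symm⟩)
    exact fun x hx => h3 hx
  let D' : Blk A :=
    { car :=
        { carrier := {y | ∃ x ∈ Bd T, y = x * D.e}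
          add_mem' := by
            rintro _ _ ⟨a, ha, rfl⟩ ⟨b, hb, rfl⟩
            exact ⟨a + b, add_mem ha hb, (add_mul _ _ _).symm⟩
          zero_mem' := ⟨0, zero_mem _, (zero_mul _).symm⟩
          mul_mem' := by
            rintro _ _ ⟨a, ha, rfl⟩ ⟨b, hb, rfl⟩
            exact ⟨a * b, mul_mem ha hb, by rw [mul_assoc, ← mul_assoc D.e, h2 b hb, mul_assoc, D.idem, mul_assoc]⟩
          neg_mem' := by
            rintro _ ⟨a, ha, rfl⟩
            exact ⟨-a, neg_mem ha, (neg_mul _ _).symm⟩ }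
      e := D.e
      e_mem := ⟨1, one_mem _, (one_mul _).symm⟩
      e_mul := by
        rintro _ ⟨a, ha, rfl⟩
        rw [← mul_assoc, h2 a ha, mul_assoc, D.idem]
      mul_e := by
        rintro _ ⟨a, -, rfl⟩
        rw [mul_assoc, D.idem]
      star_mem := by
        rintro _ ⟨a, ha, rfl⟩
        exact ⟨star a, star_mem_Bd h1 ha, by rw [star_mul, D.star_e, h2 _ (star_mem_Bd h1 ha)]⟩ }
  have h4 : ∀ y : D'.T, ∃ b ∈ Bd Z, D.val b = D'.val y := by
    rintro ⟨_, x, hx, rfl⟩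
    exact h3 x hx
  choose g hg1 hg2 using h4
  set B := Blk.ofSubring (Bd Z) fun _ => star_mem_Bd hZ
  let φ : D'.T →+* B.T :=
    { toFun := fun y => B.mk' (g y) (hg1 y)
      map_one' := B.val_inj (D.val_inj (hg2 1))
      map_mul' := fun x y => B.val_inj (D.val_inj ((hg2 _).trans (by
        change D'.val x * D'.val y = D.val (g x) * D.val (g y)
        rw [hg2, hg2])))
      map_zero' := B.val_inj (D.val_inj (hg2 0))
      map_add' := fun x y => B.val_inj (D.val_inj ((hg2 _).trans (by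
        change D'.val x + D'.val y = D.val (g x) + D.val (g y)
        rw [hg2, hg2]))) }
  have hφ : ∀ y, D.val (B.val (φ y)) = D'.val y := hg2
  have h5 : SS D'.T := ss_sub φ (fun x y h => D'.val_inj (by rw [← hφ, ← hφ, h]))
    (fun x => B.val_inj (D.val_inj (by rw [hφ, B.val_star, D.val_star, hφ, D'.val_star]))) hB fun S hS1 hS2 => by
      let S' : Subring D.T :=
        { carrier := {x | ∃ b ∈ S, B.val b = x}
          mul_mem' := by
            rintro _ _ ⟨a, ha, rfl⟩ ⟨b, hb, rfl⟩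
            exact ⟨a * b, mul_mem ha hb, rfl⟩
          one_mem' := ⟨1, one_mem _, rfl⟩
          add_mem' := by
            rintro _ _ ⟨a, ha, rfl⟩ ⟨b, hb, rfl⟩
            exact ⟨a + b, add_mem ha hb, rfl⟩
          zero_mem' := ⟨0, zero_mem _, rfl⟩
          neg_mem' := by
            rintro _ ⟨a, ha, rfl⟩
            exact ⟨-a, neg_mem ha, rfl⟩ }
      have h5 : Bd Z ≤ S' := Bd_le (fun c hc' => ⟨B.mk' c (cen_mem_Bd _ hc'),
        hS1 (B.mem_center_iff.2 fun y _ => cen_comm hc' y), rfl⟩) fun z hz =>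
          ⟨φ (D'.mk' _ ⟨_, mem_Bd (T := T) ⟨z, hz, rfl⟩, rfl⟩), hS2 _, D.val_inj (by rw [hφ, D'.val_mk', lam_e])⟩
      rw [eq_top_iff]
      intro b _
      obtain ⟨b', hb', h6⟩ := h5 (B.val_mem b)
      rwa [← B.val_inj h6]
  have h6 : ∀ t ∈ T, (t : A) - 1 ∈ D'.car := by
    rintro _ ⟨z, hz, rfl⟩
    exact ⟨_, sub_mem (mem_Bd (T := T) ⟨z, hz, rfl⟩) (one_mem _), by rw [lam_sub, val_e]⟩
  have h7 : D.e ∈ Bd T := by
    rcases D'.ss_elim h5 (D'.car.toAddSubgroup ⊓ (Bd T).toAddSubgroup) (fun x hx => hx.1)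
      (by
        rintro x ⟨hx1, hx2⟩ _ ⟨a, ha, rfl⟩
        refine ⟨D'.car.mul_mem ⟨a, ha, rfl⟩ hx1, ?_⟩
        rw [mul_assoc, show D.e * x = x from D'.e_mul x hx1]
        exact (Bd T).mul_mem ha hx2)
      (fun x hx => ⟨D'.star_mem x hx.1, star_mem_Bd h1 hx.2⟩) with h7 | h7
    · exfalso
      refine hne (eq_bot_iff.2 fun z hz => lam_inj D ?_)
      have h8 : (lam D z : A) - 1 ∈ D'.car.toAddSubgroup ⊓ (Bd T).toAddSubgroup :=
        ⟨h6 _ ⟨z, hz, rfl⟩, (Bd T).sub_mem (mem_Bd (T := T) ⟨z, hz, rfl⟩) (Bd T).one_mem⟩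
      rw [h7, AddSubgroup.mem_bot, sub_eq_zero] at h8
      rw [map_one]
      exact Units.ext h8
    · exact h7.2
  exact ⟨D', ⟨h5, h6, by
    rintro _ ⟨a, ha, rfl⟩
    exact mul_mem ha h7⟩, rfl⟩

end lam

theorem boxPc (hQS : BoxQS) : BoxPc := by
  intro A _ _ _ F Hh Y 𝒯 c D FD hD hc hup hY hT
  -- the restrictions of the members
  have hR : ∀ T ∈ 𝒯, ∃ ρ : T →* D.Tˣ, ρ.range ≤ Dr FD ∧ ρ.range ≤ ⁅ρ.range, ρ.range⁆ ∧
      ∀ t : T, D.val (ρ t) = t.1 * D.e := fun T hT' => by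
    choose u hu1 hu2 using fun t : T => (hT T hT' t t.2).2
    let ρ : T →* D.Tˣ := MonoidHom.mk' u fun a b => Units.ext (D.val_inj (by
      rw [Units.val_mul, D.val_mul, hu2 a, mul_assoc, e_val, hu2, hu2, ← mul_assoc]; rfl))
    have h1 := Mov.perf_range (c.mem T hT').qs.perf ρ
    exact ⟨ρ, le_Dr_of_perf h1 (by rintro _ ⟨t, rfl⟩; exact hu1 t), h1, hu2⟩
  have h1 : ∀ {t : Aˣ} {u : D.Tˣ}, (t : A) * D.e = D.e * t → D.val u = t * D.e → ∀ w, t * lam D w * t⁻¹ = lam D (u * w * u⁻¹) :=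
    fun {t u} h1 h2 w => by
    rw [mul_inv_eq_iff_eq_mul]
    apply Units.ext
    rw [Units.val_mul, Units.val_mul, lam_val, lam_val, mul_add, add_mul, mul_sub, sub_mul, h1, mul_one, one_mul,
      ← e_val D w, ← mul_assoc, ← h2, ← val_e D (u * w * u⁻¹ : D.Tˣ), mul_assoc, ← h1, ← h2, ← D.val_mul, ← D.val_mul,
      ← Units.val_mul, ← Units.val_mul, inv_mul_cancel_right]
  -- every member is a piece or centralizes it
  have h2 : ∀ Z : Subgroup D.Tˣ, QS Z → Z ≤ Dr FD → Nm (Dr FD) Z → ∀ T ∈ 𝒯, T = Z.map (lam D) ∨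
      ∀ t ∈ T, ∀ u : D.Tˣ, D.val u = t * D.e → ∀ z ∈ Z, u * z = z * u := fun Z hq hle hn T hT' => by
    obtain ⟨ρ, hρ1, -, hρ2⟩ := hR T hT'
    have h2 : QS (Z.map (lam D)) := hq.map _ fun t _ ht s _ => by
      rw [lam_inj D (ht.trans (map_one _).symm), one_mul, mul_one]
    have h3 : Z.map (lam D) ≤ Dr F := le_Dr_of_perf h2.perf (by
      rintro _ ⟨z, hz, rfl⟩
      exact hup z (Dr_le FD (hle hz)) _ rfl)
    have h4 : Z.map (lam D) ≤ Hh := fun p hp => c.cY p (h3 hp) fun y hy => Units.ext (by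
      obtain ⟨z, -, rfl⟩ := hp
      rw [Units.val_mul, Units.val_mul, lam_val, add_mul, mul_add, hY y hy _ (D.val_mem _), sub_mul, mul_sub,
        hY y hy _ D.e_mem, one_mul, mul_one])
    refine (h2.eq_or_cm_of_fam (fun T hT => (c.mem T hT).qs) c.comm (fun h hh => c.inv h (h4 hh)) hT' ?_).imp id
      fun h5 t ht u hu z hz => ?_
    · rintro t ht _ ⟨z, hz, rfl⟩
      rw [h1 (hT T hT' t ht).1 (hρ2 ⟨t, ht⟩)]
      exact ⟨_, hn _ (hρ1 ⟨_, rfl⟩) z hz, rfl⟩
    · have h6 := h1 (hT T hT' t ht).1 hu z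
      rw [← h5 _ ⟨z, hz, rfl⟩ t ht, mul_inv_cancel_right] at h6
      rw [← mul_inv_eq_iff_eq_mul, ← lam_inj D h6]
  -- a member centralizing the commutator group is trivial on the block
  have h3 : ∀ T ∈ 𝒯, (∀ t ∈ T, ∀ u : D.Tˣ, D.val u = t * D.e → ∀ z ∈ Dr FD, u * z = z * u) → ∀ t ∈ T, (t : A) * D.e = D.e :=
    fun T hT' h t ht => by
    obtain ⟨ρ, hρ1, hρ2, hρ3⟩ := hR T hT'
    have h3 := eq_bot_of_perf_cm hρ2 (by
      rintro _ ⟨a, rfl⟩ z hz
      exact h a a.2 _ (hρ3 a) z (hρ1 hz))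
    have h4 : ρ ⟨t, ht⟩ ∈ ρ.range := ⟨_, rfl⟩
    rw [h3, Subgroup.mem_bot] at h4
    have h5 := hρ3 ⟨t, ht⟩
    rw [h4] at h5
    exact h5.symm
  have h4 : ∀ T ∈ 𝒯, (∀ t ∈ T, ((t : A) - 1) * D.e = t - 1) → ¬ ∀ t ∈ T, (t : A) * D.e = D.e := fun T hT' h4 h5 =>
    (c.mem T hT').qs.ne_bot (eq_bot_iff.2 fun t ht => by
      have h6 := h4 t ht
      rw [sub_mul, h5 t ht, one_mul, sub_self, eq_comm, sub_eq_zero] at h6
      exact Units.ext h6)
  rintro T hT' ⟨t, ht, hte⟩
  have hte' : ¬ ∀ t ∈ T, (t : A) * D.e = D.e := fun h => hte (h t ht)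
  rcases hQS D.T hD FD with h5 | ⟨hq, hsp, hu, hty⟩ | ⟨-, Y₁, Y₂, hsup, hcm, hZ⟩
  · exfalso
    obtain ⟨ρ, hρ1, hρ2, hρ3⟩ := hR T hT'
    have h6 : Group.IsSolvable ρ.range := Group.isSolvable_of_isSolvable_injective (Subgroup.inclusion_injective hρ1)
    have h7 : ρ ⟨t, ht⟩ ∈ ρ.range := ⟨_, rfl⟩
    rw [eq_bot_of_perf_solvable hρ2 h6, Subgroup.mem_bot] at h7
    have h8 := hρ3 ⟨t, ht⟩
    rw [h7] at h8
    exact hte h8.symm
  · have h5 : ∀ T ∈ 𝒯, (¬ ∀ t ∈ T, (t : A) * D.e = D.e) → T = (Dr FD).map (lam D) := fun T hT' h =>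
      (h2 _ hq le_rfl (nm_self _) T hT').resolve_right fun h5 => h (h3 T hT' h5)
    have hsp' : Bd (Dr FD) = ⊤ := hsp
    have h6 : ∀ z ∈ Dr FD, (z : D.T) * star (z : D.T) = 1 := fun z hz => (Dr_le FD hz).1
    obtain ⟨D', hD', he⟩ := piece D hc h6 hq.ne_bot (Blk.ss_of _ (by have := hD.nontrivial; exact one_ne_zero)
      fun I _ hI1 hI2 => by
        let J : Ideal D.T := { I with smul_mem' := fun a x hx => hI1 x hx a (show a ∈ Bd (Dr FD) from hsp' ▸ trivial) }
        refine (hD.2 J (fun x hx a => ?_) hI2).imp (fun h => ?_) fun h => ?_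
        · have h7 := hI2 _ (J.mul_mem_left (star a) (hI2 x hx))
          rwa [star_mul, star_star, star_star] at h7
        · rw [eq_bot_iff]
          intro x hx
          have h7 : x ∈ J := hx
          rwa [h] at h7
        · have h7 : (1 : D.T) ∈ J := h ▸ trivial
          exact h7)
    obtain rfl := h5 T hT' hte'
    refine ⟨fun T₁ h₁ T₂ _ h6 _ h7 _ => absurd (h5 T₁ h₁ (h4 T₁ h₁ h6)) h7, hasUni D hu, D', hD', he,
      hty.imp (ty D c.ss hD) fun h => ⟨h, fun z hz h7 x hx => ?_⟩⟩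
    exact congrArg D.val (comm_Bd (T := Dr FD) (z := D.mk' z hz) (x := D.mk' x hx) (fun u hu => D.val_inj (by
      have h8 := h7 _ ⟨u, hu, rfl⟩
      rwa [← D.val_mk' z hz, mul_lam, lam_mul] at h8)) (hsp' ▸ trivial))
  · have hle : ∀ Z ∈ ({Y₁, Y₂} : Set (Subgroup D.Tˣ)), Z ≤ Dr FD ∧ Nm (Dr FD) Z := by
      rintro Z (rfl | rfl)
      · exact ⟨hsup ▸ le_sup_left, hsup ▸ (nm_self _).sup_left hcm.symm.nm⟩
      · exact ⟨hsup ▸ le_sup_right, hsup ▸ hcm.nm.sup_left (nm_self _)⟩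
    have h5 : ∀ T ∈ 𝒯, (¬ ∀ t ∈ T, (t : A) * D.e = D.e) → ∃ Z ∈ ({Y₁, Y₂} : Set (Subgroup D.Tˣ)), T = Z.map (lam D) :=
      fun T hT' h => by
      by_contra h5
      push Not at h5
      have h6 := fun Z hZ' => (h2 Z (hZ Z hZ').1 (hle Z hZ').1 (hle Z hZ').2 T hT').resolve_left (h5 Z hZ')
      refine h (h3 T hT' fun t ht u hu z hz => ?_)
      have h7 : Dr FD ≤ Subgroup.centralizer {u} := hsup ▸ sup_le
        (fun z hz y hy => by rw [Set.mem_singleton_iff.1 hy]; exact h6 Y₁ (Or.inl rfl) t ht u hu z hz)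
        fun z hz y hy => by rw [Set.mem_singleton_iff.1 hy]; exact h6 Y₂ (Or.inr rfl) t ht u hu z hz
      exact h7 hz u rfl
    obtain ⟨Z, hZ', rfl⟩ := h5 T hT' hte'
    obtain ⟨hq, hu, hty, hsi⟩ := hZ Z hZ'
    have h6 : ∀ z ∈ Z, (z : D.T) * star (z : D.T) = 1 := fun z hz => (Dr_le FD ((hle Z hZ').1 hz)).1
    obtain ⟨D', hD', he⟩ := piece D hc h6 hq.ne_bot (Blk.ss_of _ (by have := hD.nontrivial; exact one_ne_zero)
      fun I hI0 hI1 hI2 => by
        let J : TwoSidedIdeal (Bd Z) := TwoSidedIdeal.mk' {x | x.1 ∈ I} I.zero_mem (fun hx hy => I.add_mem hx hy)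
          (fun hx => I.neg_mem hx) (fun {x y} hy => hI1 _ hy _ x.2) fun {x y} hx => by
            have h7 := hI2 _ (hI1 _ (hI2 _ hx) _ (star_mem_Bd h6 y.2))
            rwa [star_mul, star_star, star_star] at h7
        refine (hsi.simple.eq_bot_or_eq_top J).imp (fun h => ?_) fun h => ?_
        · rw [eq_bot_iff]
          intro x hx
          have h7 : (⟨x, hI0 x hx⟩ : Bd Z) ∈ J := (TwoSidedIdeal.mem_mk' ..).2 hx
          rw [h, TwoSidedIdeal.mem_bot] at h7
          exact congrArg Subtype.val h7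
        · have h7 : (1 : Bd Z) ∈ J := h ▸ TwoSidedIdeal.mem_top _
          rw [TwoSidedIdeal.mem_mk'] at h7
          exact h7)
    refine ⟨fun T₁ h₁ T₂ h₂ h7 h8 h9 h10 => ?_, hasUni D hu, D', hD', he, Or.inl (Or.inr (Or.inr (Or.inl (tyI D hty))))⟩
    obtain ⟨Z₁, hZ₁, rfl⟩ := h5 T₁ h₁ (h4 T₁ h₁ h7)
    obtain ⟨Z₂, hZ₂, rfl⟩ := h5 T₂ h₂ (h4 T₂ h₂ h8)
    rcases hZ' with rfl | rfl <;> rcases hZ₁ with rfl | rfl <;> rcases hZ₂ with rfl | rfl <;>
      first | rfl | exact absurd rfl h9 | exact absurd rfl h10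

end Cfsg.Agent.Cam.Cl.Pc
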