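import Cfsg.Agent.Cam.Cl.TopDat
import Cfsg.Agent.ClassicalGeometry.OrthSemiForms

/-!
# S3689, classical groups: `BoxTop` (helper12)
-/

set_option autoImplicit false

namespace Cfsg.Agent.Cam.Cl.Tp

open Cfsg Cfsg.Agent.DS.Cl Cfsg.Agent.DS.Cl.Fwd Cfsg.Agent.Cam.Cl

theorem top_of {T : Type} [Group T] {A : Type} [Ring A] [StarRing A] [Finite A] {R : FR A} {K : Type} [Group K]
    {φ : K →* Aˣ} (h : Dat R φ) (e : T ≃* K ⧸ Subgroup.center K) {p : ℕ} (hp : p.Prime) (hA : (p : A) = 0)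
    (hT : IsPSLChar p T ∨ IsPSpChar p T ∨ IsPSUChar p T ∨ IsPOmegaOddChar p T ∨ IsPOmegaPlusChar p T ∨
      IsPOmegaMinusChar p T) (hU : UP R ∨ O2 R) : Top T := by
  obtain ⟨f⟩ := h.equiv
  exact ⟨p, A, inferInstance, inferInstance, inferInstance, R, f.trans e.symm, hp, hA, hT, h.ss, hU⟩

theorem exists_ne_of_card {F : Type} [Field F] [Fintype F] (h : 3 ≤ Fintype.card F) : ∃ a : F, a ≠ 0 ∧ a ≠ 1 := by
  classical
  by_contra H
  push Not at H
  have h3 : (Finset.univ : Finset F) ⊆ {0, 1} := fun a _ => by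
    by_cases ha : a = 0
    · simp [ha]
    · simp [H a ha]
  have h4 := (Finset.card_le_card h3).trans Finset.card_le_two
  rw [Finset.card_univ] at h4
  omega

section orth

open QuadraticMap Cfsg.Agent.LieClassical.OrthCore Cfsg.Agent.LieClassical.OrthTrans
open Cfsg.Agent.LieClassical.OrthForms Cfsg.Agent.ClassicalGeometry.OrthSemiForms

theorem top_orth {T : Type} [Group T] {F ι : Type} [Field F] [Fintype F] [Fintype ι] [DecidableEq ι]
    {Q : QuadraticForm F (ι → F)} (hG : Good Q) {f : (ι → F) → F} (hf : ⇑Q = f) (e : T ≃* POmega F f) {p : ℕ}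
    [CharP F p] (hT : IsPSLChar p T ∨ IsPSpChar p T ∨ IsPSUChar p T ∨ IsPOmegaOddChar p T ∨ IsPOmegaPlusChar p T ∨
      IsPOmegaMinusChar p T) : Top T := by
  subst hf
  have hp : p.Prime := CharP.char_is_prime F p
  obtain ⟨l, hll, hl⟩ := exists_lO hG.nondeg
  let R : FR (orH Q hG.nondeg).EB := ⟨l, Lmin _, hll, Or.inl rfl⟩
  have hD : Dat R _ := datO hG rfl hl
  have hA : (p : (orH Q hG.nondeg).EB) = 0 := eb_char _ (CharP.cast_eq_zero F p)
  refine top_of hD (e.trans (pomegaEquiv hG)) hp hA hT ?_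
  by_cases h2 : (2 : F) = 0
  · exact Or.inr ⟨F, ι → F, inferInstance, inferInstance, inferInstance, inferInstance, inferInstance, Q,
      RingEquiv.refl _, hG, h2, rfl, fun a u v => ((orH Q hG.nondeg).b_star a u v).symm, hl⟩
  · left
    have := hD.ss.1
    have hu : IsUnit (2 : (orH Q hG.nondeg).EB) := by
      have h3 := eb_natCast (orH Q hG.nondeg) 2
      rw [Nat.cast_ofNat, Nat.cast_ofNat] at h3
      rw [h3]
      exact (IsUnit.mk0 _ h2).map (algebraMap F (Module.End F (ι → F)))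
    have hp2 : Nat.Coprime 2 p := by
      rw [Nat.coprime_primes Nat.prime_two hp]
      rintro rfl
      exact h2 (by exact_mod_cast CharP.cast_eq_zero F 2)
    refine up_of_pow (Lmin_eq_Lmax hu) hp hA hp2 fun u hu' => ?_
    rw [← isoO hG.nondeg rfl hl] at hu'
    obtain ⟨g, hg, rfl⟩ := hu'
    rw [← hD.range, pow_two, ← map_mul]
    exact ⟨⟨_, sq_mem_E hG hg⟩, rfl⟩

/-- **[Top]** -/
theorem boxTop : BoxTop := by
  rintro T _ (⟨F, _, _, n, hn, hn2, ⟨e⟩⟩ | ⟨F, _, _, m, hm, hm2, ⟨e⟩⟩ | ⟨F, _, _, n, q, hF, hn, h32, ⟨e⟩⟩ |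
    ⟨F, _, _, m, hm, hq, ⟨e⟩⟩ | ⟨F, _, _, m, hm, ⟨e⟩⟩ | ⟨F, _, _, m, a, b, hm, hab, ⟨e⟩⟩)
  all_goals
    obtain ⟨p, hchar⟩ := CharP.exists F
    have hp : p.Prime := CharP.char_is_prime F p
    have hp0 : (p : F) = 0 := CharP.cast_eq_zero F p
  · have hD := datL (F := F) hn fun h => exists_ne_of_card (by have := hn2 h; omega)
    have := hD.ss.1
    refine top_of hD e hp (charL _ F hp0)
      (Or.inl ⟨F, inferInstance, inferInstance, hchar, n, hn, hn2, ⟨e⟩⟩)
      (Or.inl (up_of_pow rfl hp (charL _ F hp0) (card_coprime F p) fun u hu => ?_))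
    rw [← hD.range]
    exact powL hu
  · obtain ⟨l, hl⟩ := exists_lSp m F
    let R : FR (spH m F).EB := ⟨l, Lmax _, hl, Or.inr rfl⟩
    have hperf : commutator (Matrix.symplecticGroup (Fin m) F) = ⊤ := by
      refine Cfsg.Agent.LieClassical.SympPerfect.commutator_eq_top ?_
      rcases (by omega : m = 2 ∨ 3 ≤ m) with h | h
      · exact Or.inr (Or.inl ⟨h, hm2 h⟩)
      · exact Or.inl h
    have hD : Dat R _ := datSp (by omega) hperf rfl
    have := hD.ss.1
    refine top_of hD e hp (eb_char _ hp0)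
      (Or.inr (Or.inl ⟨F, inferInstance, inferInstance, hchar, m, hm, hm2, ⟨e⟩⟩))
      (Or.inl ⟨rfl, fun u hu _ => ?_⟩)
    rw [← hD.range, isoSp (R := R) rfl]
    exact hu
  · obtain ⟨l, hl⟩ := exists_lU hF n
    let R : FR (unH n hF).EB := ⟨l, Lmax _, hl, Or.inr rfl⟩
    have hD : Dat R _ := datU hF (by omega) (Cfsg.Agent.LieClassical.HermPerfect.commutator_SU_eq_top hF hn h32) rfl
    have := hD.ss.1
    refine top_of hD e hp (eb_char _ hp0)
      (Or.inr (Or.inr (Or.inl ⟨F, inferInstance, inferInstance, hchar, n, q, hF, hn, h32, ⟨e⟩⟩)))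
      (Or.inl (up_of_pow rfl hp (eb_char _ hp0) (card_coprime F p) fun u hu => ?_))
    rw [← hD.range]
    exact powU hF hu
  · have h2 : (2 : F) ≠ 0 := by
      intro h2
      have h3 : ringChar F = 2 := (ringChar.eq F p).trans ((Nat.prime_dvd_prime_iff_eq hp Nat.prime_two).1
        ((CharP.cast_eq_zero_iff F p 2).1 (by exact_mod_cast h2)))
      have h4 := FiniteField.even_card_of_char_two h3
      obtain ⟨k, hk⟩ := hq
      omega
    exact top_orth (good_odd (by omega) h2) (coe_oddForm _ _) e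
      (Or.inr (Or.inr (Or.inr (Or.inl ⟨F, inferInstance, inferInstance, hchar, m, hm, hq, ⟨e⟩⟩))))
  · exact top_orth (good_plus (by omega)) (coe_plusForm _ _) e
      (Or.inr (Or.inr (Or.inr (Or.inr (Or.inl ⟨F, inferInstance, inferInstance, hchar, m, hm, ⟨e⟩⟩)))))
  · exact top_orth (good_minus (by omega) a b hab) (coe_minusForm _ _ a b) e
      (Or.inr (Or.inr (Or.inr (Or.inr (Or.inr ⟨F, inferInstance, inferInstance, hchar, m, a, b, hm, hab, ⟨e⟩⟩)))))

end orth

end Cfsg.Agent.Cam.Cl.Tp
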