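import Cfsg.Agent.Cam.Cl.Gen
import Cfsg.Agent.Cam.Cl.Pc
import Cfsg.Agent.Cam.Cl.J1
import Cfsg.Agent.Cam.Cl.Bk
import Cfsg.Agent.Cam.Cl.Top

/-!
# Classical rows of S3689: assembly (helper65)
-/

set_option autoImplicit false

namespace Cfsg.Agent.Cam.Cl.Asm

open Cfsg Cfsg.Agent.DS.Cl

theorem boxST (hQS : BoxQS) (hO2 : BoxO2) : BoxST := by
  intro A _ _ _ F Hh Y 𝒯 c hF T hT
  rcases hF with hF | hF
  · obtain ⟨h1, h2⟩ := JB.boxBk (Pc.boxPc hQS) A F Hh Y 𝒯 𝒯 c le_rfl (fun T h1 h2 => absurd h1 h2)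
      (JB.boxJ1 A F Hh Y 𝒯 c hF) (fun u _ _ hu => Fwd.mem_Iso_max hF.1 hu) T hT
    exact ⟨Or.inl h1, Or.inr h2⟩
  · exact hO2 A F Hh Y 𝒯 c hF T hT

theorem row (hQS : BoxQS) (hO2 : BoxO2) (hCyc : BoxCyc) (big : Big) (red : Red) : Row (fun T _ => Top T) :=
  Gen.boxGen (boxST hQS hO2) Mov.boxMov hCyc big red

/-- the six classical rows -/
theorem rows (hQS : BoxQS) (hO2 : BoxO2) (hCyc : BoxCyc) :
    BoxPSL ∧ BoxPSp ∧ BoxPSU ∧ BoxOOdd ∧ BoxOPlus ∧ BoxOMinus :=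
  ⟨fun big red G _ _ S H g c h => row hQS hO2 hCyc big red G S H g c (Tp.boxTop S (Or.inl h)),
    fun big red G _ _ S H g c h => row hQS hO2 hCyc big red G S H g c (Tp.boxTop S (Or.inr (Or.inl h))),
    fun big red G _ _ S H g c h => row hQS hO2 hCyc big red G S H g c (Tp.boxTop S (Or.inr (Or.inr (Or.inl h)))),
    fun big red G _ _ S H g c h =>
      row hQS hO2 hCyc big red G S H g c (Tp.boxTop S (Or.inr (Or.inr (Or.inr (Or.inl h))))),
    fun big red G _ _ S H g c h =>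
      row hQS hO2 hCyc big red G S H g c (Tp.boxTop S (Or.inr (Or.inr (Or.inr (Or.inr (Or.inl h)))))),
    fun big red G _ _ S H g c h =>
      row hQS hO2 hCyc big red G S H g c (Tp.boxTop S (Or.inr (Or.inr (Or.inr (Or.inr (Or.inr h))))))⟩

end Cfsg.Agent.Cam.Cl.Asm
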