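import Cfsg.Agent.Cam.Cl.Iface
import Cfsg.Agent.DS.Cl.Inv

/-!
# Classical rows of S3689: shared tools (helper65)
-/

set_option autoImplicit false

namespace Cfsg.Agent.Cam.Cl

open Cfsg Cfsg.Agent.DS.Cl
open scoped commutatorElement

section grp

variable {G : Type} [Group G]

theorem Cm.symm {S T : Subgroup G} (h : Cm S T) : Cm T S := fun t ht s hs => (h s hs t ht).symm

theorem Cm.nm {S T : Subgroup G} (h : Cm S T) : Nm S T := fun s hs t ht => by
  rw [h s hs t ht, mul_inv_cancel_right]; exact ht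

theorem Cm.mono {S S' T T' : Subgroup G} (h : Cm S T) (h1 : S' ≤ S) (h2 : T' ≤ T) : Cm S' T' :=
  fun s hs t ht => h s (h1 hs) t (h2 ht)

theorem Nm.mono {S S' T : Subgroup G} (h : Nm S T) (h1 : S' ≤ S) : Nm S' T := fun s hs t ht => h s (h1 hs) t ht

theorem nm_self (T : Subgroup G) : Nm T T := fun _ hs _ ht => mul_mem (mul_mem hs ht) (inv_mem hs)

theorem nm_of_le {S T : Subgroup G} (h : S ≤ T) : Nm S T := (nm_self T).mono h

theorem Nm.inv {S T : Subgroup G} (h : Nm S T) {s t : G} (hs : s ∈ S) (ht : t ∈ T) : s⁻¹ * t * s ∈ T := by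
  have h1 := h _ (inv_mem hs) _ ht
  rwa [inv_inv] at h1

theorem Nm.inf {S T T' : Subgroup G} (h : Nm S T) (h' : Nm S T') : Nm S (T ⊓ T') :=
  fun s hs t ht => ⟨h s hs t ht.1, h' s hs t ht.2⟩

theorem cm_iff_le {S T : Subgroup G} : Cm S T ↔ S ≤ Subgroup.centralizer (T : Set G) :=
  ⟨fun h s hs t ht => (h s hs t ht).symm, fun h _ hs t ht => (h hs t ht).symm⟩

theorem cm_iff_bot {S T : Subgroup G} : Cm S T ↔ ⁅S, T⁆ = ⊥ := by
  rw [cm_iff_le, Subgroup.commutator_eq_bot_iff_le_centralizer]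

theorem nm_iff_le {S T : Subgroup G} : Nm S T ↔ S ≤ Subgroup.normalizer (T : Set G) := by
  constructor
  · intro h s hs
    rw [Subgroup.mem_normalizer_iff]
    refine fun t => ⟨h s hs t, fun ht => ?_⟩
    have h1 := h.inv hs ht
    rwa [show s⁻¹ * (s * t * s⁻¹) * s = t by group] at h1
  · exact fun h s hs t ht => (Subgroup.mem_normalizer_iff.1 (h hs) t).1 ht

theorem Cm.sup_left {S S' T : Subgroup G} (h : Cm S T) (h' : Cm S' T) : Cm (S ⊔ S') T :=
  cm_iff_le.2 (sup_le (cm_iff_le.1 h) (cm_iff_le.1 h'))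

theorem Nm.sup_left {S S' T : Subgroup G} (h : Nm S T) (h' : Nm S' T) : Nm (S ⊔ S') T :=
  nm_iff_le.2 (sup_le (nm_iff_le.1 h) (nm_iff_le.1 h'))

theorem cm_sSup_left {𝒮 : Set (Subgroup G)} {T : Subgroup G} (h : ∀ S ∈ 𝒮, Cm S T) : Cm (sSup 𝒮) T :=
  cm_iff_le.2 (sSup_le fun S hS => cm_iff_le.1 (h S hS))

theorem nm_sSup_left {𝒮 : Set (Subgroup G)} {T : Subgroup G} (h : ∀ S ∈ 𝒮, Nm S T) : Nm (sSup 𝒮) T :=
  nm_iff_le.2 (sSup_le fun S hS => nm_iff_le.1 (h S hS))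

theorem Nm.commutator {S T T' : Subgroup G} (h : Nm S T) (h' : Nm S T') : Nm S ⁅T, T'⁆ := by
  intro s hs
  have h1 : ⁅T, T'⁆ ≤ (⁅T, T'⁆ : Subgroup G).comap (MulAut.conj s).toMonoidHom := by
    rw [Subgroup.commutator_le]
    intro a ha b hb
    change s * ⁅a, b⁆ * s⁻¹ ∈ (⁅T, T'⁆ : Subgroup G)
    rw [conjugate_commutatorElement]
    exact Subgroup.commutator_mem_commutator (h s hs a ha) (h' s hs b hb)
  exact fun t ht => h1 ht

theorem Nm.commutator_le {S T : Subgroup G} (h : Nm S T) : ⁅S, T⁆ ≤ T := by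
  rw [Subgroup.commutator_le]
  intro s hs t ht
  exact mul_mem (h s hs t ht) (inv_mem ht)

/-- the three subgroups lemma -/
theorem cm_of_perf {P T : Subgroup G} (hT : T ≤ ⁅T, T⁆) (h : Cm ⁅P, T⁆ T) : Cm P T := by
  have h1 := cm_iff_bot.1 h
  have h2 : ⁅⁅T, P⁆, T⁆ = ⊥ := by rwa [Subgroup.commutator_comm T P]
  have h3 := Subgroup.commutator_commutator_eq_bot_of_rotate h2 h1
  exact ((cm_iff_bot.2 h3).mono hT le_rfl).symm

theorem perf_sSup {𝒮 : Set (Subgroup G)} (h : ∀ S ∈ 𝒮, S ≤ ⁅S, S⁆) : sSup 𝒮 ≤ ⁅sSup 𝒮, sSup 𝒮⁆ :=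
  sSup_le fun S hS => (h S hS).trans (Subgroup.commutator_mono (le_sSup hS) (le_sSup hS))

theorem perf_map {G' : Type} [Group G'] {T : Subgroup G} (h : T ≤ ⁅T, T⁆) (f : G →* G') :
    T.map f ≤ ⁅T.map f, T.map f⁆ := by
  rw [← Subgroup.map_commutator]
  exact Subgroup.map_mono h

/-- a multiplicative map with commuting values is trivial on a perfect group -/
theorem eq_one_of_perf {M : Type} [Monoid M] {T : Subgroup G} (hT : T ≤ ⁅T, T⁆) (φ : G → M) (h1 : φ 1 = 1)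
    (hm : ∀ a ∈ T, ∀ b ∈ T, φ (a * b) = φ a * φ b) (hc : ∀ a ∈ T, ∀ b ∈ T, φ a * φ b = φ b * φ a) :
    ∀ a ∈ T, φ a = 1 := by
  let K : Subgroup G :=
    { carrier := {a | a ∈ T ∧ φ a = 1}
      mul_mem' := fun {a b} ha hb => ⟨mul_mem ha.1 hb.1, by rw [hm a ha.1 b hb.1, ha.2, hb.2, mul_one]⟩
      one_mem' := ⟨one_mem _, h1⟩
      inv_mem' := fun {a} ha => ⟨inv_mem ha.1, by
        have h2 := hm a ha.1 _ (inv_mem ha.1)
        rw [mul_inv_cancel, h1, ha.2, one_mul] at h2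
        exact h2.symm⟩ }
  have h2 : ⁅T, T⁆ ≤ K := by
    rw [Subgroup.commutator_le]
    intro a ha b hb
    refine ⟨mul_mem (mul_mem (mul_mem ha hb) (inv_mem ha)) (inv_mem hb), ?_⟩
    rw [commutatorElement_def, hm _ (mul_mem (mul_mem ha hb) (inv_mem ha)) _ (inv_mem hb),
      hm _ (mul_mem ha hb) _ (inv_mem ha), hm _ ha _ hb, hc a ha b hb, mul_assoc (φ b), ← hm _ ha _ (inv_mem ha),
      mul_inv_cancel, h1, mul_one, ← hm _ hb _ (inv_mem hb), mul_inv_cancel, h1]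
  exact fun a ha => (h2 (hT ha)).2

theorem eq_bot_of_perf_cm {T : Subgroup G} (hT : T ≤ ⁅T, T⁆) (h : Cm T T) : T = ⊥ :=
  le_bot_iff.1 (hT.trans (cm_iff_bot.1 h).le)

theorem eq_bot_of_perf_solvable {T : Subgroup G} (hT : T ≤ ⁅T, T⁆) (hs : Group.IsSolvable T) : T = ⊥ := by
  obtain ⟨n, hn⟩ := hs
  have h1 : ∀ k, T ≤ dS T k := fun k => by
    induction k with
    | zero => exact le_rfl
    | succ k ih => exact hT.trans (Subgroup.commutator_mono ih ih)
  have h2 := h1 n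
  rwa [← DS.Cl.map_derivedSeries_eq, hn, Subgroup.map_bot, le_bot_iff] at h2

theorem QS.ne_bot {T : Subgroup G} (h : QS T) : T ≠ ⊥ := by
  rintro rfl
  refine h.nc fun s hs t ht => ?_
  rw [Subgroup.mem_bot.1 hs, one_mul, mul_one]

theorem QS.not_solvable {T : Subgroup G} (h : QS T) : ¬ Group.IsSolvable T := fun hs =>
  h.ne_bot (eq_bot_of_perf_solvable h.perf hs)

/-- a quasisimple group mapped with central kernel -/
theorem QS.map {G' : Type} [Group G'] {T : Subgroup G} (h : QS T) (f : G →* G')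
    (hf : ∀ t ∈ T, f t = 1 → ∀ s ∈ T, t * s = s * t) : QS (T.map f) := by
  refine ⟨perf_map h.perf f, fun hc => h.nc ?_, fun N hN hn => ?_⟩
  · refine cm_of_perf h.perf ?_
    rw [cm_iff_le, Subgroup.commutator_le]
    intro a ha b hb s hs
    refine (hf _ (mul_mem (mul_mem (mul_mem ha hb) (inv_mem ha)) (inv_mem hb)) ?_ s hs).symm
    rw [← commutatorElement_def, map_commutatorElement, commutatorElement_eq_one_iff_mul_comm]
    exact hc _ ⟨a, ha, rfl⟩ _ ⟨b, hb, rfl⟩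
  · rcases h.dich (N.comap f ⊓ T) inf_le_right (fun s hs t ht => ⟨by
      change f (s * t * s⁻¹) ∈ N
      rw [map_mul, map_mul, map_inv]
      exact hn _ ⟨s, hs, rfl⟩ _ ht.1, nm_self T s hs t ht.2⟩) with h1 | h1
    · left
      refine le_antisymm hN ?_
      rintro _ ⟨t, ht, rfl⟩
      rw [← h1] at ht
      exact ht.1
    · right
      rintro n hn' _ ⟨t, ht, rfl⟩
      obtain ⟨s, hs, rfl⟩ := hN hn'
      rw [← map_mul, ← map_mul, h1 s ⟨hn', hs⟩ t ht]

/-- two quasisimple groups that normalize each other are equal or commute -/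
theorem QS.eq_or_cm {P T : Subgroup G} (hP : QS P) (hT : QS T) (h1 : Nm P T) (h2 : Nm T P) : T = P ∨ Cm P T := by
  rcases hT.dich (P ⊓ T) inf_le_right (h2.inf (nm_self T)) with h3 | h3
  · left
    have h4 : T ≤ P := h3 ▸ inf_le_left
    exact (hP.dich T h4 h1).resolve_right fun h5 => hT.nc (h5.mono le_rfl h4)
  · right
    refine cm_of_perf hT.perf (h3.mono (le_inf ?_ h1.commutator_le) le_rfl)
    rw [Subgroup.commutator_comm]
    exact h2.commutator_le

theorem cj_eq_of_nm {S T : Subgroup G} (h : Nm S T) {s : G} (hs : s ∈ S) : Cam.cj s T = T := by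
  ext x
  rw [mem_cj]
  refine ⟨fun hx => ?_, h s hs x⟩
  have h1 := h.inv hs hx
  rwa [show s⁻¹ * (s * x * s⁻¹) * s = x by group] at h1

theorem nm_of_cj {S T : Subgroup G} (h : ∀ s ∈ S, Cam.cj s T = T) : Nm S T := fun s hs t ht => by
  rw [← h s hs, mem_cj] at ht
  exact ht

theorem cj_cj (a b : G) (T : Subgroup G) : Cam.cj b (Cam.cj a T) = Cam.cj (a * b) T := by
  ext x
  simp only [mem_cj, mul_inv_rev, mul_assoc]

theorem cj_one (T : Subgroup G) : Cam.cj 1 T = T := by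
  ext x
  rw [mem_cj, one_mul, inv_one, mul_one]

theorem conj_mem_cj {a t : G} {T : Subgroup G} (ht : t ∈ T) : a⁻¹ * t * a ∈ Cam.cj a T := by
  rw [mem_cj]
  rwa [show a * (a⁻¹ * t * a) * a⁻¹ = t by group]

/-- a quasisimple group that permutes a commuting family of quasisimple groups and is normalized by it -/
theorem QS.eq_or_cm_of_fam {P : Subgroup G} (hP : QS P) {𝒯 : Set (Subgroup G)} (hq : ∀ T ∈ 𝒯, QS T)
    (hc : ∀ T₁ ∈ 𝒯, ∀ T₂ ∈ 𝒯, T₁ ≠ T₂ → Cm T₁ T₂) (hi : ∀ h ∈ P, ∀ T ∈ 𝒯, Cam.cj h T ∈ 𝒯) {T : Subgroup G}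
    (hT : T ∈ 𝒯) (hn : Nm T P) : T = P ∨ Cm P T := by
  refine hP.eq_or_cm (hq T hT) ?_ hn
  by_contra h1
  obtain ⟨p, hp, h2⟩ : ∃ p ∈ P, Cam.cj p T ≠ T := by
    by_contra h2
    push Not at h2
    exact h1 (nm_of_cj h2)
  have h3 := hc _ (hi p hp T hT) T hT h2
  have h4 : T ≤ P := by
    refine (hq T hT).perf.trans ?_
    rw [Subgroup.commutator_le]
    intro s hs t ht
    have h5 : t * (p⁻¹ * t⁻¹ * p) ∈ P := by
      have h6 := mul_mem (hn t ht _ (inv_mem hp)) hp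
      rwa [show t * p⁻¹ * t⁻¹ * p = t * (p⁻¹ * t⁻¹ * p) by group] at h6
    have h6 := mul_mem (hn s hs _ h5) (inv_mem h5)
    have h7 := h3 _ (conj_mem_cj (inv_mem ht)) _ (inv_mem hs)
    rwa [mul_assoc s, mul_assoc t, h7, show s * (t * (s⁻¹ * (p⁻¹ * t⁻¹ * p))) * (t * (p⁻¹ * t⁻¹ * p))⁻¹ = ⁅s, t⁆ by
      rw [commutatorElement_def]; group] at h6
  let N : Subgroup G := sSup {Z | ∃ q ∈ P, Z = Cam.cj q T}
  have h5 : N ≤ P := sSup_le (by
    rintro _ ⟨q, hq', rfl⟩ x hx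
    rw [mem_cj] at hx
    have h6 := mul_mem (mul_mem (inv_mem hq') (h4 hx)) hq'
    rwa [show q⁻¹ * (q * x * q⁻¹) * q = x by group] at h6)
  have h6 : T ≤ N := le_sSup ⟨1, one_mem _, (cj_one T).symm⟩
  have h7 : Nm P N := by
    intro r hr
    have h8 : N ≤ N.comap (MulAut.conj r).toMonoidHom := sSup_le (by
      rintro _ ⟨q, hq', rfl⟩ x hx
      have h9 : Cam.cj (q * r⁻¹) T ≤ N := le_sSup ⟨q * r⁻¹, mul_mem hq' (inv_mem hr), rfl⟩
      refine h9 ?_
      rw [mem_cj] at hx ⊢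
      change q * r⁻¹ * (r * x * r⁻¹) * (q * r⁻¹)⁻¹ ∈ T
      rwa [show q * r⁻¹ * (r * x * r⁻¹) * (q * r⁻¹)⁻¹ = q * x * q⁻¹ by group])
    exact fun x hx => h8 hx
  have h8 : N = P := (hP.dich N h5 h7).resolve_right fun h9 => (hq T hT).nc (h9.mono h6 h4)
  refine h1 (h8 ▸ nm_sSup_left ?_)
  rintro _ ⟨q, hq', rfl⟩
  by_cases h9 : Cam.cj q T = T
  · rw [h9]; exact nm_self T
  · exact (hc _ (hi q hq' T hT) T hT h9).nm

end grp

/-- potentials -/
theorem pot {ι : Type} [Finite ι] {f : ι → ι} (hf : Function.Injective f) (φ : ι → ℕ) (h : ∀ i, φ i ≤ φ (f i)) (i : ι) :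
    φ (f i) = φ i := by
  classical
  have := Fintype.ofFinite ι
  have h1 : ∑ i, φ (f i) = ∑ i, φ i :=
    Fintype.sum_bijective f (Finite.injective_iff_bijective.1 hf) _ _ fun _ => rfl
  exact ((Finset.sum_eq_sum_iff_of_le fun i _ => h i).1 h1.symm i (Finset.mem_univ i)).symm

section ring

variable {A : Type} [Ring A]

theorem mem_Bd {T : Subgroup Aˣ} {t : Aˣ} (ht : t ∈ T) : (t : A) ∈ Bd T := Subring.subset_closure (Or.inr ⟨t, ht, rfl⟩)

theorem cen_mem_Bd (T : Subgroup Aˣ) {c : A} (hc : c ∈ Subring.center A) : c ∈ Bd T := Subring.subset_closure (Or.inl hc)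

theorem Bd_le {T : Subgroup Aˣ} {R : Subring A} (h1 : Subring.center A ≤ R) (h2 : ∀ t ∈ T, (t : A) ∈ R) : Bd T ≤ R := by
  rw [Bd, Subring.closure_le]
  rintro x (hx | ⟨t, ht, rfl⟩)
  · exact h1 hx
  · exact h2 t ht

theorem Bd_mono {T T' : Subgroup Aˣ} (h : T ≤ T') : Bd T ≤ Bd T' :=
  Bd_le (fun _ hc => cen_mem_Bd _ hc) fun _ ht => mem_Bd (h ht)

/-- an element commuting with `T` commutes with `Bd T` -/
theorem comm_Bd {T : Subgroup Aˣ} {z : A} (hz : ∀ t ∈ T, z * t = t * z) {x : A} (hx : x ∈ Bd T) : z * x = x * z := by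
  have h1 : Bd T ≤ Subring.centralizer {z} := Bd_le
    (fun c hc y hy => by rw [Set.mem_singleton_iff.1 hy]; exact Subring.mem_center_iff.1 hc z)
    (fun t ht y hy => by rw [Set.mem_singleton_iff.1 hy]; exact hz t ht)
  exact h1 hx z rfl

theorem mem_FixI {T : Subgroup Aˣ} {a : A} : a ∈ FixI T ↔ ∀ t ∈ T, a * (t : A) = a := Iff.rfl

theorem sub_one_mem_ImI {T : Subgroup Aˣ} {t : Aˣ} (ht : t ∈ T) : (t : A) - 1 ∈ ImI T := Ideal.subset_span ⟨t, ht, rfl⟩

theorem ImI_le {T : Subgroup Aˣ} {I : Ideal A} (h : ∀ t ∈ T, (t : A) - 1 ∈ I) : ImI T ≤ I := by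
  rw [ImI, Ideal.span_le]
  rintro _ ⟨t, ht, rfl⟩
  exact h t ht

theorem ImI_mono {T T' : Subgroup Aˣ} (h : T ≤ T') : ImI T ≤ ImI T' := ImI_le fun _ ht => sub_one_mem_ImI (h ht)

/-- right multiplication by `z` preserves a left ideal -/
def rmul (I : Ideal A) (z : A) : Ideal A where
  carrier := {a | a * z ∈ I}
  add_mem' := fun {a b} ha hb => by
    change (a + b) * z ∈ I
    rw [add_mul]; exact I.add_mem ha hb
  zero_mem' := by
    change 0 * z ∈ I
    rw [zero_mul]; exact I.zero_mem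
  smul_mem' := fun c a ha => by
    change c * a * z ∈ I
    rw [mul_assoc]; exact I.mul_mem_left c ha

theorem mem_rmul {I : Ideal A} {z a : A} : a ∈ rmul I z ↔ a * z ∈ I := Iff.rfl

/-- `ImI T` is stable under right multiplication by `Bd T` -/
theorem ImI_mul_Bd {T : Subgroup Aˣ} {a x : A} (ha : a ∈ ImI T) (hx : x ∈ Bd T) : a * x ∈ ImI T := by
  let R : Subring A :=
    { carrier := {x | ∀ a ∈ ImI T, a * x ∈ ImI T}
      mul_mem' := fun {x y} hx hy a ha => by rw [← mul_assoc]; exact hy _ (hx a ha)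
      one_mem' := fun a ha => by rwa [mul_one]
      add_mem' := fun {x y} hx hy a ha => by rw [mul_add]; exact add_mem (hx a ha) (hy a ha)
      zero_mem' := fun a _ => by rw [mul_zero]; exact zero_mem _
      neg_mem' := fun {x} hx a ha => by rw [mul_neg]; exact neg_mem (hx a ha) }
  have h1 : Bd T ≤ R := Bd_le
    (fun c hc a ha => by rw [Subring.mem_center_iff.1 hc a]; exact Ideal.mul_mem_left _ c ha)
    (fun t ht a ha => (ImI_le (I := rmul (ImI T) t) fun s hs => by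
      rw [mem_rmul, show ((s : A) - 1) * t = (((s * t : Aˣ) : A) - 1) - (t - 1) by rw [Units.val_mul]; noncomm_ring]
      exact sub_mem (sub_one_mem_ImI (mul_mem hs ht)) (sub_one_mem_ImI ht)) ha)
  exact h1 hx a ha

/-- on a fixed vector, `Bd T` acts by central elements -/
theorem FixI_mul_Bd {T : Subgroup Aˣ} {a x : A} (ha : a ∈ FixI T) (hx : x ∈ Bd T) :
    ∃ c ∈ Subring.center A, a * x = c * a := by
  let R : Subring A :=
    { carrier := {x | ∃ c ∈ Subring.center A, a * x = c * a}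
      mul_mem' := by
        rintro x y ⟨c, hc, hx⟩ ⟨d, hd, hy⟩
        exact ⟨c * d, mul_mem hc hd, by rw [← mul_assoc, hx, mul_assoc, hy, mul_assoc]⟩
      one_mem' := ⟨1, one_mem _, by rw [mul_one, one_mul]⟩
      add_mem' := by
        rintro x y ⟨c, hc, hx⟩ ⟨d, hd, hy⟩
        exact ⟨c + d, add_mem hc hd, by rw [mul_add, hx, hy, add_mul]⟩
      zero_mem' := ⟨0, zero_mem _, by rw [mul_zero, zero_mul]⟩
      neg_mem' := by
        rintro x ⟨c, hc, hx⟩
        exact ⟨-c, neg_mem hc, by rw [mul_neg, hx, neg_mul]⟩ }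
  have h1 : Bd T ≤ R := Bd_le (fun c hc => ⟨c, hc, Subring.mem_center_iff.1 hc a⟩)
    fun t ht => ⟨1, one_mem _, by rw [ha t ht, one_mul]⟩
  exact h1 hx

variable [StarRing A]

theorem star_mem_Bd {T : Subgroup Aˣ} (hT : ∀ t ∈ T, (t : A) * star (t : A) = 1) {x : A} (hx : x ∈ Bd T) :
    star x ∈ Bd T := by
  let R : Subring A :=
    { carrier := {x | star x ∈ Bd T}
      mul_mem' := fun {x y} hx hy => by
        change star (x * y) ∈ Bd T
        rw [star_mul]; exact mul_mem hy hx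
      one_mem' := by
        change star 1 ∈ Bd T
        rw [star_one]; exact one_mem _
      add_mem' := fun {x y} hx hy => by
        change star (x + y) ∈ Bd T
        rw [star_add]; exact add_mem hx hy
      zero_mem' := by
        change star 0 ∈ Bd T
        rw [star_zero]; exact zero_mem _
      neg_mem' := fun {x} hx => by
        change star (-x) ∈ Bd T
        rw [star_neg]; exact neg_mem hx }
  have h1 : Bd T ≤ R := Bd_le (fun c hc => cen_mem_Bd _ (star_cen hc)) fun t ht => by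
    change star (t : A) ∈ Bd T
    rw [← star_eq_inv (hT t ht)]
    exact mem_Bd (inv_mem ht)
  exact h1 hx

theorem Dr_le (F : FR A) : Dr F ≤ F.Iso := F.comm_le_Iso

theorem le_Dr_of_perf {F : FR A} {P : Subgroup Aˣ} (hp : P ≤ ⁅P, P⁆) (h : P ≤ F.Iso) : P ≤ Dr F :=
  hp.trans (Subgroup.commutator_mono h h)

/-- a central unipotent unit is trivial -/
theorem SS.eq_one_of_cen_uni (h : SS A) {u : Aˣ} (hc : Cen u) (hu : Uni u) : u = 1 := by
  have h1 : (u : A) - 1 ∈ Subring.center A := sub_mem hc (one_mem _)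
  have h2 := h.nil_eq_bot (two_span_cen h1) fun x hx => by
    obtain ⟨b, rfl⟩ := Ideal.mem_span_singleton'.1 hx
    exact Commute.isNilpotent_mul_left (cen_comm h1 b) hu
  rw [Ideal.span_singleton_eq_bot, sub_eq_zero] at h2
  exact Units.ext h2

/-- `(2 : A)` is zero or a unit -/
theorem SS.natCast_cases [Finite A] (h : SS A) (n : ℕ) : (n : A) = 0 ∨ IsUnit (n : A) := by
  by_cases h0 : (n : A) = 0
  · exact Or.inl h0
  · exact Or.inr (h.isUnit_of_cen (Subring.mem_center_iff.2 fun a => (Nat.cast_comm n a).symm) (star_natCast n) h0)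

/-- an element commuting with a star-simple block and killing a non-zero element whose ideal is star-closed -/
theorem Blk.kill {D : Blk A} (hD : SS D.T) {y : A} (hy : ∀ x ∈ D.car, y * x = x * y) {x : A} (hx : x ∈ D.car) (h0 : x ≠ 0)
    (h1 : x * y = 0) (h2 : star x * y = 0) : D.e * y = 0 := by
  let I : AddSubgroup A :=
    { carrier := {z | z ∈ D.car ∧ z * y = 0 ∧ star z * y = 0}
      add_mem' := by
        rintro a b ⟨ha, ha1, ha2⟩ ⟨hb, hb1, hb2⟩
        exact ⟨add_mem ha hb, by rw [add_mul, ha1, hb1, add_zero], by rw [star_add, add_mul, ha2, hb2, add_zero]⟩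
      zero_mem' := ⟨zero_mem _, zero_mul y, by rw [star_zero, zero_mul]⟩
      neg_mem' := by
        rintro a ⟨ha, ha1, ha2⟩
        exact ⟨neg_mem ha, by rw [neg_mul, ha1, neg_zero], by rw [star_neg, neg_mul, ha2, neg_zero]⟩ }
  rcases D.ss_elim hD I (fun z hz => hz.1) (fun z hz a ha => ⟨mul_mem ha hz.1, by rw [mul_assoc, hz.2.1, mul_zero], by
      rw [star_mul, mul_assoc, ← hy _ (D.star_mem a ha), ← mul_assoc, hz.2.2, zero_mul]⟩)
    (fun z hz => ⟨D.star_mem z hz.1, hz.2.2, by rw [star_star]; exact hz.2.1⟩) with h3 | h3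
  · exact absurd (AddSubgroup.mem_bot.1 (h3 ▸ (⟨hx, h1, h2⟩ : x ∈ I))) h0
  · exact h3.2.1

namespace Sh

variable {T : Subgroup Aˣ} {D : Blk A} (h : Sh T D)
include h

theorem sub_mul {t : Aˣ} (ht : t ∈ T) : ((t : A) - 1) * D.e = t - 1 := D.mul_e _ (h.mem t ht)

theorem mul_sub {t : Aˣ} (ht : t ∈ T) : D.e * ((t : A) - 1) = t - 1 := D.e_mul _ (h.mem t ht)

theorem comm_e {t : Aˣ} (ht : t ∈ T) : (t : A) * D.e = D.e * t := by
  have h1 := (h.sub_mul ht).trans (h.mul_sub ht).symm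
  rw [_root_.sub_mul, _root_.mul_sub, one_mul, mul_one] at h1
  exact sub_left_injective h1

theorem compl_mul {t : Aˣ} (ht : t ∈ T) : (1 - D.e) * (t : A) = 1 - D.e := by
  have h1 := h.mul_sub ht
  rw [_root_.mul_sub, mul_one] at h1
  rw [_root_.sub_mul, one_mul, sub_eq_iff_eq_add.1 h1]
  abel

theorem mul_compl {t : Aˣ} (ht : t ∈ T) : (t : A) * (1 - D.e) = 1 - D.e := by
  rw [_root_.mul_sub, mul_one, h.comm_e ht, ← one_mul (t : A), ← mul_assoc, mul_one, ← _root_.sub_mul, h.compl_mul ht]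

theorem e_mem_Bd : D.e ∈ Bd T := h.sub _ D.e_mem

theorem e_ne_zero : D.e ≠ 0 := fun h0 => by
  have := h.ss.nontrivial
  exact one_ne_zero (D.val_inj (D.val_one.trans (h0.trans (map_zero D.val).symm)))

theorem mul_e_mem {t : Aˣ} (ht : t ∈ T) : (t : A) * D.e ∈ D.car := by
  have h1 := add_mem (h.mem t ht) D.e_mem
  rwa [← h.sub_mul ht, _root_.sub_mul, one_mul, sub_add_cancel] at h1

theorem comm {z : A} (hz : ∀ t ∈ T, z * t = t * z) {x : A} (hx : x ∈ D.car) : z * x = x * z := comm_Bd hz (h.sub x hx)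

theorem ImI_le : ImI T ≤ Ideal.span {D.e} :=
  Cl.ImI_le fun _ ht => Ideal.mem_span_singleton'.2 ⟨_, h.sub_mul ht⟩

/-- the support lies in the commutator space -/
theorem e_mem_ImI (hT : ∀ t ∈ T, (t : A) * star (t : A) = 1) (hne : T ≠ ⊥) : D.e ∈ ImI T := by
  let I : AddSubgroup A :=
    { carrier := {z | z ∈ D.car ∧ z ∈ ImI T ∧ star z ∈ ImI T}
      add_mem' := by
        rintro a b ⟨ha, ha1, ha2⟩ ⟨hb, hb1, hb2⟩
        exact ⟨add_mem ha hb, add_mem ha1 hb1, by rw [star_add]; exact add_mem ha2 hb2⟩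
      zero_mem' := ⟨zero_mem _, zero_mem _, by rw [star_zero]; exact zero_mem _⟩
      neg_mem' := by
        rintro a ⟨ha, ha1, ha2⟩
        exact ⟨neg_mem ha, neg_mem ha1, by rw [star_neg]; exact neg_mem ha2⟩ }
  rcases D.ss_elim h.ss I (fun z hz => hz.1) (fun z hz a ha => ⟨mul_mem ha hz.1, Ideal.mul_mem_left _ a hz.2.1, by
      rw [star_mul]; exact ImI_mul_Bd hz.2.2 (h.sub _ (D.star_mem a ha))⟩)
    (fun z hz => ⟨D.star_mem z hz.1, hz.2.2, by rw [star_star]; exact hz.2.1⟩) with h3 | h3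
  · exfalso
    refine hne (eq_bot_iff.2 fun t ht => ?_)
    have h4 : (t : A) - 1 ∈ I := ⟨h.mem t ht, sub_one_mem_ImI ht, by
      rw [star_sub, star_one, ← star_eq_inv (hT t ht)]; exact sub_one_mem_ImI (inv_mem ht)⟩
    rw [h3, AddSubgroup.mem_bot, sub_eq_zero] at h4
    exact Units.ext h4
  · exact h3.2.1

/-- no fixed vectors on the support -/
theorem full (hT : ∀ t ∈ T, (t : A) * star (t : A) = 1) (hne : T ≠ ⊥) {a : A} (ha : a ∈ FixI T) : a * D.e = 0 := by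
  let I : AddSubgroup A :=
    { carrier := {z | z ∈ D.car ∧ (∀ b ∈ FixI T, b * z = 0) ∧ ∀ b ∈ FixI T, b * star z = 0}
      add_mem' := by
        rintro x y ⟨hx, hx1, hx2⟩ ⟨hy, hy1, hy2⟩
        exact ⟨add_mem hx hy, fun b hb => by rw [mul_add, hx1 b hb, hy1 b hb, add_zero],
          fun b hb => by rw [star_add, mul_add, hx2 b hb, hy2 b hb, add_zero]⟩
      zero_mem' := ⟨zero_mem _, fun b _ => mul_zero b, fun b _ => by rw [star_zero, mul_zero]⟩
      neg_mem' := by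
        rintro x ⟨hx, hx1, hx2⟩
        exact ⟨neg_mem hx, fun b hb => by rw [mul_neg, hx1 b hb, neg_zero],
          fun b hb => by rw [star_neg, mul_neg, hx2 b hb, neg_zero]⟩ }
  rcases D.ss_elim h.ss I (fun z hz => hz.1) (fun z hz x hx => ⟨mul_mem hx hz.1, fun b hb => by
      obtain ⟨c, -, hc⟩ := FixI_mul_Bd hb (h.sub x hx)
      rw [← mul_assoc, hc, mul_assoc, hz.2.1 b hb, mul_zero], fun b hb => by
      rw [star_mul, ← mul_assoc, hz.2.2 b hb, zero_mul]⟩)
    (fun z hz => ⟨D.star_mem z hz.1, hz.2.2, by rw [star_star]; exact hz.2.1⟩) with h3 | h3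
  · exfalso
    refine hne (eq_bot_iff.2 fun t ht => ?_)
    have h4 : (t : A) - 1 ∈ I := ⟨h.mem t ht, fun b hb => by rw [_root_.mul_sub, hb t ht, mul_one, sub_self], fun b hb => by
      rw [star_sub, star_one, ← star_eq_inv (hT t ht), _root_.mul_sub, hb _ (inv_mem ht), mul_one, sub_self]⟩
    rw [h3, AddSubgroup.mem_bot, sub_eq_zero] at h4
    exact Units.ext h4
  · exact h3.2.1 a ha

theorem mem_FixI_iff (hT : ∀ t ∈ T, (t : A) * star (t : A) = 1) (hne : T ≠ ⊥) {a : A} : a ∈ FixI T ↔ a * D.e = 0 := by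
  refine ⟨h.full hT hne, fun ha t ht => ?_⟩
  have h1 : a * (1 - D.e) = a := by rw [_root_.mul_sub, ha, mul_one, sub_zero]
  rw [← h1, mul_assoc, h.compl_mul ht]

end Sh

end ring

end Cfsg.Agent.Cam.Cl
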