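import Cfsg.Agent.Cam.Cl.CycB
import Cfsg.Agent.S0204

/-!
# Classical rows of S3689, box Cyc: the endings and the theorem (helper70)
-/

set_option autoImplicit false
set_option linter.unusedSectionVars false

namespace Cfsg.Agent.Cam.Cl.Cy

open Cfsg Cfsg.Agent.DS.Cl Cfsg.Agent.Cam.Cl
open scoped commutatorElement

variable {A : Type} [Ring A] [StarRing A]

/-- a quasisimple group with trivial centre contains a four-group -/
theorem exists_four {G : Type} [Group G] [Finite G] {T : Subgroup G} (hq : QS T) (hc : NoCen T) :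
    ∃ a ∈ T, ∃ b ∈ T, a * a = 1 ∧ b * b = 1 ∧ a * b = b * a ∧ a ≠ 1 ∧ b ≠ 1 ∧ a ≠ b := by
  have hnt : Nontrivial T := (Subgroup.nontrivial_iff_ne_bot T).2 hq.ne_bot
  have hs : IsSimpleGroup T := ⟨fun N hN => by
    rcases hq.dich (N.map T.subtype) (Subgroup.map_subtype_le N) (by
      rintro s hs _ ⟨n, hn, rfl⟩
      exact ⟨_, hN.conj_mem n hn ⟨s, hs⟩, rfl⟩) with h1 | h1
    · right
      rw [eq_top_iff]
      intro t _
      obtain ⟨n, hn, e⟩ : (t : G) ∈ N.map T.subtype := by rw [h1]; exact t.2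
      rwa [← Subtype.ext e]
    · left
      rw [eq_bot_iff]
      intro n hn
      exact Subtype.ext (hc n n.2 (h1 n ⟨n, hn, rfl⟩))⟩
  obtain ⟨E, hE⟩ := Cfsg.Agent.S0204.result (G := T) (fun hcy => hq.nc fun s hs t ht =>
    congrArg Subtype.val (hcy.isMulCommutative.is_comm.comm (⟨s, hs⟩ : T) ⟨t, ht⟩))
  classical
  have := Fintype.ofFinite E
  have h4 : Fintype.card E = 4 := by rw [← Nat.card_eq_fintype_card, hE.card_four]
  obtain ⟨a, ha⟩ : ∃ a : E, a ≠ 1 := Fintype.exists_ne_of_one_lt_card (by omega) 1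
  obtain ⟨b, -, hb⟩ : ∃ b ∈ (Finset.univ : Finset E), b ∉ ({1, a} : Finset E) :=
    Finset.exists_mem_notMem_of_card_lt_card (Finset.card_le_two.trans_lt (by rw [Finset.card_univ, h4]; norm_num))
  rw [Finset.mem_insert, Finset.mem_singleton, not_or] at hb
  have hv : ∀ x y : E, ((x : T) : G) = (y : T) → x = y := fun x y h => Subtype.ext (Subtype.ext h)
  exact ⟨a, (a : T).2, b, (b : T).2, congrArg (fun x : E => ((x : T) : G)) (IsKleinFour.mul_self a),
    congrArg (fun x : E => ((x : T) : G)) (IsKleinFour.mul_self b),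
    congrArg (fun x : E => ((x : T) : G)) (IsKleinFour.isMulCommutative.is_comm.comm a b),
    fun h => ha (hv a 1 h), fun h => hb.1 (hv b 1 h), fun h => hb.2 (hv b a h.symm)⟩

section one

variable {F : FR A} {T : Subgroup Aˣ} {D : Blk A} (hm : Mem F T) (hD : Sh T D)
include hm hD

theorem tyI_sq (hI : TyI T) {v : Aˣ} (hv : v ∈ T) (hu : Uni v) : ((v : A) - 1) ^ 2 = 0 := by
  set y : A := (v : A) + (v⁻¹ : Aˣ) - 2 with hy
  have e1 : y = (v⁻¹ : Aˣ) * D.e * (((v : A) - 1) * (v - 1)) := by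
    rw [mul_assoc, ← mul_assoc D.e, hD.mul_sub hv, hy]
    calc (v : A) + (v⁻¹ : Aˣ) - 2 = ((v⁻¹ : Aˣ) * v) * v + (v⁻¹ : Aˣ) - 2 * ((v⁻¹ : Aˣ) * v) := by
          rw [Units.inv_mul, one_mul, mul_one]
      _ = _ := by noncomm_ring
  have e2 : ((v : A) - 1) ^ 2 = v * y := by
    rw [hy, mul_sub, mul_add, Units.mul_inv]; noncomm_ring
  have h1 : y ∈ D.car := e1 ▸ mul_mem (hD.mul_e_mem (inv_mem hv)) (mul_mem (hD.mem v hv) (hD.mem v hv))
  have h2 : ∀ x ∈ D.car, y * x = x * y := fun x hx => hD.comm (fun t ht => by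
    rw [hy, sub_mul, mul_sub, hI t ht v hv, two_mul, mul_two]) hx
  have h3 : star y = y := by
    rw [hy, star_sub, star_add, Mem.star_eq hm hv, Mem.star_eq hm (inv_mem hv), inv_inv, star_ofNat, add_comm]
  have h4 : IsNilpotent y := by
    have e3 : y = (v⁻¹ : Aˣ) * ((v : A) - 1) ^ 2 := by rw [e2, Units.inv_mul_cancel_left]
    rw [e3]
    exact Commute.isNilpotent_mul_left
      ((((Commute.refl (v : A)).units_inv_left).sub_right (Commute.one_right _)).pow_right 2) (hu.pow_of_pos two_ne_zero)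
  by_contra hne
  have h5 : y ≠ 0 := fun h => hne (by rw [e2, h, mul_zero])
  obtain ⟨m, hm1, hm2⟩ := exists_top h4 h5
  have h6 : ∀ k, y ^ (k + 1) ∈ D.car := fun k => by
    induction k with
    | zero => rwa [zero_add, pow_one]
    | succ k ih => rw [pow_succ]; exact mul_mem ih h1
  have h7 := Blk.kill hD.ss h2 (h6 m) hm1 (by rw [← pow_succ, hm2]) (by rw [star_pow, h3, ← pow_succ, hm2])
  rw [D.e_mul y h1] at h7
  exact h5 h7

theorem tyN_of_tyI (hI : TyI T) (hU : HasUni T) (h2 : IsUnit (2 : A)) : TyN T := by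
  obtain ⟨v, hv, hv1, hu⟩ := hU
  exact ⟨v, hv, 1, le_rfl, tyI_sq hm hD hI hv hu, by
    rw [pow_one]; exact fun h => hv1 (Units.ext (sub_eq_zero.1 h)), by simpa using h2⟩

theorem noCen_of_tyI [Finite A] (hA : SS A) (hI : TyI T) (hU : HasUni T) (h2 : (2 : A) = 0) : NoCen T := by
  obtain ⟨v, hv, hv1, hu⟩ := hU
  intro c hc hcc
  have h1 := tyI_sq hm hD hI hv hu
  have h3 : ((v⁻¹ : Aˣ) : A) = v := by
    refine Units.inv_eq_of_mul_eq_one_right ?_
    calc (v : A) * v = ((v : A) - 1) ^ 2 + 2 * (v - 1) + 1 := by noncomm_ring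
      _ = 1 := by rw [h1, h2]; simp
  have h4 : Cen c := hm.zc c hc hcc
  have h5 : (c : A) + (c⁻¹ : Aˣ) ∈ Subring.center A := add_mem h4 (inv_cen h4)
  by_cases h6 : (c : A) + (c⁻¹ : Aˣ) = 0
  · refine SS.eq_one_of_cen_uni hA h4 ⟨2, ?_⟩
    calc ((c : A) - 1) ^ 2 = c * c + 1 - 2 * c := by noncomm_ring
      _ = c * (c + (c⁻¹ : Aˣ)) := by rw [h2, mul_add, Units.mul_inv, zero_mul, sub_zero]
      _ = 0 := by rw [h6, mul_zero]
  · have h7 := hA.isUnit_of_cen h5 (by
      rw [star_add, Mem.star_eq hm hc, Mem.star_eq hm (inv_mem hc), inv_inv, add_comm]) h6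
    refine absurd (SS.eq_one_of_cen_uni hA (hm.zc v hv fun s hs => Units.ext ?_) hu) hv1
    have h8 := hI s hs _ (mul_mem hc hv)
    rw [mul_inv_rev, Units.val_mul, Units.val_mul, h3, cen_comm (inv_cen h4), ← add_mul, ← mul_assoc, cen_comm h5,
      mul_assoc, mul_assoc] at h8
    exact (h7.mul_left_cancel h8).symm

theorem five_of_tyI (hI : TyI T) {w : Aˣ} (hw : w ∈ T) (h5 : w ^ 5 = 1) (h1 : w ≠ 1) :
    (1 + (w : A) + (w : A) ^ 2 + (w : A) ^ 3 + (w : A) ^ 4) * D.e = 0 := by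
  set τ : A := (w : A) + (w⁻¹ : Aˣ) with hτ
  have e1 : 1 + (w : A) + (w : A) ^ 2 + (w : A) ^ 3 + (w : A) ^ 4 = w * (w * (τ * τ + τ - 1)) := by
    have e2 : (w : A) * (w⁻¹ : Aˣ) = 1 := Units.mul_inv w
    have e3 : ((w⁻¹ : Aˣ) : A) * w = 1 := Units.inv_mul w
    calc _ = (w : A) ^ 4 + w * w * 1 + w * 1 * w + w * 1 * (w⁻¹ : Aˣ) + w ^ 3 + w * 1 - w * w := by
          rw [mul_one, mul_one, e2]; noncomm_ring
      _ = (w : A) ^ 4 + w * w * (w * (w⁻¹ : Aˣ)) + w * (w * (w⁻¹ : Aˣ)) * w + w * (w * (w⁻¹ : Aˣ)) * (w⁻¹ : Aˣ) + w ^ 3 +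
          w * (w * (w⁻¹ : Aˣ)) - w * w := by rw [e2]
      _ = _ := by rw [hτ]; noncomm_ring
  have h2 : ∀ x ∈ D.car, (τ * τ + τ - 1) * x = x * (τ * τ + τ - 1) := fun x hx => by
    have c : Commute τ x := hD.comm (fun t ht => (hI t ht w hw).symm) hx
    exact (((c.mul_left c).add_left c).sub_left (Commute.one_left x)).eq
  have h3 : ((w : A) - 1) * (τ * τ + τ - 1) = 0 := by
    have h4 : (w : A) ^ 5 = 1 := by rw [← Units.val_pow_eq_pow_val, h5, Units.val_one]
    have h6 : ((w : A) - 1) * (w * (w * (τ * τ + τ - 1))) = 0 := by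
      rw [← e1]
      calc _ = (w : A) ^ 5 - 1 := by noncomm_ring
        _ = 0 := by rw [h4, sub_self]
    rwa [← mul_assoc, ← mul_assoc, show ((w : A) - 1) * w * w = w * (w * (w - 1)) by noncomm_ring, mul_assoc, mul_assoc,
      Units.mul_right_eq_zero, Units.mul_right_eq_zero] at h6
  have h4 := Blk.kill hD.ss h2 (hD.mem w hw) (fun h => h1 (Units.ext (sub_eq_zero.1 h))) h3 (by
    rw [star_sub, star_one, Mem.star_eq hm hw,
      show ((w⁻¹ : Aˣ) : A) - 1 = -(w⁻¹ : Aˣ) * (w - 1) by rw [mul_sub, neg_mul, Units.inv_mul]; noncomm_ring,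
      mul_assoc, h3, mul_zero])
  rw [e1, mul_assoc, mul_assoc, h2 _ D.e_mem, h4, mul_zero, mul_zero]

/-- an element acting as `-1` on the support is central -/
theorem cen_of_neg {a : Aˣ} (ha : a ∈ T) (h1 : (1 + (a : A)) * D.e = 0) : ∀ s ∈ T, a * s = s * a := by
  intro s hs
  have e1 : (a : A) = 1 - D.e - D.e := by
    rw [← hD.mul_compl ha, mul_sub, mul_one, sub_sub, ← add_one_mul, add_comm, h1, sub_zero]
  apply Units.ext
  rw [Units.val_mul, Units.val_mul, e1, sub_mul, sub_mul, mul_sub, mul_sub, hD.comm_e hs, one_mul, mul_one]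

end one

namespace DD

variable {F : FR A} {T T' : Subgroup Aˣ} {U : Type} [Group U] {α β : U →* Aˣ} (h : DD F T T' α β)
include h

theorem w_eq_one (hc : NoCen T') {u : U} (h1 : α u = 1) : α u * β u = 1 ∧ β u = 1 := by
  have h2 : Cen (β u) := (h.cen u).1 (by rw [h1]; exact cen_one)
  have h3 := hc _ (h.w_mem u) fun s _ => by rw [h1, one_mul]; exact Cen.comm' h2 s
  exact ⟨h3, by rwa [h1, one_mul] at h3⟩

theorem a_eq_one (hc : NoCen T) {u : U} (h1 : α u * β u = 1 ∨ β u = 1) : α u = 1 := by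
  refine hc _ (h.a_mem u) fun s _ => Cen.comm' ?_ s
  rcases h1 with h1 | h1
  · exact h.cen' u (by rw [h1]; exact cen_one)
  · exact (h.cen u).2 (by rw [h1]; exact cen_one)

variable {D : Blk A} (hD : Sh T D) (hb : ∀ u, (1 - D.e) * (β u : A) = 1 - D.e)
include hD hb

theorem not_tyII [Finite A] (h1 : TyII T D.e) (h2 : TyII T' D.e) : False := by
  obtain ⟨hu, hc, h1⟩ := h1
  obtain ⟨-, hc', h2⟩ := h2
  obtain ⟨a, ha, b, hb', haa, hbb, hab, ha1, hb1, hne⟩ := exists_four h.m.qs hc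
  have h3 := h1 a ha b hb' haa hbb hab ha1 hb1 hne
  obtain ⟨u, rfl⟩ := h.exists_u ha
  obtain ⟨u', rfl⟩ := h.exists_u hb'
  have h4 := h2 _ (h.w_mem u) _ (h.w_mem u')
    (by rw [← h.w_mul]; exact (h.w_eq_one hc' (by rw [map_mul, haa])).1)
    (by rw [← h.w_mul]; exact (h.w_eq_one hc' (by rw [map_mul, hbb])).1)
    (by
      rw [← h.w_mul, ← h.w_mul, ← mul_inv_eq_one, ← h.w_inv, ← h.w_mul]
      exact (h.w_eq_one hc' (by rw [map_mul, map_inv, map_mul, map_mul, hab, mul_inv_cancel])).1)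
    (fun h5 => ha1 (h.a_eq_one hc (Or.inl h5))) (fun h5 => hb1 (h.a_eq_one hc (Or.inl h5)))
    (fun h5 => hne (by
      have h6 := h.a_eq_one hc (u := u * u'⁻¹) (Or.inl (by rw [h.w_mul, h.w_inv, h5, mul_inv_cancel]))
      rwa [map_mul, map_inv, mul_inv_eq_one] at h6))
  rw [Units.val_mul, Units.val_mul] at h4
  have haa' : (α u : A) * α u = 1 := congrArg Units.val haa
  have hbb' : (α u' : A) * α u' = 1 := congrArg Units.val hbb
  have hab' : Commute (α u : A) (α u') := congrArg Units.val hab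
  have sa : star (α u : A) = α u := by rw [Mem.star_eq h.m ha, Units.inv_eq_of_mul_eq_one_right haa']
  have sb : star (α u' : A) = α u' := by rw [Mem.star_eq h.m hb', Units.inv_eq_of_mul_eq_one_right hbb']
  have cca : Commute (β u : A) (α u) := h.b_comm u ha
  have ccb : Commute (β u : A) (α u') := h.b_comm u hb'
  have cda : Commute (β u' : A) (α u) := h.b_comm u' ha
  have cdb : Commute (β u' : A) (α u') := h.b_comm u' hb'
  have eb : Commute (α u' : A) D.e := hD.comm_e hb'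
  have ec : Commute (β u : A) D.e := h.b_comm_D hD u D.e_mem
  have ed : Commute (β u' : A) D.e := h.b_comm_D hD u' D.e_mem
  have ma := hD.mem _ ha
  have mb := hD.mul_e_mem hb'
  have ea := hD.sub_mul ha
  have cD : ∀ x ∈ D.car, Commute (β u : A) x := fun x hx => h.b_comm_D hD u hx
  have dD : ∀ x ∈ D.car, Commute (β u' : A) x := fun x hx => h.b_comm_D hD u' hx
  set a : A := ((α u : Aˣ) : A)
  set b : A := ((α u' : Aˣ) : A)
  set c : A := ((β u : Aˣ) : A)
  set d : A := ((β u' : Aˣ) : A)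
  -- the idempotents `(a - 1) (1 + σ b)`
  have key : ∀ σ : ℤ, σ * σ = 1 → (a - 1) * (1 + σ • b) ≠ 0 → D.e * ((1 - c) * (1 + σ • d)) = 0 := by
    intro σ hσ h0
    have m1 : (a - 1) * (1 + σ • b) ∈ D.car := by
      rw [← ea, mul_assoc, mul_add, mul_one, mul_smul_comm, ← eb.eq]
      exact mul_mem ma (add_mem D.e_mem (zsmul_mem mb σ))
    have c1 : Commute (a - 1) (1 + σ • b) :=
      (Commute.one_right _).add_right ((hab'.sub_left (Commute.one_left _)).smul_right σ)
    have s1 : star ((a - 1) * (1 + σ • b)) = (a - 1) * (1 + σ • b) := by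
      rw [star_mul, star_add, star_sub, star_one, star_zsmul, sa, sb, c1.eq]
    have k1 : (a - 1) * (1 + a * c) = (a - 1) * (1 - c) := by
      rw [mul_add, mul_sub (a - 1), ← mul_assoc, sub_mul a 1 a, haa']; noncomm_ring
    have k2 : (1 + σ • b) * (1 + b * d) = (1 + σ • b) * (1 + σ • d) := by
      rw [mul_add, mul_add, ← mul_assoc, add_mul 1 _ b, smul_mul_assoc, hbb', add_mul 1 _ (σ • d), smul_mul_smul_comm, hσ]
      simp [add_mul, add_comm]
    have c2 : Commute (1 + σ • b) (1 + a * c) :=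
      (Commute.one_right _).add_right ((Commute.one_left _).add_left ((hab'.symm.mul_right ccb.symm).smul_left σ))
    have c3 : Commute (1 + σ • b) (1 - c) :=
      (Commute.one_right _).sub_right ((Commute.one_left _).add_left (ccb.symm.smul_left σ))
    have k3 : (a - 1) * (1 + σ • b) * ((1 - c) * (1 + σ • d)) = 0 := by
      have k4 : (a - 1) * (1 + σ • b) * ((1 + a * c) * (1 + b * d) * D.e) = 0 := by rw [h4, mul_zero]
      have c4 : Commute ((1 - c) * (1 + σ • d)) D.e :=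
        ((Commute.one_left _).sub_left ec).mul_left ((Commute.one_left _).add_left (ed.smul_left σ))
      calc _ = (a - 1) * (1 + σ • b) * D.e * ((1 - c) * (1 + σ • d)) := by rw [D.mul_e _ m1]
        _ = (a - 1) * ((1 + σ • b) * (1 - c)) * (1 + σ • d) * D.e := by rw [mul_assoc, ← c4.eq]; simp only [mul_assoc]
        _ = (a - 1) * (1 - c) * ((1 + σ • b) * (1 + σ • d)) * D.e := by rw [c3.eq]; simp only [mul_assoc]
        _ = (a - 1) * ((1 + a * c) * (1 + σ • b)) * (1 + b * d) * D.e := by rw [← k1, ← k2]; simp only [mul_assoc]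
        _ = 0 := by rw [← c2.eq, ← k4]; simp only [mul_assoc]
    exact Blk.kill hD.ss (fun x hx => (((Commute.one_left x).sub_left (cD x hx)).mul_left
      ((Commute.one_left x).add_left ((dD x hx).smul_left σ))).eq) m1 h0 k3 (by rw [s1, k3])
  have k1 := key 1 rfl fun h0 => hb1 (hc _ hb' (cen_of_neg h.m hD hb' (hu.mul_right_eq_zero.1 ?_)))
  · have k2 := key (-1) rfl fun h0 => hne ?_
    · refine ha1 (h.a_eq_one hc (Or.inr (h.b_eq_one hD hb (hu.mul_right_eq_zero.1 ?_))))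
      calc 2 * (D.e * (c - 1)) = -(D.e * ((1 - c) * (1 + (1 : ℤ) • d)) + D.e * ((1 - c) * (1 + (-1 : ℤ) • d))) := by
            noncomm_ring
        _ = 0 := by rw [k1, k2, add_zero, neg_zero]
    · have k3 := hc _ (mul_mem ha hb') (cen_of_neg h.m hD (mul_mem ha hb') (hu.mul_right_eq_zero.1 (by
        rw [Units.val_mul]
        calc 2 * ((1 + a * b) * D.e) = (1 + a) * (1 + b) * D.e - (a - 1) * (1 + (-1 : ℤ) • b) * D.e := by noncomm_ring
          _ = 0 := by rw [h3, h0, zero_mul, sub_zero])))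
      rw [← mul_one (α u), ← hbb, ← mul_assoc, k3, one_mul]
  · calc 2 * ((1 + b) * D.e) = (1 + a) * (1 + b) * D.e - (a - 1) * (1 + (1 : ℤ) • b) * D.e := by noncomm_ring
      _ = 0 := by rw [h3, h0, zero_mul, sub_zero]

theorem not_tyIV (h1 : TyIV T D.e) (hc' : NoCen T')
    (h2 : ∀ w ∈ T', w ^ 5 = 1 → w ≠ 1 → (1 + (w : A) + (w : A) ^ 2 + (w : A) ^ 3 + (w : A) ^ 4) * D.e = 0) : False := by
  obtain ⟨h0, hc, h1, t, ht, ht5, ht1, s, hs, s', hs', hst⟩ := h1
  obtain ⟨u, rfl⟩ := h.exists_u ht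
  have hc5 : β u ^ 5 = 1 := by rw [← map_pow]; exact (h.w_eq_one hc' (by rw [map_pow, ht5])).2
  have hcm : Commute (α u) (β u) := h.comm u u
  have h3 := h2 _ (h.w_mem u) (by rw [hcm.mul_pow, ht5, hc5, mul_one]) fun h4 => ht1 (h.a_eq_one hc (Or.inl h4))
  have hcl : ∀ z : A, Commute z D.e → (∀ t ∈ T, z * t = t * z) → Commute z s := by
    intro z hz1 hz2
    have h4 : Subring.closure (insert D.e ((fun u : Aˣ => (u : A)) '' T)) ≤ Subring.centralizer {z} := by
      rw [Subring.closure_le]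
      rintro x (rfl | ⟨t, ht, rfl⟩) y hy
      · rw [Set.mem_singleton_iff.1 hy]; exact hz1
      · rw [Set.mem_singleton_iff.1 hy]; exact hz2 t ht
    exact h4 hs z rfl
  have cs : Commute (β u : A) s := hcl _ (h.b_comm_D hD u D.e_mem) fun t ht => h.b_comm u ht
  have es : Commute D.e s := hcl _ (Commute.refl _) fun t ht => (hD.comm_e ht).symm
  have et : Commute (α u : A) D.e := hD.comm_e ht
  have ec : Commute (β u : A) D.e := h.b_comm_D hD u D.e_mem
  have tc : Commute (α u : A) (β u) := congrArg Units.val hcm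
  have t5 : (α u : A) ^ 5 = 1 := by rw [← Units.val_pow_eq_pow_val, ht5, Units.val_one]
  have c5 : (β u : A) ^ 5 = 1 := by rw [← Units.val_pow_eq_pow_val, hc5, Units.val_one]
  have h4 : ∀ k : ℕ, 1 ≤ k → k ≤ 4 → (1 + (α u : A) ^ k + ((α u : A) ^ k) ^ 2 + ((α u : A) ^ k) ^ 3 +
      ((α u : A) ^ k) ^ 4) * D.e = 0 := by
    intro k hk1 hk2
    have h5 := h1 _ (pow_mem ht k) (by rw [← pow_mul, mul_comm, pow_mul, ht5, one_pow]) (by
      intro h6
      have h7 : orderOf (α u) = 5 := by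
        have : Fact (Nat.Prime 5) := ⟨by norm_num⟩
        exact orderOf_eq_prime ht5 ht1
      have h8 := Nat.le_of_dvd hk1 (orderOf_dvd_of_pow_eq_one h6)
      omega)
    rwa [Units.val_pow_eq_pow_val] at h5
  rw [Units.val_mul] at h3
  set t : A := ((α u : Aˣ) : A)
  set c : A := ((β u : Aˣ) : A)
  let P : A → A := fun x => 1 + x + x ^ 2 + x ^ 3 + x ^ 4
  have h5 : ∀ a : ℕ, P (t ^ (2 * a) * c) * D.e = 0 → P (t ^ a * c) * D.e = 0 := by
    intro a ha
    have k1 : SemiconjBy s (t ^ a * c) (t ^ (2 * a) * c) := by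
      have k2 : SemiconjBy s t (t ^ 2) := hst
      rw [pow_mul]
      exact (k2.pow_right a).mul_right cs.symm
    have k2 : SemiconjBy s (P (t ^ a * c)) (P (t ^ (2 * a) * c)) :=
      ((((SemiconjBy.one_right s).add_right k1).add_right (k1.pow_right 2)).add_right (k1.pow_right 3)).add_right
        (k1.pow_right 4)
    have k3 : Commute (t ^ a * c) D.e := (et.pow_left a).mul_left ec
    have k4 : Commute (P (t ^ a * c)) D.e :=
      ((((Commute.one_left _).add_left k3).add_left (k3.pow_left 2)).add_left (k3.pow_left 3)).add_left (k3.pow_left 4)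
    calc P (t ^ a * c) * D.e = s' * (s * P (t ^ a * c)) * D.e := by
          rw [← mul_assoc, hs', ← k4.eq, mul_assoc, D.idem]
      _ = 0 := by rw [k2.eq, mul_assoc, mul_assoc, ← es.eq, ← mul_assoc (P _), ha, zero_mul, mul_zero]
  have r : ∀ k : ℕ, t ^ k = t ^ (k % 5) := fun k => pow_eq_pow_mod k t5
  have p1 : P (t ^ 1 * c) * D.e = 0 := by rw [pow_one]; exact h3
  have p3 := h5 3 (by rw [r]; exact p1)
  have p4 := h5 4 (by rw [r]; exact p3)
  have p2 := h5 2 p4
  have e : ∀ a k : ℕ, (t ^ a * c) ^ k = (t ^ k) ^ a * c ^ k := fun a k => by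
    rw [(tc.pow_left a).mul_pow, ← pow_mul, ← pow_mul, mul_comm]
  have h6 : P c * D.e = D.e := by
    have k1 := h4 1 (by norm_num) (by norm_num)
    have k2 := h4 2 (by norm_num) (by norm_num)
    have k3 := h4 3 (by norm_num) (by norm_num)
    have k4 := h4 4 (by norm_num) (by norm_num)
    have k5 : ∀ (k : ℕ) (x : A), x * D.e = 0 → x * c ^ k * D.e = 0 := fun k x hx => by
      rw [mul_assoc, (ec.pow_left k).eq, ← mul_assoc, hx, zero_mul]
    have k6 : (P c + P (t ^ 1 * c) + P (t ^ 2 * c) + P (t ^ 3 * c) + P (t ^ 4 * c)) * D.e =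
        (2 + 2 + 1) * D.e + P (t ^ 1) * c ^ 1 * D.e + P (t ^ 2) * c ^ 2 * D.e + P (t ^ 3) * c ^ 3 * D.e +
          P (t ^ 4) * c ^ 4 * D.e := by
      simp only [P, e]
      noncomm_ring
    rw [add_mul, add_mul, add_mul, add_mul, p1, p2, p3, p4, k5 _ _ k1, k5 _ _ k2, k5 _ _ k3, k5 _ _ k4, h0] at k6
    simpa using k6
  refine ht1 (h.a_eq_one hc (Or.inr (h.b_eq_one hD hb ?_)))
  calc D.e * (c - 1) = (c - 1) * (P c * D.e) := by rw [h6, mul_sub, sub_mul, ec.eq, mul_one, one_mul]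
    _ = (c ^ 5 - 1) * D.e := by simp only [P]; noncomm_ring
    _ = 0 := by rw [c5, sub_self, zero_mul]

theorem not_tyI (hc : NoCen T) (h1 : TyI T) (h2 : TyI T') : False := by
  have key : ∀ t ∈ T, t * t = 1 := by
    intro t ht
    obtain ⟨u, rfl⟩ := h.exists_u ht
    by_cases h3 : ∀ s ∈ T, s * α u * s⁻¹ * α u = α u * (s * α u * s⁻¹)
    · -- `t` commutes with its conjugates
      let N : Subgroup Aˣ := Subgroup.closure {x | ∃ s ∈ T, x = s * α u * s⁻¹}
      have h4 : N ≤ T := by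
        rw [Subgroup.closure_le]
        rintro _ ⟨s, hs, rfl⟩
        exact nm_self T s hs _ ht
      have h5 : Nm T N := by
        intro r hr
        have h6 : N ≤ N.comap (MulAut.conj r).toMonoidHom := by
          rw [Subgroup.closure_le]
          rintro _ ⟨s, hs, rfl⟩
          refine Subgroup.subset_closure ⟨r * s, mul_mem hr hs, ?_⟩
          change r * (s * α u * s⁻¹) * r⁻¹ = _
          group
        exact fun x hx => h6 hx
      have h6 : N ≤ Subgroup.centralizer {α u} := by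
        rw [Subgroup.closure_le]
        rintro _ ⟨s, hs, rfl⟩
        exact Subgroup.mem_centralizer_singleton_iff.2 (h3 s hs)
      have h7 : α u = 1 := hc _ ht (by
        rcases h.m.qs.dich N h4 h5 with h7 | h7
        · exact fun s hs => (Subgroup.mem_centralizer_singleton_iff.1 (h6 (h7 ▸ hs))).symm
        · exact h7 _ (Subgroup.subset_closure ⟨1, one_mem _, by group⟩))
      rw [h7, mul_one]
    · push Not at h3
      obtain ⟨s, hs, h3⟩ := h3
      obtain ⟨u', rfl⟩ := h.exists_u hs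
      rw [← map_mul]
      refine h.a_eq_one hc (Or.inr (h.b_eq_one hD hb ?_))
      have ht' := nm_self T _ hs _ ht
      have k0 : ∀ v : U, ∀ t ∈ T, Commute (t : A) (β v) := fun v t ht => (h.b_comm v ht).symm
      have k1 := h2 _ (h.w_mem u') _ (h.w_mem u)
      have k2 := h1 _ hs _ ht
      have k3 : ((α u)⁻¹ : Aˣ) = ((α u : A) + ((α u)⁻¹ : Aˣ)) - α u := by rw [add_sub_cancel_left]
      have k4 : ((α u' * α u * (α u')⁻¹)⁻¹ : Aˣ) =
          ((α u : A) + ((α u)⁻¹ : Aˣ)) - (α u' * α u * (α u')⁻¹ : Aˣ) := by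
        rw [eq_sub_iff_add_eq, mul_inv_rev, mul_inv_rev, inv_inv]
        simp only [Units.val_mul]
        rw [← mul_assoc, ← add_mul, ← mul_add, add_comm, k2, Units.mul_inv_cancel_right]
      have k5 : ∀ r ∈ T, Commute (r : A) ((α u : A) + ((α u)⁻¹ : Aˣ)) := fun r hr => h1 r hr _ ht
      set τ : A := (α u : A) + ((α u)⁻¹ : Aˣ) with hτ
      set t' : Aˣ := α u' * α u * (α u')⁻¹ with ht'e
      set y : A := (β (u' * u * u'⁻¹) : A) - β (u' * u⁻¹ * u'⁻¹) with hy
      have k6 : ((α u * β u : Aˣ) : A) + ((α u * β u)⁻¹ : Aˣ) = t' * y + τ * β (u' * u⁻¹ * u'⁻¹) := by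
        have k7 : ((α u * β u : Aˣ) : A) + ((α u * β u)⁻¹ : Aˣ) =
            (α u' * β u' : Aˣ) * (((α u * β u : Aˣ) : A) + ((α u * β u)⁻¹ : Aˣ)) * ((α u' * β u')⁻¹ : Aˣ) := by
          rw [k1, Units.mul_inv_cancel_right]
        rw [k7, mul_add, add_mul, ← Units.val_mul, ← Units.val_mul, ← Units.val_mul, ← Units.val_mul, ← h.w_inv,
          ← h.w_inv, ← h.w_mul, ← h.w_mul, ← h.w_mul, ← h.w_mul, Units.val_mul, Units.val_mul, hy, mul_sub,
          map_mul α, map_mul α, map_inv α, ← ht'e,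
          show α (u' * u⁻¹ * u'⁻¹) = t'⁻¹ by rw [ht'e]; simp only [map_mul, map_inv]; group, k4, sub_mul]
        abel
      have k7 : Commute (α u : A) (((α u * β u : Aˣ) : A) + ((α u * β u)⁻¹ : Aˣ)) := by
        have k8 : Commute (α u : A) ((α u * β u : Aˣ) : A) := by
          rw [Units.val_mul]; exact (Commute.refl _).mul_right (k0 u _ ht)
        exact k8.add_right k8.units_inv_right
      have k8 : Commute (α u : A) y := (k0 _ _ ht).sub_right (k0 _ _ ht)
      have k9 : ((t' : A) * α u - α u * t') * y = 0 := by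
        have k10 := k7.eq
        have k11 := ((k5 _ ht).mul_right (k0 (u' * u⁻¹ * u'⁻¹) _ ht)).eq
        rw [k6, mul_add, add_mul _ _ (α u : A), k11, add_left_inj, mul_assoc, ← k8.eq] at k10
        rw [sub_mul, mul_assoc, mul_assoc, k10, sub_self]
      have k10 : (t' : A) * α u - α u * t' ∈ D.car := by
        rw [show (t' : A) * α u - α u * t' = (t' - 1) * (α u - 1) - (α u - 1) * (t' - 1) by noncomm_ring]
        exact sub_mem (mul_mem (hD.mem _ ht') (hD.mem _ ht)) (mul_mem (hD.mem _ ht) (hD.mem _ ht'))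
      have k11 := Blk.kill hD.ss (y := y) (fun x hx => by
          rw [hy, sub_mul, mul_sub, h.b_comm_D hD _ hx, h.b_comm_D hD _ hx]) k10
        (fun k12 => h3 (Units.ext (sub_eq_zero.1 k12))) k9 (by
          rw [star_sub, star_mul, star_mul, Mem.star_eq h.m ht, Mem.star_eq h.m ht', k3, k4]
          have k12 := (k5 _ ht).eq
          have k13 := (k5 _ ht').eq
          calc _ = (τ * α u - α u * τ - (τ * t' - t' * τ)) * y - (t' * α u - α u * t') * y := by noncomm_ring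
            _ = 0 := by rw [k12, k13, k9]; simp)
      rw [hy, mul_sub, sub_eq_zero] at k11
      have k12 : D.e * (β (u' * (u * u) * u'⁻¹) : A) = D.e := by
        rw [show u' * (u * u) * u'⁻¹ = u' * u * u'⁻¹ * (u' * u * u'⁻¹) by group, map_mul, Units.val_mul, ← mul_assoc, k11,
          mul_assoc, ← Units.val_mul, ← map_mul, show u' * u⁻¹ * u'⁻¹ * (u' * u * u'⁻¹) = 1 by group, map_one,
          Units.val_one, mul_one]
      have k13 := h.b_eq_one hD hb (u := u' * (u * u) * u'⁻¹) (by rw [mul_sub, k12, mul_one, sub_self])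
      rw [map_mul, map_mul, map_inv, mul_inv_eq_one, mul_eq_left] at k13
      rw [k13, Units.val_one, sub_self, mul_zero]
  refine h.m.qs.nc fun s hs t ht => ?_
  have h3 := key _ (mul_mem hs ht)
  calc s * t = (t * t) * (s * t) * (s * s) := by rw [key t ht, key s hs, one_mul, mul_one]
    _ = t * (t * s * t * s) * s := by group
    _ = _ := by
      have h4 : t * s * t * s = 1 := by
        have h5 := key _ (mul_mem ht hs)
        rwa [← mul_assoc] at h5
      rw [h4, mul_one]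

end DD

/-- **Box Cyc.** -/
theorem boxCyc : BoxCyc := by
  intro A _ _ _ F p hA hp h0 ι _ _ σ T hσ hm hsh hd
  classical
  choose U gU α β h1 h2 h3 h4 h5 h6 h7 using hd
  have h : ∀ i, DD F (T i) (T (σ i)) (α i) (β i) := fun i =>
    ⟨hA, hm i, hm (σ i), h1 i, h2 i, h3 i, h4 i, h5 i, h6 i, h7 i⟩
  have hS : ∀ i, ShS (T i) := by
    by_contra hne
    push Not at hne
    obtain ⟨i, hi⟩ := hne
    have hB : ∀ j : {i // ¬ ShS (T i)}, ShB F (T j) := fun j => (hsh j).resolve_left j.2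
    have h8 := pot (f := fun j : {i // ¬ ShS (T i)} => (⟨σ j, (h j).shB_not_shS (hB j)⟩ : {i // ¬ ShS (T i)}))
      (fun a b hab => Subtype.ext (hσ (congrArg Subtype.val hab))) (fun j => Nat.card (ImI (T j)))
      (fun j => card_le_of_le ((h j).shB_le (hB j))) ⟨i, hi⟩
    exact (h i).shB_ne (hB ⟨i, hi⟩) (eq_of_le_of_card ((h i).shB_le (hB ⟨i, hi⟩)) h8.le)
  choose D hD hU hT using hS
  let X := Σ i, {v : Aˣ // v ∈ T i ∧ Uni v}
  have hx : ∀ x : X, ∃ u, α x.1 u = x.2.1 ∧ Uni (β x.1 u) := fun x => (h x.1).exists_uni hp h0 x.2.2.1 x.2.2.2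
  choose u hu1 hu2 using hx
  let f : X → X := fun x => ⟨σ x.1, α x.1 (u x) * β x.1 (u x), (h x.1).w_mem _,
    (h x.1).uni_w (by rw [hu1]; exact x.2.2.2) (hu2 x)⟩
  have hf : Function.Injective f := by
    rintro ⟨i, v⟩ ⟨i', v'⟩ e
    obtain rfl : i = i' := hσ (congrArg Sigma.fst e)
    have e1 : α i (u ⟨i, v⟩) * β i (u ⟨i, v⟩) = α i (u ⟨i, v'⟩) * β i (u ⟨i, v'⟩) :=
      congrArg (fun x : X => x.2.1) e
    have k1 : α i (u ⟨i, v⟩) = v.1 := hu1 ⟨i, v⟩
    have k2 : α i (u ⟨i, v'⟩) = v'.1 := hu1 ⟨i, v'⟩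
    have e2 := (h i).uni_inj (by rw [k1]; exact v.2.2) (by rw [k2]; exact v'.2.2) e1
    rw [k1, k2] at e2
    rw [Subtype.ext e2]
  have hP : ∀ (j : ℕ) (x : X), Nat.card (Ideal.span {(((α x.1 (u x) * β x.1 (u x) : Aˣ) : A) - 1) ^ (j + 1)}) =
      Nat.card (Ideal.span {((α x.1 (u x) : A) - 1) ^ (j + 1)}) := by
    intro j x
    let φ : Aˣ → ℕ := fun v => Nat.card (Ideal.span {((v : A) - 1) ^ (j + 1)})
    have h8 : φ (f x).2.1 = φ x.2.1 := pot hf (fun x : X => φ x.2.1) (fun x => by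
      have h9 : φ (α x.1 (u x)) ≤ φ (α x.1 (u x) * β x.1 (u x)) := ((h x.1).lemP' (hD x.1) (hu2 x) j).1
      exact (congrArg φ (hu1 x)).symm.le.trans h9) x
    exact h8.trans (congrArg φ (hu1 x)).symm
  have hb : ∀ i w, (1 - (D i).e) * (β i w : A) = 1 - (D i).e := by
    intro i
    obtain ⟨v, hv, hv1, hvu⟩ := hU i
    let x : X := ⟨i, v, hv, hvu⟩
    have k4 : α i (u x) = v := hu1 x
    exact (h i).b_compl (hD i) (u₀ := u x)
      (fun hc => hv1 (SS.eq_one_of_cen_uni hA (k4 ▸ hc) hvu)) ((h i).b_compl_one (hD i) (hu2 x) (hP 0 x))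
  have he : ∀ i, (D (σ i)).e = (D i).e := fun i => (h i).e_eq (hD i) (hD (σ i))
    (eq_of_le_of_card ((h i).fix_le (hD i) (hb i))
      (pot hσ (fun i => Nat.card (FixI (T i))) (fun i => card_le_of_le ((h i).fix_le (hD i) (hb i))) i).le)
  have hN : ∀ i, ¬ TyN (T i) := by
    rintro i ⟨v, hv, j, hj, k1, k2, k3⟩
    obtain ⟨j, rfl⟩ : ∃ j', j = j' + 1 := ⟨j - 1, by omega⟩
    let x : X := ⟨i, v, hv, ⟨_, k1⟩⟩
    have k4 : α i (u x) = v := hu1 x
    have k5 := hP (j + 1) x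
    refine (h i).not_tyN (hD i) (hb i) (hu2 x) (j := j) (by rw [k4]; exact k1) (by rw [k4]; exact k2) k3 ?_
    rw [← Ideal.span_singleton_eq_bot, ← eq_of_le_of_card (bot_le (a := Ideal.span _)) (k5.le.trans (le_of_eq ?_))]
    rw [k4, k1, Ideal.span_singleton_eq_bot.2 rfl]
  have hT' : ∀ i, TyI (T i) ∨ TyII (T i) (D i).e ∨ TyIV (T i) (D i).e := by
    intro i
    rcases hT i with k | ⟨v, hv, hv1, hvu, a, g, ha, hg, k⟩ | k | k
    · exact ((h i).not_tyA (hD i) (hb i) k).elim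
    · let x : X := ⟨i, v, hv, hvu⟩
      have k4 : α i (u x) = v := hu1 x
      exact ((h i).not_tyR (hD i) (hb i) (hu2 x) (by rw [k4]; exact hvu) (by rw [k4]; exact hv1) (hP 0 x)
        (by rw [k4]; exact ha) (by rw [k4]; exact hg) k).elim
    · exact (hN i k).elim
    · exact k
  have := hA.nontrivial
  obtain ⟨i₀⟩ := ‹Nonempty ι›
  rcases SS.natCast_cases hA 2 with h2 | h2
  · rw [Nat.cast_ofNat] at h2
    have k1 : ∀ i, TyI (T i) ∨ TyIV (T i) (D i).e := fun i => by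
      rcases hT' i with k | k | k
      · exact Or.inl k
      · exact absurd (h2 ▸ k.1) not_isUnit_zero
      · exact Or.inr k
    have k2 : ∀ i, NoCen (T i) := fun i => (k1 i).elim (fun k => noCen_of_tyI (hm i) (hD i) hA k (hU i) h2) fun k => k.2.1
    by_cases k3 : ∀ i, TyI (T i)
    · exact (h i₀).not_tyI (hD i₀) (hb i₀) (k2 i₀) (k3 i₀) (k3 _)
    · push Not at k3
      obtain ⟨i, hi⟩ := k3
      refine (h i).not_tyIV (hD i) (hb i) ((k1 i).resolve_left hi) (k2 _) fun w hw k4 k5 => ?_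
      rw [← he i]
      exact (k1 (σ i)).elim (fun k => five_of_tyI (hm _) (hD _) k hw k4 k5) fun k => k.2.2.1 w hw k4 k5
  · rw [Nat.cast_ofNat] at h2
    have k1 : ∀ i, TyII (T i) (D i).e := fun i => by
      rcases hT' i with k | k | k
      · exact (hN i (tyN_of_tyI (hm i) (hD i) k (hU i) h2)).elim
      · exact k
      · exact absurd (k.1 ▸ h2) not_isUnit_zero
    exact (h i₀).not_tyII (hD i₀) (hb i₀) (k1 i₀) (he i₀ ▸ k1 (σ i₀))

end Cfsg.Agent.Cam.Cl.Cy
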