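import Cfsg.Agent.Cam.Cl.Base

/-!
# Classical rows of S3689, box Cyc: ring lemmas (helper70)

Counting left ideals (`lemP`), nilpotent elements, unipotent units.
-/

set_option autoImplicit false

namespace Cfsg.Agent.Cam.Cl.Cy

open Cfsg Cfsg.Agent.DS.Cl Cfsg.Agent.Cam.Cl

section ring

variable {A : Type} [Ring A]

theorem card_sup_inf (X Y : Ideal A) :
    Nat.card ↥(X ⊔ Y) * Nat.card ↥(X ⊓ Y) = Nat.card X * Nat.card Y := by
  have h1 := Submodule.card_eq_card_quotient_mul_card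
    (Submodule.comap X.subtype X ⊓ Submodule.comap X.subtype Y)
  have h2 := Submodule.card_eq_card_quotient_mul_card (Submodule.comap (X ⊔ Y).subtype Y)
  have h3 := Nat.card_congr (LinearMap.quotientInfEquivSupQuotient X Y).toEquiv
  have h4 := Nat.card_congr (Submodule.comapSubtypeEquivOfLe (le_sup_right : Y ≤ X ⊔ Y)).toEquiv
  have h5 := Nat.card_congr (Submodule.comapSubtypeEquivOfLe (inf_le_left : X ⊓ Y ≤ X)).toEquiv
  rw [Submodule.comap_inf] at h5
  rw [h1, h2, h3, h4, h5]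
  ring

theorem card_le_of_le [Finite A] {X Y : Ideal A} (h : X ≤ Y) : Nat.card X ≤ Nat.card Y :=
  Nat.card_le_card_of_injective _ (Submodule.inclusion_injective h)

theorem eq_of_le_of_card [Finite A] {X Y : Ideal A} (h : X ≤ Y) (hc : Nat.card Y ≤ Nat.card X) : X = Y :=
  Submodule.toAddSubgroup_injective (AddSubgroup.eq_of_le_of_card_ge (H := X.toAddSubgroup) (K := Y.toAddSubgroup) h hc)

theorem eq_zero_of_nil {n x b : A} (hn : IsNilpotent n) (h : x = b * x * n) : x = 0 := by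
  obtain ⟨k, hk⟩ := hn
  have h1 : ∀ j : ℕ, x = b ^ j * x * n ^ j := by
    intro j
    induction j with
    | zero => simp
    | succ j ih =>
      calc x = b ^ j * x * n ^ j := ih
        _ = b ^ j * (b * x * n) * n ^ j := by rw [← h]
        _ = _ := by rw [pow_succ, pow_succ']; simp only [mul_assoc]
  rw [h1 k, hk, mul_zero]

theorem exists_top {n : A} (hn : IsNilpotent n) (h0 : n ≠ 0) : ∃ m : ℕ, n ^ (m + 1) ≠ 0 ∧ n ^ (m + 2) = 0 := by
  classical
  have h1 := Nat.find_spec hn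
  have h2 : ∀ m, m < Nat.find hn → n ^ m ≠ 0 := fun m hm => Nat.find_min hn hm
  obtain h3 | h3 | ⟨m, h3⟩ : Nat.find hn = 0 ∨ Nat.find hn = 1 ∨ ∃ m, Nat.find hn = m + 2 := by
    rcases Nat.find hn with _ | _ | m
    · exact Or.inl rfl
    · exact Or.inr (Or.inl rfl)
    · exact Or.inr (Or.inr ⟨m, rfl⟩)
  · rw [h3, pow_zero] at h1
    exact absurd (by rw [← mul_one n, h1, mul_zero]) h0
  · rw [h3, pow_one] at h1
    exact absurd h1 h0
  · exact ⟨m, h2 _ (by omega), h3 ▸ h1⟩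

theorem binom {x n : A} (h : Commute x n) (k : ℕ) :
    ∃ y, (x + n) ^ (k + 1) = x ^ (k + 1) + ((k + 1 : ℕ) : A) * x ^ k * n + y * n ^ 2 := by
  induction k with
  | zero => exact ⟨0, by simp⟩
  | succ k ih =>
    obtain ⟨y, hy⟩ := ih
    refine ⟨((k + 1 : ℕ) : A) * x ^ k + y * (x + n), ?_⟩
    have h1 : n * x = x * n := h.eq.symm
    have h2 : n ^ 2 * (x + n) = (x + n) * n ^ 2 := ((h.symm.add_right (Commute.refl n)).pow_left 2).eq
    rw [pow_succ, hy, add_mul, add_mul, mul_assoc y, h2, mul_add, mul_add, mul_assoc _ n x, h1]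
    push_cast
    rw [pow_succ x (k + 1), pow_succ x k, pow_two]
    noncomm_ring

theorem pow_add_eq {x y n : A} (hx : Commute n x) (hy : Commute n y) (k : ℕ) :
    ∃ w, Commute n w ∧ (x + y * n) ^ k = x ^ k + w * n := by
  have h1 : Commute n (x + y * n) := hx.add_right (hy.mul_right (Commute.refl n))
  induction k with
  | zero => exact ⟨0, Commute.zero_right n, by simp⟩
  | succ k ih =>
    obtain ⟨w, hw, he⟩ := ih
    refine ⟨x ^ k * y + w * (x + y * n), ((hx.pow_right k).mul_right hy).add_right (hw.mul_right h1), ?_⟩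
    rw [pow_succ, he, add_mul, mul_assoc w, h1.eq, pow_succ]
    noncomm_ring

variable [Finite A]

/-- **Lemma P.** -/
theorem lemP {n φ φ0 r w : A} (hn : IsNilpotent n) (hφ : φ = φ0 + w * n) (c0 : Commute n φ0) (cw : Commute n w)
    (cr : Commute n r) (hr : φ0 * r * φ0 = φ0) :
    Nat.card (Ideal.span {φ0}) ≤ Nat.card (Ideal.span {φ}) ∧
      (Nat.card (Ideal.span {φ}) = Nat.card (Ideal.span {φ0}) → ∀ a b : A, a * φ = b * n → ∃ c, a * φ = c * (n * φ)) := by
  have cφ : Commute n φ := hφ ▸ c0.add_right (cw.mul_right (Commute.refl n))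
  have step : ∀ i : ℕ, Nat.card (Ideal.span {n ^ i * φ}) * Nat.card (Ideal.span {n ^ (i + 1) * φ0}) =
      Nat.card (Ideal.span {n ^ i * φ0}) * Nat.card ↥(Ideal.span {n ^ i * φ} ⊓ Ideal.span {n ^ (i + 1)}) := by
    intro i
    have e1 : n ^ i * φ = n ^ i * φ0 + w * n ^ (i + 1) := by
      rw [hφ, mul_add, ← mul_assoc, (cw.pow_left i).eq, mul_assoc, pow_succ]
    have h1 : Ideal.span {n ^ i * φ} ⊔ Ideal.span {n ^ (i + 1)} = Ideal.span {n ^ i * φ0} ⊔ Ideal.span {n ^ (i + 1)} := by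
      apply le_antisymm
      · refine sup_le ((Ideal.span_singleton_le_iff_mem _).2 ?_) le_sup_right
        rw [e1]
        exact Submodule.add_mem_sup (Ideal.mem_span_singleton_self _) (Ideal.mem_span_singleton'.2 ⟨w, rfl⟩)
      · refine sup_le ((Ideal.span_singleton_le_iff_mem _).2 ?_) le_sup_right
        rw [← sub_eq_iff_eq_add.2 e1, sub_eq_add_neg, ← neg_mul]
        exact Submodule.add_mem_sup (Ideal.mem_span_singleton_self _) (Ideal.mem_span_singleton'.2 ⟨-w, rfl⟩)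
    have h2 : Ideal.span {n ^ i * φ0} ⊓ Ideal.span {n ^ (i + 1)} = Ideal.span {n ^ (i + 1) * φ0} := by
      apply le_antisymm
      · rintro x ⟨hx1, hx2⟩
        obtain ⟨a, rfl⟩ := Ideal.mem_span_singleton'.1 hx1
        obtain ⟨b, hb⟩ := Ideal.mem_span_singleton'.1 hx2
        refine Ideal.mem_span_singleton'.2 ⟨b * r, ?_⟩
        have h3 : a * (n ^ i * φ0) = a * (n ^ i * φ0) * r * φ0 := by
          rw [mul_assoc a, mul_assoc a, mul_assoc (n ^ i), mul_assoc (n ^ i), hr]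
        rw [h3, ← hb, mul_assoc b r, ← mul_assoc r, ← (cr.pow_left (i + 1)).eq]
        simp only [mul_assoc]
      · rw [Ideal.span_singleton_le_iff_mem]
        refine ⟨Ideal.mem_span_singleton'.2 ⟨n, by rw [← mul_assoc, ← pow_succ']⟩,
          Ideal.mem_span_singleton'.2 ⟨φ0, (c0.pow_left (i + 1)).eq.symm⟩⟩
    have h3 := card_sup_inf (Ideal.span {n ^ i * φ}) (Ideal.span {n ^ (i + 1)})
    have h4 := card_sup_inf (Ideal.span {n ^ i * φ0}) (Ideal.span {n ^ (i + 1)})
    rw [h1] at h3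
    rw [h2] at h4
    have h5 : 0 < Nat.card (Ideal.span {n ^ (i + 1)}) := Nat.card_pos
    apply Nat.eq_of_mul_eq_mul_right h5
    calc _ = (Nat.card (Ideal.span {n ^ i * φ}) * Nat.card (Ideal.span {n ^ (i + 1)})) *
          Nat.card (Ideal.span {n ^ (i + 1) * φ0}) := by ring
      _ = (Nat.card ↥(Ideal.span {n ^ i * φ0} ⊔ Ideal.span {n ^ (i + 1)}) * Nat.card (Ideal.span {n ^ (i + 1) * φ0})) *
          Nat.card ↥(Ideal.span {n ^ i * φ} ⊓ Ideal.span {n ^ (i + 1)}) := by rw [← h3]; ring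
      _ = _ := by rw [h4]; ring
  have hle : ∀ i : ℕ, Ideal.span {n ^ (i + 1) * φ} ≤ Ideal.span {n ^ i * φ} ⊓ Ideal.span {n ^ (i + 1)} := by
    intro i
    rw [Ideal.span_singleton_le_iff_mem]
    exact ⟨Ideal.mem_span_singleton'.2 ⟨n, by rw [← mul_assoc, ← pow_succ']⟩,
      Ideal.mem_span_singleton'.2 ⟨φ, (cφ.pow_left (i + 1)).eq.symm⟩⟩
  have main : ∀ k i : ℕ, n ^ (i + k) = 0 →
      Nat.card (Ideal.span {n ^ i * φ0}) ≤ Nat.card (Ideal.span {n ^ i * φ}) := by
    intro k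
    induction k with
    | zero =>
      intro i hi
      rw [add_zero] at hi
      rw [hi, zero_mul, zero_mul]
    | succ k ih =>
      intro i hi
      have h1 := (ih (i + 1) (by rwa [add_assoc, add_comm 1 k])).trans (card_le_of_le (hle i))
      have h2 : 0 < Nat.card (Ideal.span {n ^ (i + 1) * φ0}) := Nat.card_pos
      apply Nat.le_of_mul_le_mul_right _ h2
      rw [step i]
      exact Nat.mul_le_mul_left _ h1
  obtain ⟨k, hk⟩ := hn
  have h0 := main k 0 (by rwa [zero_add])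
  rw [pow_zero, one_mul, one_mul] at h0
  refine ⟨h0, fun he a b hab => ?_⟩
  have h1 := step 0
  rw [pow_zero, one_mul, one_mul, he] at h1
  have h2 := Nat.eq_of_mul_eq_mul_left Nat.card_pos h1
  have h3 := main k 1 (by rw [pow_add, hk, mul_zero])
  have h4 := hle 0
  rw [pow_zero, one_mul] at h4
  have h5 := eq_of_le_of_card h4 (by rw [← h2]; exact h3)
  have h6 : a * φ ∈ Ideal.span {φ} ⊓ Ideal.span {n ^ (0 + 1)} :=
    ⟨Ideal.mem_span_singleton'.2 ⟨a, rfl⟩, Ideal.mem_span_singleton'.2 ⟨b, by rw [hab, zero_add, pow_one]⟩⟩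
  rw [← h5, zero_add, pow_one] at h6
  obtain ⟨c, hc⟩ := Ideal.mem_span_singleton'.1 h6
  exact ⟨c, hc.symm⟩

end ring

section uni

variable {A : Type} [Ring A]

theorem uni_of_pow {p : ℕ} (hp : p.Prime) (h0 : (p : A) = 0) {v : Aˣ} {k : ℕ} (hv : v ^ p ^ k = 1) : Uni v := by
  rcases subsingleton_or_nontrivial A with hA | hA
  · exact ⟨0, Subsingleton.elim _ _⟩
  have := Fact.mk hp
  have := (CharP.charP_iff_prime_eq_zero (R := A) hp).2 h0
  refine ⟨p ^ k, ?_⟩
  rw [sub_pow_char_pow_of_commute p k (Commute.one_right _), ← Units.val_pow_eq_pow_val, hv, one_pow, Units.val_one,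
    sub_self]

theorem pow_of_uni {p : ℕ} (hp : p.Prime) (h0 : (p : A) = 0) {v : Aˣ} (hv : Uni v) : ∃ k, v ^ p ^ k = 1 := by
  rcases subsingleton_or_nontrivial A with hA | hA
  · exact ⟨0, Units.ext (Subsingleton.elim _ _)⟩
  have := Fact.mk hp
  have := (CharP.charP_iff_prime_eq_zero (R := A) hp).2 h0
  obtain ⟨k, hk⟩ := hv
  refine ⟨k, Units.ext ?_⟩
  have h1 : ((v : A) - 1) ^ p ^ k = 0 := pow_eq_zero_of_le (Nat.lt_pow_self hp.one_lt).le hk
  rw [sub_pow_char_pow_of_commute p k (Commute.one_right _), one_pow, sub_eq_zero] at h1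
  rw [Units.val_pow_eq_pow_val, h1, Units.val_one]

theorem uni_mul {v z : Aˣ} (hc : v * z = z * v) (hv : Uni v) (hz : Uni z) : Uni (v * z) := by
  have h1 : Commute (v : A) z := by
    have := congrArg Units.val hc
    exact this
  have h2 : ((v * z : Aˣ) : A) - 1 = (v - 1) + v * (z - 1) := by rw [Units.val_mul]; noncomm_ring
  have h3 : Commute (v : A) (z - 1) := h1.sub_right (Commute.one_right _)
  rw [Uni, h2]
  exact Commute.isNilpotent_add (((Commute.refl (v : A)).sub_left (Commute.one_left _)).mul_right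
    (h3.sub_left (Commute.one_left _))) hv (h3.isNilpotent_mul_left hz)

theorem uni_inv {v : Aˣ} (hv : Uni v) : Uni v⁻¹ := by
  have h2 : ((v⁻¹ : Aˣ) : A) - 1 = -((v⁻¹ : Aˣ) : A) * (v - 1) := by
    rw [mul_sub, neg_mul, Units.inv_mul]; noncomm_ring
  rw [Uni, h2]
  refine Commute.isNilpotent_mul_left ?_ hv
  exact (((Commute.refl (v : A)).units_inv_left).sub_right (Commute.one_right _)).neg_left

/-- the `p`-part: a power that fixes a given `p`-element and makes another element a `p`-element -/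
theorem exists_exp {G : Type} [Group G] [Finite G] {p : ℕ} (hp : p.Prime) {v : G} {k : ℕ} (hv : v ^ p ^ k = 1) (z : G) :
    ∃ r l : ℕ, v ^ r = v ∧ (z ^ r) ^ p ^ l = 1 := by
  obtain ⟨l, m, hm, hl⟩ := Nat.exists_eq_pow_mul_and_not_dvd (orderOf_pos z).ne' p hp.ne_one
  have hc : (p ^ k).Coprime m := ((Nat.Prime.coprime_iff_not_dvd hp).2 hm).pow_left k
  obtain ⟨r, h1, h2⟩ := Nat.chineseRemainder hc 1 0
  refine ⟨r, l, ?_, ?_⟩
  · rw [pow_eq_pow_mod r hv, h1, ← pow_eq_pow_mod 1 hv, pow_one]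
  · rw [← pow_mul, ← orderOf_dvd_iff_pow_eq_one, hl, mul_comm r]
    exact Nat.mul_dvd_mul_left _ ((Nat.modEq_zero_iff_dvd).1 h2)

end uni

end Cfsg.Agent.Cam.Cl.Cy
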