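import Cfsg.Agent.Cam.Cl.CycA

/-!
# Classical rows of S3689, box Cyc: one diagonal (helper70)

`DD F T T' α β` are the data of `UDiag F T T'`.  The shape `ShB`, the unipotent lifts, and the consequences of Lemma P.
-/

set_option autoImplicit false
set_option linter.unusedSectionVars false

namespace Cfsg.Agent.Cam.Cl.Cy

open Cfsg Cfsg.Agent.DS.Cl Cfsg.Agent.Cam.Cl
open scoped commutatorElement

variable {A : Type} [Ring A] [StarRing A]

/-- the data of a proper diagonal -/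
structure DD (F : FR A) (T T' : Subgroup Aˣ) {U : Type} [Group U] (α β : U →* Aˣ) : Prop where
  ss : SS A
  m : Mem F T
  m' : Mem F T'
  perf : commutator U = ⊤
  range : α.range = T
  iso : ∀ u, β u ∈ F.Iso
  comm : ∀ u u', α u * β u' = β u' * α u
  mem : ∀ w, w ∈ T' ↔ ∃ u, w = α u * β u
  cen : ∀ u, Cen (α u) ↔ Cen (β u)
  cen' : ∀ u, Cen (α u * β u) → Cen (α u)

omit [StarRing A] in
theorem cen_one : Cen (1 : Aˣ) := Subring.one_mem _

omit [StarRing A] in
theorem Cen.comm' {c : Aˣ} (h : Cen c) (t : Aˣ) : c * t = t * c := Units.ext (cen_comm h t).symm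

theorem Mem.unit {F : FR A} {T : Subgroup Aˣ} (h : Mem F T) : ∀ t ∈ T, (t : A) * star (t : A) = 1 :=
  fun _ ht => (h.le ht).1

theorem Mem.star_eq {F : FR A} {T : Subgroup Aˣ} (h : Mem F T) {t : Aˣ} (ht : t ∈ T) :
    star (t : A) = (t⁻¹ : Aˣ) := (star_eq_inv (Mem.unit h t ht)).symm

namespace DD

variable {F : FR A} {T T' : Subgroup Aˣ} {U : Type} [Group U] {α β : U →* Aˣ} (h : DD F T T' α β)
include h

theorem a_mem (u : U) : α u ∈ T := h.range ▸ ⟨u, rfl⟩

theorem w_mem (u : U) : α u * β u ∈ T' := (h.mem _).2 ⟨u, rfl⟩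

theorem exists_u {t : Aˣ} (ht : t ∈ T) : ∃ u, α u = t := by
  rw [← h.range] at ht
  exact ht

theorem b_comm (u : U) {t : Aˣ} (ht : t ∈ T) : (β u : A) * t = t * β u := by
  obtain ⟨u', rfl⟩ := h.exists_u ht
  exact congrArg Units.val (h.comm u' u).symm

theorem w_mul (u u' : U) : α (u * u') * β (u * u') = α u * β u * (α u' * β u') := by
  rw [map_mul, map_mul, mul_assoc, mul_assoc, ← mul_assoc (α u'), h.comm u' u, mul_assoc]

theorem w_inv (u : U) : α u⁻¹ * β u⁻¹ = (α u * β u)⁻¹ := by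
  rw [eq_inv_iff_mul_eq_one, ← h.w_mul, inv_mul_cancel, map_one, map_one, mul_one]

theorem top_perf : (⊤ : Subgroup U) ≤ ⁅(⊤ : Subgroup U), ⊤⁆ := by
  rw [← commutator_def, h.perf]

/-- `β` is not commutative -/
theorem not_comm (hc : ∀ u u', β u * β u' = β u' * β u) : False := by
  have h1 := eq_one_of_perf h.top_perf β (map_one β) (fun a _ b _ => map_mul β a b) fun a _ b _ => hc a b
  refine h.m.qs.nc fun s hs t _ => ?_
  obtain ⟨u, rfl⟩ := h.exists_u hs
  exact Cen.comm' ((h.cen u).2 (by rw [h1 u trivial]; exact cen_one)) t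

theorem b_perf : β.range ≤ ⁅β.range, β.range⁆ := by
  rw [MonoidHom.range_eq_map]
  exact perf_map h.top_perf β

/-! ### the shape `ShB` -/

theorem shB_triv (hB : ShB F T) (u : U) {a : A} (ha : a ∈ ImI T) : a * β u = a :=
  hB.triv β.range (by rintro _ ⟨u, rfl⟩; exact h.iso u) h.b_perf
    (by rintro _ ⟨u, rfl⟩ t ht; exact Units.ext (h.b_comm u ht)) _ ⟨u, rfl⟩ a ha

theorem shB_le (hB : ShB F T) : ImI T ≤ ImI T' := by
  have h1 : ∀ x ∈ ImI T, ∀ t ∈ T, x * ((t : A) - 1) ∈ ImI T' := by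
    intro x hx t ht
    obtain ⟨u, rfl⟩ := h.exists_u ht
    have h2 := Ideal.mul_mem_left _ x (sub_one_mem_ImI (h.w_mem u))
    rwa [Units.val_mul, ← h.b_comm u ht, mul_sub, ← mul_assoc, h.shB_triv hB u hx, ← mul_sub] at h2
  let q := (ImI T').mkQ
  have h2 := eq_one_of_perf (M := Multiplicative (A ⧸ ImI T')) h.m.qs.perf
    (fun t => Multiplicative.ofAdd (q ((t : A) - 1))) (by simp) (fun a ha b hb => by
      rw [← ofAdd_add, ← map_add]
      congr 1
      rw [Submodule.mkQ_apply, Submodule.mkQ_apply, Submodule.Quotient.eq]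
      have h3 := h1 _ (sub_one_mem_ImI ha) b hb
      rwa [show ((a : A) - 1) * ((b : A) - 1) = ((a * b : Aˣ) : A) - 1 - (a - 1 + (b - 1)) by
        rw [Units.val_mul]; noncomm_ring] at h3) (fun a _ b _ => mul_comm _ _)
  exact ImI_le fun t ht => (Submodule.Quotient.mk_eq_zero _).1 (h2 t ht)

theorem shB_ne (hB : ShB F T) : ImI T ≠ ImI T' := by
  intro he
  refine h.not_comm fun u u' => Units.ext ?_
  have key : ∀ u u' : U, ((β u : A) - 1) * ((β u' : A) - 1) = 0 := by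
    intro u u'
    have h1 := h.shB_triv hB u' (he ▸ sub_one_mem_ImI (h.w_mem u))
    have h2 := h.shB_triv hB u' (sub_one_mem_ImI (h.a_mem u))
    have h3 : (α u : A) * (((β u : A) - 1) * ((β u' : A) - 1)) = 0 := by
      rw [Units.val_mul] at h1
      calc _ = (((α u : A) * β u - 1) * β u' - ((α u : A) * β u - 1)) - (((α u : A) - 1) * β u' - (α u - 1)) := by
            noncomm_ring
        _ = 0 := by rw [h1, h2, sub_self, sub_self, sub_self]
    exact (Units.mul_right_eq_zero _).1 h3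
  have h1 := key u u'
  have h2 := key u' u
  rw [Units.val_mul, Units.val_mul]
  calc (β u : A) * β u' = ((β u : A) - 1) * (β u' - 1) + β u + β u' - 1 := by noncomm_ring
    _ = ((β u' : A) - 1) * (β u - 1) + β u + β u' - 1 := by rw [h1, h2]
    _ = _ := by noncomm_ring

theorem shB_not_shS (hB : ShB F T) : ¬ ShS T' := by
  rintro ⟨D, hD, -⟩
  obtain ⟨a, ha1, ha2, ha0⟩ := hB.rad
  have h1 : a ∈ FixI T' := by
    intro w hw
    obtain ⟨u, rfl⟩ := (h.mem w).1 hw
    rw [Units.val_mul, ← mul_assoc, ha2 _ (h.a_mem u), h.shB_triv hB u ha1]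
  have h2 := hD.full (Mem.unit h.m') h.m'.qs.ne_bot h1
  obtain ⟨b, rfl⟩ := Ideal.mem_span_singleton'.1 (hD.ImI_le (h.shB_le hB ha1))
  rw [mul_assoc, D.idem] at h2
  exact ha0 h2

/-! ### unipotent lifts -/

theorem exists_uni [Finite A] {p : ℕ} (hp : p.Prime) (h0 : (p : A) = 0) {v : Aˣ} (hv : v ∈ T) (hu : Uni v) :
    ∃ u, α u = v ∧ Uni (β u) := by
  obtain ⟨u, rfl⟩ := h.exists_u hv
  obtain ⟨k, hk⟩ := pow_of_uni hp h0 hu
  obtain ⟨r, l, h1, h2⟩ := exists_exp hp hk (β u)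
  exact ⟨u ^ r, by rw [map_pow, h1], by rw [map_pow]; exact uni_of_pow hp h0 h2⟩

theorem uni_w {u : U} (h1 : Uni (α u)) (h2 : Uni (β u)) : Uni (α u * β u) := uni_mul (h.comm u u) h1 h2

theorem uni_inj {u u' : U} (h1 : Uni (α u)) (h2 : Uni (α u')) (he : α u * β u = α u' * β u') : α u = α u' := by
  have h3 : Cen (α (u * u'⁻¹)) := h.cen' _ (by rw [h.w_mul, h.w_inv, he, mul_inv_cancel]; exact cen_one)
  have h4 : α u * (α u')⁻¹ = (α u')⁻¹ * α u := by
    have h5 := Cen.comm' h3 (α u')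
    rw [map_mul, map_inv, inv_mul_cancel_right] at h5
    rw [eq_inv_mul_iff_mul_eq, ← h5]
  have h5 := SS.eq_one_of_cen_uni h.ss h3 (by rw [map_mul, map_inv]; exact uni_mul h4 h1 (uni_inv h2))
  rwa [map_mul, map_inv, mul_inv_eq_one] at h5

theorem b_ne_one {u : U} (h1 : Uni (α u)) (h2 : α u ≠ 1) : β u ≠ 1 := fun h3 =>
  h2 (SS.eq_one_of_cen_uni h.ss ((h.cen u).2 (by rw [h3]; exact cen_one)) h1)

/-! ### the semisimple shape -/

variable {D : Blk A} (hD : Sh T D)
include hD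

theorem b_comm_D (u : U) {x : A} (hx : x ∈ D.car) : (β u : A) * x = x * β u := hD.comm (fun _ ht => h.b_comm u ht) hx

theorem n_comm (u : U) {x : A} (hx : x ∈ D.car) : Commute ((β u : A) - 1) x :=
  (show Commute (β u : A) x from h.b_comm_D hD u hx).sub_left (Commute.one_left x)

omit h in
theorem pow_mem_D {v : Aˣ} (hv : v ∈ T) (j : ℕ) : ((v : A) - 1) ^ (j + 1) ∈ D.car := by
  induction j with
  | zero => rw [zero_add, pow_one]; exact hD.mem v hv
  | succ j ih => rw [pow_succ]; exact mul_mem ih (hD.mem v hv)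

/-- Lemma P for the diagonal -/
theorem lemP' [Finite A] {u : U} (hu : Uni (β u)) (j : ℕ) :
    Nat.card (Ideal.span {((α u : A) - 1) ^ (j + 1)}) ≤
        Nat.card (Ideal.span {(((α u * β u : Aˣ) : A) - 1) ^ (j + 1)}) ∧
      (Nat.card (Ideal.span {(((α u * β u : Aˣ) : A) - 1) ^ (j + 1)}) =
          Nat.card (Ideal.span {((α u : A) - 1) ^ (j + 1)}) →
        ∀ a b : A, a * (((α u * β u : Aˣ) : A) - 1) ^ (j + 1) = b * (β u - 1) →
          ∃ c, a * (((α u * β u : Aˣ) : A) - 1) ^ (j + 1) =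
            c * ((β u - 1) * (((α u * β u : Aˣ) : A) - 1) ^ (j + 1))) := by
  have h1 := pow_mem_D hD (h.a_mem u) j
  obtain ⟨r, hr⟩ := hD.ss.regular (D.mk' _ h1)
  have hr' : ((α u : A) - 1) ^ (j + 1) * D.val r * ((α u : A) - 1) ^ (j + 1) = ((α u : A) - 1) ^ (j + 1) :=
    congrArg D.val hr
  have c1 : Commute ((β u : A) - 1) (α u) :=
    (show Commute (β u : A) (α u) from h.b_comm u (h.a_mem u)).sub_left (Commute.one_left _)
  obtain ⟨w, hw, he⟩ := pow_add_eq (c1.sub_right (Commute.one_right _)) c1 (j + 1)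
  have e1 : ((α u * β u : Aˣ) : A) - 1 = (α u - 1) + α u * (β u - 1) := by rw [Units.val_mul]; noncomm_ring
  exact lemP (r := D.val r) hu (by rw [e1, he]) (h.n_comm hD u h1) hw (h.n_comm hD u (D.val_mem r)) hr'

/-- Lemma P with `j = 1` -/
theorem lemP1 [Finite A] {u : U} (hu : Uni (β u))
    (he : Nat.card (Ideal.span {(((α u * β u : Aˣ) : A) - 1) ^ (0 + 1)}) =
      Nat.card (Ideal.span {((α u : A) - 1) ^ (0 + 1)})) {a f : A} (ha : a * ((α u : A) - 1) = 0)
    (hf : ((α u : A) - 1) * f = 0) (hc : Commute ((β u : A) - 1) f) :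
    ∃ b, a * f * (β u - 1) = b * (β u - 1) * (β u - 1) := by
  have c1 : Commute ((β u : A) - 1) (α u) :=
    (show Commute (β u : A) (α u) from h.b_comm u (h.a_mem u)).sub_left (Commute.one_left _)
  have e1 : ((α u * β u : Aˣ) : A) - 1 = (α u - 1) + α u * (β u - 1) := by rw [Units.val_mul]; noncomm_ring
  have ha' : a * (α u : A) = a := by rwa [mul_sub, mul_one, sub_eq_zero] at ha
  have h1 : a * (((α u * β u : Aˣ) : A) - 1) ^ (0 + 1) = a * (β u - 1) := by
    rw [zero_add, pow_one, e1, mul_add, ha, zero_add, ← mul_assoc, ha']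
  obtain ⟨c, hc'⟩ := (h.lemP' hD hu 0).2 he a a h1
  rw [h1, zero_add, pow_one, e1] at hc'
  refine ⟨c * α u * f, ?_⟩
  set n : A := β u - 1
  calc a * f * n = a * n * f := by rw [mul_assoc, ← hc.eq, mul_assoc]
    _ = c * n * ((α u - 1) * f) + c * (n * α u) * (n * f) := by rw [hc']; noncomm_ring
    _ = c * α u * (n * f) * n := by rw [hf, mul_zero, zero_add, c1.eq, hc.eq]; simp only [mul_assoc]; rw [← mul_assoc n f, hc.eq, mul_assoc]
    _ = _ := by rw [hc.eq]; simp only [mul_assoc]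

theorem b_compl_one [Finite A] {u : U} (hu : Uni (β u))
    (he : Nat.card (Ideal.span {(((α u * β u : Aˣ) : A) - 1) ^ (0 + 1)}) =
      Nat.card (Ideal.span {((α u : A) - 1) ^ (0 + 1)})) : (1 - D.e) * ((β u : A) - 1) = 0 := by
  have hi : (1 - D.e) * (1 - D.e) = 1 - D.e := by rw [sub_mul, one_mul, mul_sub, mul_one, D.idem, sub_self, sub_zero]
  have hc : Commute ((β u : A) - 1) (1 - D.e) := (Commute.one_right _).sub_right (h.n_comm hD u D.e_mem)
  obtain ⟨b, hb⟩ := h.lemP1 hD hu he (a := 1 - D.e) (f := 1 - D.e)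
    (by rw [mul_sub, hD.compl_mul (h.a_mem u), mul_one, sub_self])
    (by rw [sub_mul, hD.mul_compl (h.a_mem u), one_mul, sub_self]) hc
  rw [hi] at hb
  refine eq_zero_of_nil (b := b) hu ?_
  calc (1 - D.e) * ((β u : A) - 1) = (1 - D.e) * ((β u : A) - 1) * (1 - D.e) := by rw [mul_assoc, hc.eq, ← mul_assoc, hi]
    _ = b * ((β u : A) - 1) * ((β u - 1) * (1 - D.e)) := by rw [hb, mul_assoc]
    _ = b * (((β u : A) - 1) * (1 - D.e)) * (β u - 1) := by rw [hc.eq]; simp only [mul_assoc]; rw [← mul_assoc (β u - 1 : A), hc.eq, mul_assoc]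
    _ = _ := by rw [hc.eq]

/-- `β` is trivial outside of the support -/
theorem b_compl {u₀ : U} (h1 : ¬ Cen (α u₀)) (h2 : (1 - D.e) * ((β u₀ : A) - 1) = 0) (u : U) :
    (1 - D.e) * (β u : A) = 1 - D.e := by
  have hi : (1 - D.e) * (1 - D.e) = 1 - D.e := by rw [sub_mul, one_mul, mul_sub, mul_one, D.idem, sub_self, sub_zero]
  have hc : ∀ u, (β u : A) * (1 - D.e) = (1 - D.e) * β u := fun u => by
    rw [mul_sub, sub_mul, mul_one, one_mul, h.b_comm_D hD u D.e_mem]
  let N : Subgroup U :=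
    { carrier := {u | (1 - D.e) * (β u : A) = 1 - D.e}
      mul_mem' := fun {a b} ha hb => by
        change (1 - D.e) * (β (a * b) : A) = 1 - D.e
        rw [map_mul, Units.val_mul, ← mul_assoc, ha, hb]
      one_mem' := by
        change (1 - D.e) * (β 1 : A) = 1 - D.e
        rw [map_one, Units.val_one, mul_one]
      inv_mem' := fun {a} ha => by
        change (1 - D.e) * (β a⁻¹ : A) = 1 - D.e
        rw [map_inv, Units.mul_inv_eq_iff_eq_mul, ha] }
  have hN : ∀ s : U, ∀ a ∈ N, s * a * s⁻¹ ∈ N := by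
    intro s a ha
    change (1 - D.e) * (β (s * a * s⁻¹) : A) = 1 - D.e
    rw [map_mul, map_mul, map_inv, Units.val_mul, Units.val_mul, ← mul_assoc, ← mul_assoc, ← hc, mul_assoc (β s : A), ha,
      hc, Units.mul_inv_cancel_right]
  have h3 : N.map α = T := by
    refine (h.m.qs.dich (N.map α) (by rintro _ ⟨a, -, rfl⟩; exact h.a_mem a) ?_).resolve_right fun h4 => h1 ?_
    · rintro s hs _ ⟨a, ha, rfl⟩
      obtain ⟨s, rfl⟩ := h.exists_u hs
      exact ⟨_, hN s a ha, by rw [map_mul, map_mul, map_inv]⟩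
    · refine h.m.zc _ (h.a_mem u₀) (h4 _ ⟨u₀, ?_, rfl⟩)
      change (1 - D.e) * (β u₀ : A) = 1 - D.e
      rwa [mul_sub, mul_one, sub_eq_zero] at h2
  have h4 : ∀ u, ∃ c ∈ Subring.center A, (1 - D.e) * (β u : A) = c * (1 - D.e) := by
    intro u
    obtain ⟨a, ha, e⟩ : α u ∈ N.map α := h3 ▸ h.a_mem u
    have h5 : Cen (β (a⁻¹ * u)) := (h.cen _).1 (by rw [map_mul, map_inv, e, inv_mul_cancel]; exact cen_one)
    refine ⟨_, h5, ?_⟩
    have h6 : (1 - D.e) * (β a : A) = 1 - D.e := ha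
    calc (1 - D.e) * (β u : A) = (1 - D.e) * β a * β (a⁻¹ * u) := by
          rw [mul_assoc, ← Units.val_mul, ← map_mul, mul_inv_cancel_left]
      _ = _ := by rw [h6, cen_comm h5]
  have h5 := eq_one_of_perf h.top_perf (fun u => (1 - D.e) * (β u : A) + D.e) (by simp) (fun a _ b _ => by
      have h6 : (1 - D.e) * D.e = 0 := by rw [sub_mul, one_mul, D.idem, sub_self]
      have h7 : D.e * (1 - D.e) = 0 := by rw [mul_sub, mul_one, D.idem, sub_self]
      rw [add_mul, mul_add, mul_add, D.idem, ← mul_assoc D.e, h7, zero_mul, zero_add, mul_assoc _ _ D.e,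
        h.b_comm_D hD a D.e_mem, ← mul_assoc _ D.e, h6, zero_mul, add_zero, mul_assoc, ← mul_assoc (β a : A), hc,
        ← mul_assoc, ← mul_assoc, hi, map_mul, Units.val_mul, mul_assoc])
    (fun a _ b _ => by
      obtain ⟨c, hc1, hc2⟩ := h4 a
      obtain ⟨d, hd1, hd2⟩ := h4 b
      have h6 : Commute D.e (1 - D.e) := (Commute.one_right _).sub_right (Commute.refl _)
      have h7 : ∀ x, Commute x c := fun x => cen_comm hc1 x
      have h8 : ∀ x, Commute x d := fun x => cen_comm hd1 x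
      rw [hc2, hd2]
      exact (((h7 _).symm.mul_left (((h8 _).mul_right (Commute.refl _)).add_right h6.symm)).add_left
        (((h8 _).mul_right h6).add_right (Commute.refl _))).eq) u trivial
  exact eq_sub_of_add_eq h5

variable (hb : ∀ u, (1 - D.e) * (β u : A) = 1 - D.e)
include hb

/-- an element of `β U` that is trivial on the support is trivial -/
theorem b_eq_one {u : U} (he : D.e * ((β u : A) - 1) = 0) : β u = 1 := by
  apply Units.ext
  rw [mul_sub, mul_one, sub_eq_zero] at he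
  calc (β u : A) = D.e * β u + (1 - D.e) * β u := by noncomm_ring
    _ = 1 := by rw [he, hb, add_sub_cancel]

theorem not_tyA (hA : TyA T D.e) : False := by
  refine h.not_comm fun u u' => Units.ext ?_
  have h1 := hA (β u) (β u') (fun t ht => h.b_comm u ht) fun t ht => h.b_comm u' ht
  have h2 : ∀ u u' : U, (β u : A) * β u' = β u * β u' * D.e + (1 - D.e) := fun u u' => by
    rw [← Units.val_mul, ← map_mul, h.b_comm_D hD _ D.e_mem, ← hb (u * u')]
    noncomm_ring
  rw [Units.val_mul, Units.val_mul, h2 u u', h2 u' u, h1]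

theorem not_tyR [Finite A] {u : U} (hu : Uni (β u)) (hv : Uni (α u)) (hv1 : α u ≠ 1)
    (he : Nat.card (Ideal.span {(((α u * β u : Aˣ) : A) - 1) ^ (0 + 1)}) =
      Nat.card (Ideal.span {((α u : A) - 1) ^ (0 + 1)})) {a f : A} (ha : a * ((α u : A) - 1) = 0)
    (hf : ((α u : A) - 1) * f = 0) (h0 : a * D.e * f ≠ 0) : False := by
  have h1 := hD.mem _ (h.a_mem u)
  obtain ⟨r, hr⟩ := hD.ss.regular (D.mk' _ h1)
  have hr' : ((α u : A) - 1) * D.val r * ((α u : A) - 1) = (α u : A) - 1 := congrArg D.val hr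
  have hr1 := D.val_mem r
  set x : A := α u - 1 with hx
  set n : A := β u - 1 with hn
  have m1 : D.e - x * D.val r ∈ D.car := sub_mem D.e_mem (mul_mem h1 hr1)
  have m2 : D.e - D.val r * x ∈ D.car := sub_mem D.e_mem (mul_mem hr1 h1)
  have e1 : (D.e - x * D.val r) * x = 0 := by rw [sub_mul, D.e_mul x h1, hr', sub_self]
  have e2 : x * (D.e - D.val r * x) = 0 := by rw [mul_sub, D.mul_e x h1, ← mul_assoc, hr', sub_self]
  have e3 : star x = -((α u)⁻¹ : Aˣ) * x := by
    rw [hx, star_sub, star_one, Mem.star_eq h.m (h.a_mem u), mul_sub, neg_mul, Units.inv_mul]; noncomm_ring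
  have e4 : star x = x * -((α u)⁻¹ : Aˣ) := by
    rw [hx, star_sub, star_one, Mem.star_eq h.m (h.a_mem u), sub_mul, mul_neg, Units.mul_inv]; noncomm_ring
  have e5 : star (D.e - D.val r * x) * x = 0 := by
    have h2 := congrArg star e2
    rw [star_mul, star_zero, e4, ← mul_assoc, mul_neg, neg_eq_zero, Units.mul_left_eq_zero] at h2
    exact h2
  have e6 : x * star (D.e - x * D.val r) = 0 := by
    have h2 := congrArg star e1
    rw [star_mul, star_zero, e3, mul_assoc, neg_mul, neg_eq_zero, Units.mul_right_eq_zero] at h2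
    exact h2
  let I : AddSubgroup A :=
    { carrier := {z | z ∈ D.car ∧ (∃ b, z * n = b * n * n) ∧ ∃ b, star z * n = b * n * n}
      add_mem' := by
        rintro y z ⟨hy, ⟨b, hb⟩, ⟨b', hb'⟩⟩ ⟨hz, ⟨c, hc⟩, ⟨c', hc'⟩⟩
        exact ⟨add_mem hy hz, ⟨b + c, by rw [add_mul, hb, hc, add_mul, add_mul]⟩,
          ⟨b' + c', by rw [star_add, add_mul, hb', hc', add_mul, add_mul]⟩⟩
      zero_mem' := ⟨zero_mem _, ⟨0, by simp⟩, ⟨0, by simp⟩⟩
      neg_mem' := by
        rintro y ⟨hy, ⟨b, hb⟩, ⟨b', hb'⟩⟩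
        exact ⟨neg_mem hy, ⟨-b, by rw [neg_mul, hb, neg_mul, neg_mul]⟩,
          ⟨-b', by rw [star_neg, neg_mul, hb', neg_mul, neg_mul]⟩⟩ }
  rcases D.ss_elim hD.ss I (fun z hz => hz.1) (by
      rintro z ⟨hz, ⟨b, hb⟩, ⟨b', hb'⟩⟩ y hy
      have c1 := h.n_comm hD u (D.star_mem y hy)
      refine ⟨mul_mem hy hz, ⟨y * b, by rw [mul_assoc, hb]; simp only [mul_assoc]⟩, ⟨b' * star y, ?_⟩⟩
      rw [star_mul, mul_assoc, ← c1.eq, ← mul_assoc, hb', mul_assoc, c1.eq, ← mul_assoc, mul_assoc b', c1.eq,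
        ← mul_assoc])
    (fun z hz => ⟨D.star_mem z hz.1, hz.2.2, by rw [star_star]; exact hz.2.1⟩) with h3 | h3
  · have h4 : (D.e - x * D.val r) * (D.e - D.val r * x) ∈ I :=
      ⟨mul_mem m1 m2, h.lemP1 hD hu he e1 e2 (h.n_comm hD u m2), by
        rw [star_mul]; exact h.lemP1 hD hu he e5 e6 (h.n_comm hD u (D.star_mem _ m1))⟩
    rw [h3, AddSubgroup.mem_bot] at h4
    apply h0
    calc a * D.e * f = (a * D.e - a * x * D.val r) * (D.e * f - D.val r * (x * f)) := by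
          rw [ha, hf, zero_mul, mul_zero, sub_zero, sub_zero, ← mul_assoc, mul_assoc a D.e D.e, D.idem]
      _ = a * ((D.e - x * D.val r) * (D.e - D.val r * x)) * f := by noncomm_ring
      _ = 0 := by rw [h4, mul_zero, zero_mul]
  · obtain ⟨b, hb'⟩ := h3.2.1
    have c1 := h.n_comm hD u D.e_mem
    refine h.b_ne_one hv hv1 (h.b_eq_one hD hb (eq_zero_of_nil (b := b) hu ?_))
    calc D.e * n = D.e * n * D.e := by rw [mul_assoc, c1.eq, ← mul_assoc, D.idem]
      _ = b * n * (n * D.e) := by rw [hb', mul_assoc]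
      _ = b * (n * D.e) * n := by rw [c1.eq]; simp only [mul_assoc]; rw [← mul_assoc n, c1.eq, mul_assoc]
      _ = _ := by rw [c1.eq]

omit hb in
theorem star_pow_mul {v : Aˣ} (hv : v ∈ T) (j : ℕ) {y : A} (h1 : ((v : A) - 1) ^ j * y = 0) :
    star (((v : A) - 1) ^ j) * y = 0 := by
  have e3 : star ((v : A) - 1) = -(v⁻¹ : Aˣ) * (v - 1) := by
    rw [star_sub, star_one, Mem.star_eq h.m hv, mul_sub, neg_mul, Units.inv_mul]; noncomm_ring
  have c : Commute (-((v⁻¹ : Aˣ) : A)) (v - 1) :=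
    (((Commute.refl (v : A)).units_inv_left).sub_right (Commute.one_right _)).neg_left
  rw [star_pow, e3, c.mul_pow, mul_assoc, h1, mul_zero]

theorem not_tyN {u : U} (hu : Uni (β u)) {j : ℕ} (h1 : ((α u : A) - 1) ^ (j + 2) = 0)
    (h2 : ((α u : A) - 1) ^ (j + 1) ≠ 0) (h3 : IsUnit ((j + 1 + 1 : ℕ) : A))
    (he : (((α u * β u : Aˣ) : A) - 1) ^ (j + 2) = 0) : False := by
  have hv1 : α u ≠ 1 := fun h4 => h2 (by rw [h4, Units.val_one, sub_self, zero_pow (Nat.succ_ne_zero j)])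
  have hz : (β u : A) - 1 ≠ 0 := fun h4 => h.b_ne_one ⟨_, h1⟩ hv1 (Units.ext (sub_eq_zero.1 h4))
  obtain ⟨m, hm1, hm2⟩ := exists_top hu hz
  have c0 : Commute (β u : A) (α u - 1) := h.b_comm_D hD u (hD.mem _ (h.a_mem u))
  have c1 := h.n_comm hD u (hD.mem _ (h.a_mem u))
  have c2 : Commute ((β u : A) - 1) (β u) := (Commute.refl _).sub_left (Commute.one_left _)
  have e1 : ((α u * β u : Aˣ) : A) - 1 = (α u - 1) * β u + (β u - 1) := by rw [Units.val_mul]; noncomm_ring
  obtain ⟨y, hy⟩ := binom (c1.mul_right c2).symm (j + 1)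
  set x : A := α u - 1 with hx
  set n : A := β u - 1 with hn
  rw [← e1, he, c0.symm.mul_pow, h1, zero_mul, zero_add, c0.symm.mul_pow] at hy
  have h4 := congrArg (· * n ^ m) hy
  simp only [zero_mul, add_mul] at h4
  rw [mul_assoc y, ← pow_add, add_comm 2 m, hm2, mul_zero, add_zero, mul_assoc, mul_assoc, eq_comm,
    h3.mul_right_eq_zero, ← pow_succ', (c0.pow_pow (j + 1) (j + 1)).eq.symm, mul_assoc, ← Units.val_pow_eq_pow_val,
    Units.mul_right_eq_zero] at h4
  have h5 := Blk.kill hD.ss (y := n ^ (m + 1)) (fun z hz => ((h.n_comm hD u hz).pow_left _).eq)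
    (pow_mem_D hD (h.a_mem u) j) h2 h4 (h.star_pow_mul hD (h.a_mem u) _ h4)
  apply hm1
  have h6 : (1 - D.e) * n = 0 := by rw [hn, mul_sub, hb, mul_one, sub_self]
  calc n ^ (m + 1) = D.e * n ^ (m + 1) + (1 - D.e) * n * n ^ m := by rw [pow_succ']; noncomm_ring
    _ = 0 := by rw [h5, h6, zero_mul, add_zero]

theorem fix_le : FixI T ≤ FixI T' := by
  intro a ha w hw
  obtain ⟨u, rfl⟩ := (h.mem w).1 hw
  have h1 := hD.full (Mem.unit h.m) h.m.qs.ne_bot ha
  have h2 : a * (1 - D.e) = a := by rw [mul_sub, h1, mul_one, sub_zero]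
  rw [Units.val_mul, ← mul_assoc, ha _ (h.a_mem u), ← h2, mul_assoc, hb]

omit hb in
theorem e_eq {D' : Blk A} (hD' : Sh T' D') (he : FixI T = FixI T') : D'.e = D.e := by
  have h1 : (1 - D.e) * D'.e = 0 := hD'.full (Mem.unit h.m') h.m'.qs.ne_bot (he ▸ fun t ht => hD.compl_mul ht)
  have h2 : (1 - D'.e) * D.e = 0 := hD.full (Mem.unit h.m) h.m.qs.ne_bot (he ▸ fun t ht => hD'.compl_mul ht)
  rw [sub_mul, one_mul, sub_eq_zero] at h1 h2
  have h3 := congrArg star h2
  rw [star_mul, D.star_e, D'.star_e] at h3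
  rw [h1, ← h3]

end DD

end Cfsg.Agent.Cam.Cl.Cy
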