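import Cfsg.Agent.Cam.Cl.Hat
import Cfsg.Agent.Cam.Red.Basic
import Cfsg.Agent.KFacts.RgdLieCharP

/-!
# Classical rows of S3689: the reduction to the ring frame (helper65)
-/

set_option autoImplicit false

namespace Cfsg.Agent.Cam.Cl.Gen

open Cfsg Cfsg.Agent.DS.Cl Cfsg.Agent.KFacts.RgdFilt
open scoped commutatorElement

section grp

variable {G : Type} [Group G]

theorem le_of_move {P T : Subgroup G} (hT : T ≤ ⁅T, T⁆) (hn : Nm T P) {p : G} (hp : p ∈ P) (h3 : Cm (Cam.cj p T) T) :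
    T ≤ P := by
  refine hT.trans ?_
  rw [Subgroup.commutator_le]
  intro s hs t ht
  have h5 : t * (p⁻¹ * t⁻¹ * p) ∈ P := by
    have h6 := mul_mem (hn t ht _ (inv_mem hp)) hp
    rwa [show t * p⁻¹ * t⁻¹ * p = t * (p⁻¹ * t⁻¹ * p) by group] at h6
  have h6 := mul_mem (hn s hs _ h5) (inv_mem h5)
  have h7 := h3 _ (conj_mem_cj (inv_mem ht)) _ (inv_mem hs)
  rwa [mul_assoc s, mul_assoc t, h7, show s * (t * (s⁻¹ * (p⁻¹ * t⁻¹ * p))) * (t * (p⁻¹ * t⁻¹ * p))⁻¹ = ⁅s, t⁆ by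
    rw [commutatorElement_def]; group] at h6

theorem nm_cj {S T : Subgroup G} (h : Nm S T) (a : G) : Nm (Cam.cj a S) (Cam.cj a T) := by
  intro s hs t ht
  rw [mem_cj] at hs ht ⊢
  have h1 := h _ hs _ ht
  rwa [show a * s * a⁻¹ * (a * t * a⁻¹) * (a * s * a⁻¹)⁻¹ = a * (s * t * s⁻¹) * a⁻¹ by group] at h1

theorem perf_cj {T : Subgroup G} (h : T ≤ ⁅T, T⁆) (a : G) : Cam.cj a T ≤ ⁅Cam.cj a T, Cam.cj a T⁆ := perf_map h _

variable [Finite G] {S H : Subgroup G} {g : G} {𝒯 : Set (Subgroup G)}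

theorem pgroup_bot {p : ℕ} [Fact p.Prime] {T : Subgroup G} (hT : T ≤ ⁅T, T⁆) (h : IsPGroup p T) : T = ⊥ := by
  have := h.isNilpotent
  exact eq_bot_of_perf_solvable hT inferInstance

omit [Finite G] in
theorem qs_mem (c : Cls S H g 𝒯) {T : Subgroup G} (hT : T ∈ 𝒯) : QS T := qs_of_simple (c.tsimple T hT) (c.tnoncomm T hT)

omit [Finite G] in
theorem le_H (c : Cls S H g 𝒯) {T : Subgroup G} (hT : T ∈ 𝒯) : T ≤ H := (c.le_N0 T hT).trans inf_le_left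

omit [Finite G] in
theorem nm_HS (c : Cls S H g 𝒯) : Nm H (H ⊓ S) :=
  (nm_self H).inf fun s _ t ht => c.normal.conj_mem t ht s

theorem cm_of_pgroup (c : Cls S H g 𝒯) {p : ℕ} [Fact p.Prime] {Q : Subgroup G} (hQ : IsPGroup p Q) (hle : Q ≤ H)
    (hn : Nm (H ⊓ S) Q) {T : Subgroup G} (hT : T ∈ 𝒯) : Cm Q T := by
  have hq := qs_mem c hT
  have h1 : Nm T Q := hn.mono (le_inf (le_H c hT) (c.le_S T hT))
  have h2 : ¬ T ≤ Q := fun h => hq.ne_bot (pgroup_bot hq.perf (hQ.to_le h))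
  have h3 : Nm Q T := nm_of_cj fun q hq' => by
    by_contra h4
    exact h2 (le_of_move hq.perf h1 hq' (c.comm _ (c.inv q (hle hq') T hT) T hT h4))
  rcases dich_of_simple (c.tsimple T hT) (N := Q ⊓ T) inf_le_right (h1.inf (nm_self T)) with h4 | h4
  · exact absurd (h4.ge.trans inf_le_left) h2
  · rw [cm_iff_bot, eq_bot_iff, ← h4]
    refine le_inf ?_ h3.commutator_le
    rw [Subgroup.commutator_comm]
    exact h1.commutator_le

/-- `O_p(H ⊓ S) = 1` -/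
theorem op_bot (red : Red) (c : Cls S H g 𝒯) {p : ℕ} [Fact p.Prime] (hF : HasFilt p S) {P : Subgroup G}
    (hP : IsPGroup p P) (hle : P ≤ H ⊓ S) (hn : Nm (H ⊓ S) P) : P = ⊥ := by
  by_contra hne
  obtain ⟨K, hPK, hK⟩ := Finite.exists_le_maximal
    (p := fun K : Subgroup G => IsPGroup p K ∧ K ≤ H ⊓ S ∧ Nm (H ⊓ S) K) ⟨hP, hle, hn⟩
  obtain ⟨⟨hK1, hK2, hK3⟩, hmax⟩ := hK
  have hHK : Nm H K := by
    intro h hh k hk
    have h1 : Cam.cj h⁻¹ (H ⊓ S) = H ⊓ S := cj_eq_of_nm (nm_HS c) (inv_mem hh)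
    have h2 : Cam.cj h⁻¹ K ≤ H ⊓ S := h1 ▸ Rd.cj_mono _ hK2
    have h3 : Nm (H ⊓ S) (Cam.cj h⁻¹ K) := by
      have h4 := nm_cj hK3 h⁻¹
      rwa [h1] at h4
    have h4 : Nm (H ⊓ S) (K ⊔ Cam.cj h⁻¹ K) := fun s hs => by
      have h5 : K ⊔ Cam.cj h⁻¹ K ≤ (K ⊔ Cam.cj h⁻¹ K).comap (MulAut.conj s).toMonoidHom :=
        sup_le (fun x hx => Subgroup.mem_sup_left (hK3 s hs x hx)) fun x hx => Subgroup.mem_sup_right (h3 s hs x hx)
      exact fun x hx => h5 hx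
    have h5 := hmax (y := K ⊔ Cam.cj h⁻¹ K)
      ⟨hK1.to_sup_of_normal_left' (hK1.map _) (nm_iff_le.1 (hK3.mono h2)), sup_le hK2 h2, h4⟩ le_sup_left
    exact h5 (Subgroup.mem_sup_right (Rd.conj_mem_cj_inv hk))
  have hKne : K ≠ ⊥ := fun h => hne (le_bot_iff.1 (h ▸ hPK))
  have hN : Subgroup.normalizer (K : Set G) = H :=
    red.norm G S H c.toSetup K hKne (fun h => c.not_le (h.trans (hK2.trans inf_le_left))) (nm_iff_le.1 hHK)
  have := c.simple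
  let K' : Subgroup S := K.subgroupOf S
  have hK' : K' ≠ ⊥ := fun h => hKne (by
    rw [Subgroup.subgroupOf_eq_bot, disjoint_iff, inf_eq_left.2 (hK2.trans inf_le_right)] at h
    exact h)
  have hc : ∃ a b : S, a * b ≠ b * a := by
    by_contra h
    push Not at h
    exact c.noncomm ⟨⟨h⟩⟩
  have hloc := hF.local_char hc (K := K') hK1.comap_subtype hK'
  set N := Subgroup.normalizer (K' : Set S) with hNdef
  have hNH : ∀ s : S, s ∈ N ↔ (s : G) ∈ H := fun s => by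
    rw [← hN, hNdef, Subgroup.mem_normalizer_iff, Subgroup.mem_normalizer_iff]
    constructor
    · intro h x
      constructor
      · intro hx
        exact (h ⟨x, (hK2 hx).2⟩).1 hx
      · intro hx
        have h1 : x ∈ S := by
          have h2 := mul_mem (mul_mem (inv_mem s.2) (hK2 hx).2) s.2
          rwa [show (s : G)⁻¹ * (s * x * (s : G)⁻¹) * s = x by group] at h2
        exact (h ⟨x, h1⟩).2 hx
    · exact fun h x => h x
  let ι : N →* G := S.subtype.comp N.subtype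
  let Q : Subgroup G := (pCore p N).map ι
  have hQ : IsPGroup p Q := (Lib.Cores.pCore_isPGroup p).map _
  have hQn : Nm (H ⊓ S) Q := by
    rintro s hs _ ⟨x, hx, rfl⟩
    exact ⟨_, (Lib.Cores.pCore_normal p).conj_mem x hx ⟨⟨s, hs.2⟩, (hNH _).2 hs.1⟩, rfl⟩
  have hQH : Q ≤ H := by
    rintro _ ⟨x, -, rfl⟩
    exact (hNH _).1 x.2
  obtain ⟨T, hT⟩ := c.nonempty
  have hq := qs_mem c hT
  refine hq.ne_bot (pgroup_bot hq.perf (hQ.to_le fun t ht => ?_))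
  refine ⟨⟨⟨t, c.le_S T hT ht⟩, (hNH _).2 (le_H c hT ht)⟩, hloc fun x hx => ?_, rfl⟩
  exact Subtype.ext (Subtype.ext (cm_of_pgroup c hQ hQH hQn hT _ ⟨x, hx, rfl⟩ t ht))

/-- the perfect core of `C_S(X)` -/
def Y0 (S : Subgroup G) (𝒯 : Set (Subgroup G)) : Subgroup G :=
  sSup {P | P ≤ S ∧ Cm P (sSup 𝒯) ∧ P ≤ ⁅P, P⁆}

omit [Finite G] in
theorem Y0_perf : Y0 S 𝒯 ≤ ⁅Y0 S 𝒯, Y0 S 𝒯⁆ := perf_sSup fun _ h => h.2.2

omit [Finite G] in
theorem Y0_le : Y0 S 𝒯 ≤ S := sSup_le fun _ h => h.1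

omit [Finite G] in
theorem Y0_cm : Cm (Y0 S 𝒯) (sSup 𝒯) := cm_sSup_left fun _ h => h.2.1

omit [Finite G] in
theorem nm_X (c : Cls S H g 𝒯) : Nm H (sSup 𝒯) := fun h hh => by
  have h1 : sSup 𝒯 ≤ (sSup 𝒯).comap (MulAut.conj h).toMonoidHom := sSup_le fun T hT x hx =>
    le_sSup (c.inv h⁻¹ (inv_mem hh) T hT) (Rd.conj_mem_cj_inv hx)
  exact fun x hx => h1 hx

omit [Finite G] in
theorem nm_Y0 (c : Cls S H g 𝒯) : Nm H (Y0 S 𝒯) := fun h hh => by
  have h1 : Y0 S 𝒯 ≤ (Y0 S 𝒯).comap (MulAut.conj h).toMonoidHom := sSup_le fun P hP x hx => by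
    have h2 : Cam.cj h⁻¹ P ≤ Y0 S 𝒯 := le_sSup ⟨by
      rw [← Rd.cj_normal c.normal h⁻¹]; exact Rd.cj_mono _ hP.1, fun a ha b hb => by
      have h3 := hP.2.1 _ (Rd.mem_cj_inv.1 ha) _ ((nm_X c).inv hh hb)
      calc a * b = h * (h⁻¹ * a * h * (h⁻¹ * b * h)) * h⁻¹ := by group
        _ = b * a := by rw [h3]; group, perf_cj hP.2.2 _⟩
    exact h2 (Rd.conj_mem_cj_inv hx)
  exact fun x hx => h1 hx

theorem X_norm (red : Red) (c : Cls S H g 𝒯) : Subgroup.normalizer ((sSup 𝒯 : Subgroup G) : Set G) = H := by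
  obtain ⟨T, hT⟩ := c.nonempty
  refine red.norm G S H c.toSetup _ (fun h => (qs_mem c hT).ne_bot (le_bot_iff.1 (h ▸ le_sSup hT)))
    (fun h => c.not_le (h.trans (sSup_le fun _ => le_H c))) (nm_iff_le.1 (nm_X c))

theorem Y0_le_H (red : Red) (c : Cls S H g 𝒯) : Y0 S 𝒯 ≤ H := X_norm red c ▸ nm_iff_le.1 Y0_cm.nm

theorem Y0_norm (big : Big) (red : Red) (c : Cls S H g 𝒯) :
    Subgroup.normalizer ((Y0 S 𝒯 : Subgroup G) : Set G) = H := by
  obtain ⟨T, hT⟩ := c.nonempty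
  obtain ⟨φ, hφ, hφ'⟩ := red.copy big G S H g 𝒯 c T hT
  refine red.norm G S H c.toSetup _ (fun h => (qs_mem c hT).ne_bot ?_) (fun h => c.not_le (h.trans (Y0_le_H red c)))
    (nm_iff_le.1 (nm_Y0 c))
  have hTT : (⊤ : Subgroup T) ≤ ⁅(⊤ : Subgroup T), ⊤⁆ := by
    rw [← Subgroup.map_le_map_iff_of_injective T.subtype_injective, Subgroup.map_commutator, ← MonoidHom.range_eq_map,
      Subgroup.range_subtype]
    exact (qs_mem c hT).perf
  have h1 : (⊤ : Subgroup T).map φ ≤ Y0 S 𝒯 := le_sSup ⟨by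
    rintro _ ⟨t, -, rfl⟩; exact (hφ' t).1, by
    rintro _ ⟨t, -, rfl⟩ x hx; exact ((hφ' t).2 x hx).symm, perf_map hTT φ⟩
  rw [eq_bot_iff]
  intro t ht
  have h2 := h1 ⟨⟨t, ht⟩, trivial, rfl⟩
  rw [h, Subgroup.mem_bot, map_eq_one_iff φ hφ] at h2
  exact congrArg Subtype.val h2

end grp

section cover

variable {A : Type} [Ring A] [StarRing A] {F : FR A} {G : Type} [Group G]

/-- `π` maps the commutator group of the isometry group onto `S`, with kernel the central units -/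
structure Cov (S : Subgroup G) (π : Dr F →* G) : Prop where
  range : π.range = S
  ker : ∀ w : Dr F, π w = 1 ↔ Cen (w : Aˣ)

/-- the perfect preimage as a group of units -/
def hA (π : Dr F →* G) (T : Subgroup G) : Subgroup Aˣ := (hat π T).map (Dr F).subtype

variable {S : Subgroup G} {π : Dr F →* G}

theorem Cov.ck (h : Cov S π) : CK π := fun w hw v => Subtype.ext (units_comm ((h.ker w).1 hw) _).symm

theorem Cov.conj (h : Cov S π) (hS : S.Normal) (γ : G) : Cov S ((MulAut.conj γ).toMonoidHom.comp π) := by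
  refine ⟨?_, fun w => ?_⟩
  · rw [MonoidHom.range_comp, h.range]
    have h1 := Rd.cj_normal hS γ⁻¹
    rwa [Cam.cj, inv_inv] at h1
  · rw [← h.ker]
    exact map_eq_one_iff _ (MulAut.conj γ).injective

theorem hA_conj (γ : G) (T : Subgroup G) : hA ((MulAut.conj γ).toMonoidHom.comp π) T = hA π (Cam.cj γ T) := by
  have h1 : T.comap ((MulAut.conj γ).toMonoidHom.comp π) = (Cam.cj γ T).comap π := by
    ext x
    rw [Subgroup.mem_comap, Subgroup.mem_comap, mem_cj]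
    rfl
  rw [hA, hA, hat, hat, h1]

theorem cm_map {W : Type} [Group W] (f : W →* G) {P Q : Subgroup W} (h : Cm P Q) : Cm (P.map f) (Q.map f) := by
  rintro _ ⟨a, ha, rfl⟩ _ ⟨b, hb, rfl⟩
  rw [← map_mul, ← map_mul, h a ha b hb]

theorem nm_map {W : Type} [Group W] (f : W →* G) {P Q : Subgroup W} (h : Nm P Q) : Nm (P.map f) (Q.map f) := by
  rintro _ ⟨a, ha, rfl⟩ _ ⟨b, hb, rfl⟩
  exact ⟨_, h a ha b hb, by rw [map_mul, map_mul, map_inv]⟩

theorem cj_map {W : Type} [Group W] (f : W →* G) (w : W) (P : Subgroup W) : Cam.cj (f w) (P.map f) = (Cam.cj w P).map f := by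
  rw [Cam.cj, Cam.cj, Subgroup.map_map, Subgroup.map_map]
  congr 1
  ext x
  simp

theorem hA_perf (h : Cov S π) {T : Subgroup G} (hT : T ≤ ⁅T, T⁆) (hS : T ≤ S) : hA π T ≤ ⁅hA π T, hA π T⁆ :=
  perf_map (h.ck.hat_perf hT (h.range ▸ hS)) _

theorem hA_mem (h : Cov S π) {T : Subgroup G} (hq : QS T) (hz : NoCen T) (hS : T ≤ S) : Mem F (hA π T) := by
  refine ⟨(h.ck.qs_hat hq hz (h.range ▸ hS)).map _ fun t _ ht s _ => ?_, ?_, ?_⟩
  · rw [(map_eq_one_iff _ (Dr F).subtype_injective).1 ht, one_mul, mul_one]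
  · rintro _ ⟨w, -, rfl⟩
    exact Dr_le F w.2
  · rintro _ ⟨w, hw, rfl⟩ hc
    refine (h.ker w).1 (hz _ (hat_le π T hw) fun s hs => ?_)
    obtain ⟨a, ha, rfl⟩ := exists_hat hq.perf (h.range ▸ hS) hs
    rw [← map_mul, ← map_mul]
    exact congrArg π (Subtype.ext (hc _ ⟨a, ha, rfl⟩))

theorem comm_of_hA (h : Cov S π) {T : Subgroup G} (hT : T ≤ ⁅T, T⁆) (hS : T ≤ S) {w : Dr F}
    (hw : ∀ t ∈ hA π T, (w : Aˣ) * t = t * w) : ∀ t ∈ T, π w * t = t * π w := by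
  intro t ht
  obtain ⟨a, ha, rfl⟩ := exists_hat hT (h.range ▸ hS) ht
  rw [← map_mul, ← map_mul]
  exact congrArg π (Subtype.ext (hw _ ⟨a, ha, rfl⟩))

theorem udiag (h : Cov S π) {T T' : Subgroup G} {ψ : T →* G} (hd : Diag T ψ T') (hT : T ≤ ⁅T, T⁆) (hz : NoCen T)
    (hS : T ≤ S) (hψ : ∀ t, ψ t ∈ S) : UDiag F (hA π T) (hA π T') := by
  obtain ⟨U, _, α, β, h1, h2, h3, h4, h5, h6⟩ := h.ck.exists_diag hd hT hz (h.range ▸ hS) (h.range ▸ hψ)
  refine ⟨U, inferInstance, (Dr F).subtype.comp α, (Dr F).subtype.comp β, h1, by rw [MonoidHom.range_comp, h2]; rfl,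
    fun u => Dr_le F (β u).2, fun u u' => congrArg Subtype.val (h3 u u'), fun w => ?_, fun u => ?_, fun u hu => ?_⟩
  · constructor
    · rintro ⟨w, hw, rfl⟩
      obtain ⟨u, rfl⟩ := (h4 w).1 hw
      exact ⟨u, rfl⟩
    · rintro ⟨u, rfl⟩
      exact ⟨_, (h4 _).2 ⟨u, rfl⟩, rfl⟩
  · exact (h.ker _).symm.trans ((h5 u).trans (h.ker _))
  · exact (h.ker _).1 (h6 u ((h.ker (α u * β u)).2 hu))

theorem uni_pow {p : ℕ} (hp : p.Prime) (h0 : (p : A) = 0) {u : Aˣ} (hu : Uni u) : ∃ k, u ^ p ^ k = 1 := by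
  obtain ⟨n, hn⟩ := hu
  refine ⟨n, Units.ext ?_⟩
  rcases subsingleton_or_nontrivial A with h | h
  · exact Subsingleton.elim _ _
  have := Fact.mk hp
  have : CharP A p := (CharP.charP_iff_prime_eq_zero hp).2 h0
  have h1 := add_pow_char_pow_of_commute (p := p) (n := n) (Commute.one_right ((u : A) - 1))
  rw [sub_add_cancel, pow_eq_zero_of_le (Nat.lt_pow_self hp.one_lt).le hn, one_pow, zero_add] at h1
  rw [Units.val_pow_eq_pow_val, h1, Units.val_one]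

variable [Finite G] {H : Subgroup G} {g : G} {𝒯 : Set (Subgroup G)}

/-- the local configuration -/
theorem loc (big : Big) (red : Red) (c : Cls S H g 𝒯) {p : ℕ} (hp : p.Prime) (h0 : (p : A) = 0) (hF : HasFilt p S)
    (hA' : SS A) (h : Cov S π) : Loc F ((H.comap π).map (Dr F).subtype) (hA π (Y0 S 𝒯)) (hA π '' 𝒯) where
  ss := hA'
  le := by rintro _ ⟨w, -, rfl⟩; exact w.2
  mem := by
    rintro _ ⟨T, hT, rfl⟩
    exact hA_mem h (qs_mem c hT) (noCen_of_simple (c.tsimple T hT) (c.tnoncomm T hT)) (c.le_S T hT)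
  t_le := by
    rintro _ ⟨T, hT, rfl⟩
    exact Subgroup.map_mono ((hat_le π T).trans (Subgroup.comap_mono (le_H c hT)))
  comm := by
    rintro _ ⟨T₁, h1, rfl⟩ _ ⟨T₂, h2, rfl⟩ hne
    exact cm_map _ ((h.ck.cm_hat (qs_mem c h2).perf (h.range ▸ c.le_S T₂ h2)
      (c.comm T₁ h1 T₂ h2 fun e => hne (e ▸ rfl))).mono (hat_le π T₁) le_rfl)
  inv := by
    rintro _ ⟨w, hw, rfl⟩ _ ⟨T, hT, rfl⟩
    exact ⟨_, c.inv _ hw T hT, by rw [hA, hA, cj_map, cj_hat]⟩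
  y_perf := hA_perf h Y0_perf Y0_le
  y_le := Subgroup.map_mono ((hat_le π _).trans (Subgroup.comap_mono (Y0_le_H red c)))
  y_nm := nm_map _ (nm_hat (nm_Y0 c))
  y_comm := by
    rintro _ ⟨T, hT, rfl⟩
    exact cm_map _ ((h.ck.cm_hat (qs_mem c hT).perf (h.range ▸ c.le_S T hT)
      (Y0_cm.mono le_rfl (le_sSup hT))).mono (hat_le π _) le_rfl)
  cY := fun u hu hc => ⟨⟨u, hu⟩, by
    change π ⟨u, hu⟩ ∈ H
    rw [← Y0_norm big red c]
    exact Subgroup.centralizer_le_normalizer _ fun t ht => (comm_of_hA h Y0_perf Y0_le hc t ht).symm, rfl⟩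
  cX := fun u hu hc => ⟨⟨u, hu⟩, by
    change π ⟨u, hu⟩ ∈ H
    rw [← X_norm red c]
    refine Subgroup.centralizer_le_normalizer _ ?_
    have h1 : sSup 𝒯 ≤ Subgroup.centralizer {π ⟨u, hu⟩} := sSup_le fun T hT t ht y hy => by
      rw [Set.mem_singleton_iff.1 hy]
      exact comm_of_hA h (qs_mem c hT).perf (c.le_S T hT) (hc _ ⟨T, hT, rfl⟩) t ht
    exact fun t ht => (h1 ht _ rfl).symm, rfl⟩
  op := by
    intro P hP hn hu
    have := Fact.mk hp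
    have h1 := op_bot red c hF (P := (P.comap (Dr F).subtype).map π) (by
      rintro ⟨_, w, hw, rfl⟩
      obtain ⟨k, hk⟩ := uni_pow hp h0 (hu _ hw)
      refine ⟨k, Subtype.ext ?_⟩
      change π w ^ p ^ k = 1
      rw [← map_pow, show w ^ p ^ k = 1 from Subtype.ext hk, map_one]) (by
      rintro _ ⟨w, hw, rfl⟩
      obtain ⟨w', hw', e⟩ := hP hw
      rw [← Subtype.ext e]
      exact ⟨hw', h.range ▸ ⟨w', rfl⟩⟩) (by
      rintro s ⟨hs, hs'⟩ _ ⟨w, hw, rfl⟩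
      rw [← h.range] at hs'
      obtain ⟨v, rfl⟩ := hs'
      exact ⟨v * w * v⁻¹, hn _ ⟨v, hs, rfl⟩ _ hw, by rw [map_mul, map_mul, map_inv]⟩)
    rw [eq_bot_iff]
    intro u hu'
    obtain ⟨w, -, rfl⟩ := hP hu'
    have h2 : π w ∈ (P.comap (Dr F).subtype).map π := ⟨w, hu', rfl⟩
    rw [h1, Subgroup.mem_bot, h.ker] at h2
    exact SS.eq_one_of_cen_uni hA' h2 (hu _ hu')

end cover

theorem boxGen : BoxGen := by
  rintro hST hMov hCyc big red G _ _ S H g c ⟨p, A, _, _, _, F, θ, hp, h0, hfam, hA', htop⟩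
  have := Fact.mk hp
  have hF : HasFilt p S := KFacts.RgdLieCharP.hasFilt_of_lie (by
    unfold KFacts.RgdLieCharP.IsLieFilt
    tauto)
  let f : Dr F →* F.S := ((DS.Cl.cj A).comp (Dr F).subtype).codRestrict F.S fun w => ⟨w, w.2, rfl⟩
  let π : Dr F →* G := S.subtype.comp (θ.toMonoidHom.comp f)
  have hπ : Cov S π := by
    refine ⟨le_antisymm ?_ fun s hs => ?_, fun w => ?_⟩
    · rintro _ ⟨w, rfl⟩
      exact (θ (f w)).2
    · obtain ⟨u, hu, e⟩ := (θ.symm ⟨s, hs⟩).2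
      refine ⟨⟨u, hu⟩, ?_⟩
      have h1 : f ⟨u, hu⟩ = θ.symm ⟨s, hs⟩ := Subtype.ext e
      change ((θ (f ⟨u, hu⟩) : S) : G) = s
      rw [h1, θ.apply_symm_apply]
    · change ((θ (f w) : S) : G) = 1 ↔ _
      rw [OneMemClass.coe_eq_one, map_eq_one_iff θ θ.injective, Subtype.ext_iff]
      exact cj_eq_one_iff
  obtain ⟨𝒯, c'⟩ := red.cls big G S H g c
  let πγ : G → (Dr F →* G) := fun γ => (MulAut.conj γ).toMonoidHom.comp π
  have hcov : ∀ γ, Cov S (πγ γ) := hπ.conj c.normal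
  have hloc := fun γ => loc big red c' hp h0 hF hA' (hcov γ)
  have hout := fun γ => hST A F _ _ _ (hloc γ) htop
  have hgH : ∀ T ∈ 𝒯, Cam.cj g T ≤ H := fun T hT => (Rd.cj_mono g (c'.le_N0 T hT)).trans (Rd.cj_N0_le H g)
  have hgS : ∀ T ∈ 𝒯, Cam.cj g T ≤ S := fun T hT => by
    rw [← Rd.cj_normal c.normal g]; exact Rd.cj_mono g (c'.le_S T hT)
  have hnorm : ∀ T₁ ∈ 𝒯, ∀ T₂ ∈ 𝒯, Cam.cj g T₂ ≤ Subgroup.normalizer (T₁ : Set G) := by
    intro T₁ h1 T₂ h2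
    by_contra hcon
    obtain ⟨δ, rfl⟩ := c'.conj T₁ h1 T₂ h2
    have h3 : ∀ γ, Nat.card (ImI (hA π (Cam.cj γ T₁))) < Nat.card (ImI (hA π (Cam.cj (δ * g * γ) T₁))) := fun γ => by
      rw [← cj_cj, ← cj_cj, ← hA_conj, ← hA_conj γ]
      have hp2 := perf_cj (qs_mem c' h2).perf g
      refine hMov A F _ _ _ (hloc γ) _ ⟨T₁, h1, rfl⟩ (hout γ _ ⟨T₁, h1, rfl⟩) _
        (Subgroup.map_mono ((hat_le _ _).trans (Subgroup.comap_mono (hgH _ h2)))) (hA_perf (hcov γ) hp2 (hgS _ h2))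
        fun hn => hcon (nm_iff_le.1 fun s hs t ht => ?_)
      obtain ⟨a, ha, rfl⟩ := exists_hat hp2 ((hcov γ).range ▸ hgS _ h2) hs
      obtain ⟨b, hb, rfl⟩ := exists_hat (qs_mem c' h1).perf ((hcov γ).range ▸ c'.le_S _ h1) ht
      obtain ⟨w, hw, e⟩ := hn _ ⟨a, ha, rfl⟩ _ ⟨b, hb, rfl⟩
      have h4 : w = a * b * a⁻¹ := Subtype.ext e
      rw [← map_inv, ← map_mul, ← map_mul, ← h4]
      exact hat_le _ _ hw
    have h4 := pot (f := fun γ => δ * g * γ) (mul_right_injective _)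
      (fun γ => Nat.card (ImI (hA π (Cam.cj γ T₁)))) (fun γ => (h3 γ).le) 1
    exact (h3 1).ne' h4
  obtain ⟨-, -, T₁, h1, T₂, h2, ψ, hd, hψ⟩ := red.diag big G S H g 𝒯 c' hnorm
  obtain ⟨δ, rfl⟩ := c'.conj T₁ h1 T₂ h2
  refine hCyc A F p hA' hp h0 G (fun γ => δ * g * γ) (fun γ => hA π (Cam.cj γ T₁)) (mul_right_injective _)
    (fun γ => ?_) (fun γ => ?_) fun γ => ?_
  · rw [← hA_conj]
    exact (hloc γ).mem _ ⟨T₁, h1, rfl⟩
  · rw [← hA_conj]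
    exact (hout γ _ ⟨T₁, h1, rfl⟩).1
  · rw [← cj_cj, ← cj_cj, ← hA_conj, ← hA_conj γ]
    exact udiag (hcov γ) hd (qs_mem c' h1).perf (noCen_of_simple (c'.tsimple _ h1) (c'.tnoncomm _ h1)) (c'.le_S _ h1)
      fun t => (hψ t).2

end Cfsg.Agent.Cam.Cl.Gen
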