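import Cfsg.Agent.Cam.Cl.Base

/-!
# Perfect preimages in central extensions (helper65)
-/

set_option autoImplicit false

namespace Cfsg.Agent.Cam.Cl

open Cfsg
open scoped commutatorElement

variable {W G : Type} [Group W] [Group G]

/-- the kernel of `π` is central -/
def CK (π : W →* G) : Prop := ∀ w, π w = 1 → ∀ v, w * v = v * w

/-- the perfect preimage -/
def hat (π : W →* G) (T : Subgroup G) : Subgroup W := ⁅T.comap π, T.comap π⁆

theorem hat_le (π : W →* G) (T : Subgroup G) : hat π T ≤ T.comap π := (nm_self _).commutator_le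

theorem hat_mono (π : W →* G) {T T' : Subgroup G} (h : T ≤ T') : hat π T ≤ hat π T' :=
  Subgroup.commutator_mono (Subgroup.comap_mono h) (Subgroup.comap_mono h)

theorem map_hat {π : W →* G} {T : Subgroup G} (hT : T ≤ ⁅T, T⁆) (hr : T ≤ π.range) : (hat π T).map π = T := by
  rw [hat, Subgroup.map_commutator, Subgroup.map_comap_eq_self hr]
  exact le_antisymm (nm_self T).commutator_le hT

theorem exists_hat {π : W →* G} {T : Subgroup G} (hT : T ≤ ⁅T, T⁆) (hr : T ≤ π.range) {t : G} (ht : t ∈ T) :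
    ∃ w ∈ hat π T, π w = t := by
  rw [← map_hat hT hr] at ht
  exact ht

theorem CK.commutator_eq {π : W →* G} (h : CK π) {a b a' b' : W} (ha : π a = π a') (hb : π b = π b') :
    ⁅a, b⁆ = ⁅a', b'⁆ := by
  have h1 := h (a'⁻¹ * a) (by rw [map_mul, map_inv, ha, inv_mul_cancel])
  have h2 := h (b'⁻¹ * b) (by rw [map_mul, map_inv, hb, inv_mul_cancel])
  obtain ⟨z, rfl⟩ : ∃ z, a = a' * z := ⟨a'⁻¹ * a, by group⟩
  obtain ⟨z', rfl⟩ : ∃ z', b = b' * z' := ⟨b'⁻¹ * b, by group⟩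
  rw [inv_mul_cancel_left] at h1 h2
  have h3 : ∀ x, z * x * z⁻¹ = x := fun x => by rw [h1, mul_inv_cancel_right]
  have h4 : ∀ x, z' * x * z'⁻¹ = x := fun x => by rw [h2, mul_inv_cancel_right]
  calc ⁅a' * z, b' * z'⁆ = a' * (z * (b' * z') * z⁻¹) * a'⁻¹ * z'⁻¹ * b'⁻¹ := by
        simp only [commutatorElement_def, mul_inv_rev, mul_assoc]
    _ = a' * b' * (z' * a'⁻¹ * z'⁻¹) * b'⁻¹ := by rw [h3]; simp only [mul_assoc]
    _ = ⁅a', b'⁆ := by rw [h4, commutatorElement_def]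

theorem CK.hat_le_comm {π : W →* G} (h : CK π) {T : Subgroup G} {P : Subgroup W} (hP : T ≤ P.map π) :
    hat π T ≤ ⁅P, P⁆ := by
  rw [hat, Subgroup.commutator_le]
  intro a ha b hb
  obtain ⟨a', ha', e⟩ := hP ha
  obtain ⟨b', hb', e'⟩ := hP hb
  rw [h.commutator_eq e.symm e'.symm]
  exact Subgroup.commutator_mem_commutator ha' hb'

theorem CK.hat_perf {π : W →* G} (h : CK π) {T : Subgroup G} (hT : T ≤ ⁅T, T⁆) (hr : T ≤ π.range) :
    hat π T ≤ ⁅hat π T, hat π T⁆ := h.hat_le_comm (map_hat hT hr).ge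

/-- uniqueness of the perfect preimage -/
theorem CK.eq_hat {π : W →* G} (h : CK π) {P : Subgroup W} (hP : P ≤ ⁅P, P⁆) : P = hat π (P.map π) :=
  le_antisymm (hP.trans (Subgroup.commutator_mono (Subgroup.le_comap_map _ _) (Subgroup.le_comap_map _ _)))
    ((h.hat_le_comm le_rfl).trans (nm_self P).commutator_le)

theorem CK.cm_hat {π : W →* G} (h : CK π) {T T' : Subgroup G} (hT : T ≤ ⁅T, T⁆) (hr : T ≤ π.range) (hc : Cm T' T) :
    Cm (T'.comap π) (hat π T) := by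
  refine cm_of_perf (h.hat_perf hT hr) ?_
  rw [cm_iff_le, Subgroup.commutator_le]
  intro a ha b hb s _
  refine (h _ ?_ s).symm
  rw [map_commutatorElement, commutatorElement_eq_one_iff_mul_comm]
  exact hc _ ha _ (hat_le π T hb)

theorem cj_hat (π : W →* G) (T : Subgroup G) (w : W) : Cam.cj w (hat π T) = hat π (Cam.cj (π w) T) := by
  have h1 : Cam.cj w (T.comap π) = (Cam.cj (π w) T).comap π := by
    ext x
    rw [mem_cj, Subgroup.mem_comap, Subgroup.mem_comap, mem_cj, map_mul, map_mul, map_inv]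
  rw [hat, hat, ← h1, Cam.cj, Cam.cj, Subgroup.map_commutator]

theorem nm_hat {π : W →* G} {T H : Subgroup G} (h : Nm H T) : Nm (H.comap π) (hat π T) :=
  nm_of_cj fun w hw => by rw [cj_hat, cj_eq_of_nm h hw]

theorem perf_of_simple {T : Subgroup G} (hs : IsSimpleGroup T) (hn : ¬ IsMulCommutative T) : T ≤ ⁅T, T⁆ := by
  rcases (inferInstance : (commutator T).Normal).eq_bot_or_eq_top with h | h
  · exact absurd (Subgroup.center_eq_top_iff.1 ((commutator_eq_bot_iff_center_eq_top _).1 h)) hn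
  · have h1 := congrArg (Subgroup.map T.subtype) h
    rw [commutator_def, Subgroup.map_commutator, ← MonoidHom.range_eq_map, Subgroup.range_subtype] at h1
    exact h1.ge

theorem not_cm_of_noncomm {T : Subgroup G} (hn : ¬ IsMulCommutative T) : ¬ Cm T T := fun h =>
  hn ⟨⟨fun a b => Subtype.ext (h _ a.2 _ b.2)⟩⟩

theorem dich_of_simple {T : Subgroup G} (hs : IsSimpleGroup T) {N : Subgroup G} (hN : N ≤ T) (hn : Nm T N) :
    N = T ∨ N = ⊥ := by
  have h1 : (N.subgroupOf T).Normal := ⟨fun n hn' t => hn t t.2 n hn'⟩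
  rcases h1.eq_bot_or_eq_top with h | h
  · right
    rw [Subgroup.subgroupOf_eq_bot, disjoint_iff, inf_eq_left.2 hN] at h
    exact h
  · left
    exact le_antisymm hN (Subgroup.subgroupOf_eq_top.1 h)

theorem qs_of_simple {T : Subgroup G} (hs : IsSimpleGroup T) (hn : ¬ IsMulCommutative T) : QS T :=
  ⟨perf_of_simple hs hn, not_cm_of_noncomm hn, fun N hN h => (dich_of_simple hs hN h).imp_right fun h1 n hn t _ => by
    rw [h1, Subgroup.mem_bot] at hn
    rw [hn, one_mul, mul_one]⟩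

theorem noCen_of_simple {T : Subgroup G} (hs : IsSimpleGroup T) (hn : ¬ IsMulCommutative T) : NoCen T := by
  intro t ht hc
  rcases dich_of_simple hs (N := T ⊓ Subgroup.centralizer (T : Set G)) inf_le_left (fun s hs x hx => by
    rw [hx.2 s hs, mul_inv_cancel_right]; exact hx) with h | h
  · exact absurd (cm_iff_le.2 (h.ge.trans inf_le_right)) (not_cm_of_noncomm hn)
  · exact Subgroup.mem_bot.1 (h ▸ (⟨ht, fun s hs => (hc s hs).symm⟩ : t ∈ T ⊓ Subgroup.centralizer (T : Set G)))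

theorem CK.qs_hat {π : W →* G} (h : CK π) {T : Subgroup G} (hq : QS T) (hz : NoCen T) (hr : T ≤ π.range) :
    QS (hat π T) := by
  have hp := h.hat_perf hq.perf hr
  refine ⟨hp, fun hc => hq.nc fun s hs t ht => ?_, fun N hN hn => ?_⟩
  · obtain ⟨a, ha, rfl⟩ := exists_hat hq.perf hr hs
    obtain ⟨b, hb, rfl⟩ := exists_hat hq.perf hr ht
    rw [← map_mul, ← map_mul, hc a ha b hb]
  · rcases hq.dich (N.map π) ((Subgroup.map_mono hN).trans (map_hat hq.perf hr).le) (by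
      rintro s hs _ ⟨n, hn', rfl⟩
      obtain ⟨a, ha, rfl⟩ := exists_hat hq.perf hr hs
      exact ⟨_, hn a ha n hn', by rw [map_mul, map_mul, map_inv]⟩) with h1 | h1
    · exact Or.inl (le_antisymm hN ((h.hat_le_comm h1.ge).trans (nm_self N).commutator_le))
    · exact Or.inr fun n hn' t _ => h n (hz _ (hat_le π T (hN hn')) (h1 _ ⟨n, hn', rfl⟩)) t

/-- the perfect preimage of a twisted diagonal -/
theorem CK.exists_diag {π : W →* G} (h : CK π) {T T' : Subgroup G} {ψ : T →* G} (hd : Diag T ψ T') (hT : T ≤ ⁅T, T⁆)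
    (hz : NoCen T) (hr : T ≤ π.range) (hψ : ∀ t, ψ t ∈ π.range) :
    ∃ (U : Type) (_ : Group U) (α β : U →* W), commutator U = ⊤ ∧ α.range = hat π T ∧
      (∀ u u', α u * β u' = β u' * α u) ∧ (∀ w, w ∈ hat π T' ↔ ∃ u, w = α u * β u) ∧
        (∀ u, π (α u) = 1 ↔ π (β u) = 1) ∧ ∀ u, π (α u * β u) = 1 → π (α u) = 1 := by
  let Γ : Subgroup (G × G) := (T.subtype.prod ψ).range
  have hTT : (⊤ : Subgroup T) ≤ ⁅(⊤ : Subgroup T), ⊤⁆ := by
    rw [← Subgroup.map_le_map_iff_of_injective T.subtype_injective, Subgroup.map_commutator, ← MonoidHom.range_eq_map,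
      Subgroup.range_subtype]
    exact hT
  have hΓ : Γ ≤ ⁅Γ, Γ⁆ := by
    have h1 := perf_map hTT (T.subtype.prod ψ)
    rwa [← MonoidHom.range_eq_map] at h1
  have hΓr : Γ ≤ (π.prodMap π).range := by
    rintro _ ⟨t, rfl⟩
    obtain ⟨a, ha⟩ := hr t.2
    obtain ⟨b, hb⟩ := hψ t
    exact ⟨(a, b), Prod.ext ha hb⟩
  have hck : CK (π.prodMap π) := fun w hw v =>
    Prod.ext (h _ (congrArg Prod.fst hw) _) (h _ (congrArg Prod.snd hw) _)
  let Δ := hat (π.prodMap π) Γ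
  have hΔ : Δ ≤ ⁅Δ, Δ⁆ := hck.hat_perf hΓ hΓr
  have hU : (⊤ : Subgroup Δ) ≤ ⁅(⊤ : Subgroup Δ), ⊤⁆ := by
    rw [← Subgroup.map_le_map_iff_of_injective Δ.subtype_injective, Subgroup.map_commutator, ← MonoidHom.range_eq_map,
      Subgroup.range_subtype]
    exact hΔ
  let α : Δ →* W := (MonoidHom.fst W W).comp Δ.subtype
  let β : Δ →* W := (MonoidHom.snd W W).comp Δ.subtype
  have hel : ∀ u : Δ, ∃ t : T, π (α u) = t ∧ π (β u) = ψ t := fun u => by
    obtain ⟨t, ht⟩ := hat_le _ _ u.2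
    exact ⟨t, (congrArg Prod.fst ht).symm, (congrArg Prod.snd ht).symm⟩
  have hsur : ∀ t : T, ∃ u : Δ, π (α u) = t ∧ π (β u) = ψ t := fun t => by
    obtain ⟨w, hw, e⟩ := exists_hat hΓ hΓr ⟨t, rfl⟩
    exact ⟨⟨w, hw⟩, congrArg Prod.fst e, congrArg Prod.snd e⟩
  have hrp : ∀ f : Δ →* W, f.range ≤ ⁅f.range, f.range⁆ := fun f => by
    have h1 := perf_map hU f
    rwa [← MonoidHom.range_eq_map] at h1
  have hα : α.range = hat π T := by
    rw [h.eq_hat (hrp α)]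
    congr 1
    ext x
    constructor
    · rintro ⟨_, ⟨u, rfl⟩, rfl⟩
      obtain ⟨t, h1, -⟩ := hel u
      rw [h1]; exact t.2
    · intro hx
      obtain ⟨u, h1, -⟩ := hsur ⟨x, hx⟩
      exact ⟨_, ⟨u, rfl⟩, h1⟩
  have hc : ∀ u u', α u * β u' = β u' * α u := fun u u' => by
    refine (h.cm_hat (T' := ψ.range) hT hr ?_ (β u') ?_ (α u) (hα ▸ ⟨u, rfl⟩)).symm
    · rintro _ ⟨t, rfl⟩ a ha
      exact (hd.comm a ha t).symm
    · obtain ⟨t, -, h1⟩ := hel u'
      exact ⟨t, h1.symm⟩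
  let μ : Δ →* W := MonoidHom.mk' (fun u => α u * β u) fun u u' => by
    rw [map_mul, map_mul, mul_assoc, mul_assoc, ← mul_assoc (α u'), hc u' u, mul_assoc]
  have hμ : μ.range = hat π T' := by
    rw [h.eq_hat (hrp μ)]
    congr 1
    ext x
    rw [hd.mem]
    constructor
    · rintro ⟨_, ⟨u, rfl⟩, rfl⟩
      obtain ⟨t, h1, h2⟩ := hel u
      exact ⟨t, by rw [← h1, ← h2, ← map_mul]; rfl⟩
    · rintro ⟨t, rfl⟩
      obtain ⟨u, h1, h2⟩ := hsur t
      exact ⟨_, ⟨u, rfl⟩, by rw [← h1, ← h2, ← map_mul]; rfl⟩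
  refine ⟨Δ, inferInstance, α, β, top_le_iff.1 hU, hα, hc, fun w => ?_, fun u => ?_, fun u hu => ?_⟩
  · rw [← hμ]
    exact ⟨fun ⟨u, hu⟩ => ⟨u, hu.symm⟩, fun ⟨u, hu⟩ => ⟨u, hu.symm⟩⟩
  · obtain ⟨t, h1, h2⟩ := hel u
    rw [h1, h2, map_eq_one_iff ψ hd.inj, OneMemClass.coe_eq_one]
  · obtain ⟨t, h1, h2⟩ := hel u
    rw [map_mul, h1, h2, mul_eq_one_iff_eq_inv, ← map_inv] at hu
    rw [h1]
    exact hz _ t.2 fun s hs => by rw [hu, hd.comm s hs]

end Cfsg.Agent.Cam.Cl
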