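import Cfsg.Agent.Cam.Iface
import Cfsg.Agent.DS.Cl.Blk
import Cfsg.Prelude.Def_LieTypeChar

/-!
# S3689, S3690, classical groups: interface (helper65)

The frame is the finite star-simple ring `A` with form structure `F : FR A` of `DS/Cl/Defs.lean`; the route is the one of
`notes/Cam/cl70.md` (no automorphism groups, potentials), with the simplifications of `notes/Cam/cl65.md`.
All groups are subgroups of `Aˣ`: `Dr F = [Iso, Iso]` covers the simple group, `Hh` is the preimage of `H ⊓ S`, the members of `𝒯`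
are the perfect preimages of the components, `Y` is the perfect preimage of the perfect core of `C_S(X)`.
Left ideals are subspaces: `FixI T` is the fixed space and `ImI T` is `[V, T]`.
-/

set_option autoImplicit false

namespace Cfsg.Agent.Cam.Cl

open Cfsg Cfsg.Agent.DS.Cl

section grp

variable {G : Type} [Group G]

/-- `S` centralizes `T` -/
def Cm (S T : Subgroup G) : Prop := ∀ s ∈ S, ∀ t ∈ T, s * t = t * s

/-- `S` normalizes `T` -/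
def Nm (S T : Subgroup G) : Prop := ∀ s ∈ S, ∀ t ∈ T, s * t * s⁻¹ ∈ T

/-- `T` is quasisimple -/
structure QS (T : Subgroup G) : Prop where
  perf : T ≤ ⁅T, T⁆
  nc : ¬ Cm T T
  dich : ∀ N : Subgroup G, N ≤ T → Nm T N → N = T ∨ Cm N T

/-- `T` has trivial centre -/
def NoCen (T : Subgroup G) : Prop := ∀ t ∈ T, (∀ s ∈ T, t * s = s * t) → t = 1

end grp

section defs

variable {A : Type} [Ring A] [StarRing A]

/-- the commutator group of the isometry group -/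
def Dr (F : FR A) : Subgroup Aˣ := ⁅F.Iso, F.Iso⁆

omit [StarRing A] in
/-- central units -/
def Cen (u : Aˣ) : Prop := (u : A) ∈ Subring.center A

omit [StarRing A] in
/-- unipotent units -/
def Uni (v : Aˣ) : Prop := IsNilpotent ((v : A) - 1)

omit [StarRing A] in
/-- `T` has a non-trivial unipotent element -/
def HasUni (T : Subgroup Aˣ) : Prop := ∃ v ∈ T, v ≠ 1 ∧ Uni v

omit [StarRing A] in
/-- the subring generated by the centre and `T` (`F.Span` says `Bd (Dr F) = ⊤`) -/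
def Bd (T : Subgroup Aˣ) : Subring A :=
  Subring.closure ((Subring.center A : Set A) ∪ ((fun u : Aˣ => (u : A)) '' T))

omit [StarRing A] in
/-- the fixed space -/
def FixI (T : Subgroup Aˣ) : Ideal A where
  carrier := {a | ∀ t ∈ T, a * (t : A) = a}
  add_mem' := fun {a b} ha hb t ht => by rw [add_mul, ha t ht, hb t ht]
  zero_mem' := fun t _ => zero_mul _
  smul_mem' := fun c a ha t ht => by rw [smul_eq_mul, mul_assoc, ha t ht]

omit [StarRing A] in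
/-- the commutator space -/
def ImI (T : Subgroup Aˣ) : Ideal A := Ideal.span {x | ∃ t ∈ T, x = (t : A) - 1}

/-! ### types of components (`e` is the support) -/

omit [StarRing A] in
/-- the centralizer of `T` is commutative on the support -/
def TyA (T : Subgroup Aˣ) (e : A) : Prop :=
  ∀ z z' : A, (∀ t ∈ T, z * t = t * z) → (∀ t ∈ T, z' * t = t * z') → z * z' * e = z' * z * e

omit [StarRing A] in
/-- a unipotent element with a Jordan block of size one on the support -/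
def TyR (T : Subgroup Aˣ) (e : A) : Prop :=
  ∃ v ∈ T, v ≠ 1 ∧ Uni v ∧ ∃ a f : A, a * ((v : A) - 1) = 0 ∧ ((v : A) - 1) * f = 0 ∧ a * e * f ≠ 0

omit [StarRing A] in
/-- a unipotent element whose largest Jordan block has size prime to the characteristic -/
def TyN (T : Subgroup Aˣ) : Prop :=
  ∃ v ∈ T, ∃ j : ℕ, 1 ≤ j ∧ ((v : A) - 1) ^ (j + 1) = 0 ∧ ((v : A) - 1) ^ j ≠ 0 ∧ IsUnit ((j + 1 : ℕ) : A)

omit [StarRing A] in
/-- dimension two -/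
def TyI (T : Subgroup Aˣ) : Prop :=
  ∀ s ∈ T, ∀ t ∈ T, (s : A) * ((t : A) + (t⁻¹ : Aˣ)) = ((t : A) + (t⁻¹ : Aˣ)) * s

omit [StarRing A] in
/-- `Ω₃(q)`, `q` odd: four-groups have no fixed vectors on the support -/
def TyII (T : Subgroup Aˣ) (e : A) : Prop :=
  IsUnit (2 : A) ∧ NoCen T ∧ ∀ a ∈ T, ∀ b ∈ T, a * a = 1 → b * b = 1 → a * b = b * a → a ≠ 1 → b ≠ 1 → a ≠ b →
    (1 + (a : A)) * (1 + (b : A)) * e = 0

omit [StarRing A] in
/-- `Sp₄(2)'`: elements of order `5` have no fixed vectors on the support, and one is conjugate to its square -/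
def TyIV (T : Subgroup Aˣ) (e : A) : Prop :=
  (2 : A) = 0 ∧ NoCen T ∧
    (∀ w ∈ T, w ^ 5 = 1 → w ≠ 1 → (1 + (w : A) + (w : A) ^ 2 + (w : A) ^ 3 + (w : A) ^ 4) * e = 0) ∧
    ∃ t ∈ T, t ^ 5 = 1 ∧ t ≠ 1 ∧ ∃ s ∈ Subring.closure (insert e ((fun u : Aˣ => (u : A)) '' T)),
      ∃ s' : A, s' * s = e ∧ s * t = (t : A) ^ 2 * s

omit [StarRing A] in
/-- the types that come from `BoxQS` -/
def Ty (T : Subgroup Aˣ) (e : A) : Prop := TyR T e ∨ TyN T ∨ TyI T ∨ TyII T e ∨ TyIV T e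

/-- `T` is supported on `D.e`, and `D` is the star-simple ring generated by `T` there -/
structure Sh (T : Subgroup Aˣ) (D : Blk A) : Prop where
  ss : SS D.T
  mem : ∀ t ∈ T, (t : A) - 1 ∈ D.car
  sub : ∀ x ∈ D.car, x ∈ Bd T

/-- semisimple shape -/
def ShS (T : Subgroup Aˣ) : Prop := ∃ D : Blk A, Sh T D ∧ HasUni T ∧ (TyA T D.e ∨ Ty T D.e)

/-- shape `Ω_{2m+1}(2^a)` -/
structure ShB (F : FR A) (T : Subgroup Aˣ) : Prop where
  rad : ∃ a ∈ ImI T, a ∈ FixI T ∧ a ≠ 0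
  triv : ∀ P : Subgroup Aˣ, P ≤ F.Iso → P ≤ ⁅P, P⁆ → Cm P T → ∀ c ∈ P, ∀ a ∈ ImI T, a * (c : A) = a

/-- the perfect preimage of a non-abelian simple subgroup of the simple group -/
structure Mem (F : FR A) (T : Subgroup Aˣ) : Prop where
  qs : QS T
  le : T ≤ F.Iso
  zc : ∀ t ∈ T, (∀ s ∈ T, t * s = s * t) → Cen t

/-- `T'` is a proper twisted diagonal over `T` -/
def UDiag (F : FR A) (T T' : Subgroup Aˣ) : Prop :=
  ∃ (U : Type) (_ : Group U) (α β : U →* Aˣ), commutator U = ⊤ ∧ α.range = T ∧ (∀ u, β u ∈ F.Iso) ∧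
    (∀ u u', α u * β u' = β u' * α u) ∧ (∀ w, w ∈ T' ↔ ∃ u, w = α u * β u) ∧ (∀ u, Cen (α u) ↔ Cen (β u)) ∧
      ∀ u, Cen (α u * β u) → Cen (α u)

/-- the local configuration -/
structure Loc (F : FR A) (Hh Y : Subgroup Aˣ) (𝒯 : Set (Subgroup Aˣ)) : Prop where
  ss : SS A
  le : Hh ≤ Dr F
  mem : ∀ T ∈ 𝒯, Mem F T
  t_le : ∀ T ∈ 𝒯, T ≤ Hh
  comm : ∀ T₁ ∈ 𝒯, ∀ T₂ ∈ 𝒯, T₁ ≠ T₂ → Cm T₁ T₂
  inv : ∀ h ∈ Hh, ∀ T ∈ 𝒯, Cam.cj h T ∈ 𝒯
  y_perf : Y ≤ ⁅Y, Y⁆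
  y_le : Y ≤ Hh
  y_nm : Nm Hh Y
  y_comm : ∀ T ∈ 𝒯, Cm Y T
  cY : ∀ u ∈ Dr F, (∀ y ∈ Y, u * y = y * u) → u ∈ Hh
  cX : ∀ u ∈ Dr F, (∀ T ∈ 𝒯, ∀ t ∈ T, u * t = t * u) → u ∈ Hh
  op : ∀ P : Subgroup Aˣ, P ≤ Hh → Nm Hh P → (∀ u ∈ P, Uni u) → P = ⊥

omit [StarRing A] in
/-- at most one other member of `𝒯` is supported on `e` -/
def AtMost (𝒯 : Set (Subgroup Aˣ)) (T : Subgroup Aˣ) (e : A) : Prop :=
  ∀ T₁ ∈ 𝒯, ∀ T₂ ∈ 𝒯, (∀ t ∈ T₁, ((t : A) - 1) * e = t - 1) → (∀ t ∈ T₂, ((t : A) - 1) * e = t - 1) →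
    T₁ ≠ T → T₂ ≠ T → T₁ = T₂

/-- the structure theorem for one member -/
def Out (F : FR A) (Hh : Subgroup Aˣ) (𝒯 : Set (Subgroup Aˣ)) (T : Subgroup Aˣ) : Prop :=
  (ShS T ∨ ShB F T) ∧ (Nm Hh T ∨ ∃ D : Blk A, Sh T D ∧ AtMost 𝒯 T D.e)

/-- unipotent isometries lie in the commutator group -/
def UP (F : FR A) : Prop := F.L = Lmax A ∧ ∀ u ∈ F.Iso, Uni u → u ∈ Dr F

/-- orthogonal groups in characteristic two -/
def O2 (F : FR A) : Prop :=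
  ∃ (K V : Type) (_ : Field K) (_ : Finite K) (_ : AddCommGroup V) (_ : Module K V) (_ : Finite V)
    (Q : QuadraticForm K V) (e : A ≃+* Module.End K V), Cfsg.Agent.LieClassical.OrthTrans.Good Q ∧ (2 : K) = 0 ∧
      F.L = Lmin A ∧ (∀ a u v, QuadraticMap.polar Q (e a u) v = QuadraticMap.polar Q u (e (star a) v)) ∧
        ∀ v, QuadraticMap.polar Q v (e F.l v) = Q v

end defs

/-- `T` is the group of a form ring of characteristic `p` -/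
def Top (T : Type) [Group T] : Prop :=
  ∃ (p : ℕ) (A : Type) (_ : Ring A) (_ : StarRing A) (_ : Finite A) (F : FR A) (_ : F.S ≃* T), p.Prime ∧ (p : A) = 0 ∧
    (IsPSLChar p T ∨ IsPSpChar p T ∨ IsPSUChar p T ∨ IsPOmegaOddChar p T ∨ IsPOmegaPlusChar p T ∨
      IsPOmegaMinusChar p T) ∧ SS A ∧ (UP F ∨ O2 F)

/-! ### The boxes -/

/-- [Top] the models of the six families -/
def BoxTop : Prop := ∀ (T : Type) [Group T],
  IsPSL T ∨ IsPSp T ∨ IsPSU T ∨ IsPOmegaOdd T ∨ IsPOmegaPlus T ∨ IsPOmegaMinus T → Top T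

/-- the conclusion of `BoxQS`: solvable, quasisimple, or `O₄⁺` -/
def QSC {A : Type} [Ring A] [StarRing A] (F : FR A) : Prop :=
  Group.IsSolvable (Dr F) ∨ (QS (Dr F) ∧ F.Span ∧ HasUni (Dr F) ∧ (Ty (Dr F) 1 ∨ F.L ≠ Lmax A)) ∨
    ((F.L ≠ Lmax A ∨ (2 : A) ≠ 0) ∧ ∃ Y₁ Y₂ : Subgroup Aˣ, Y₁ ⊔ Y₂ = Dr F ∧ Cm Y₁ Y₂ ∧
      ∀ Z ∈ ({Y₁, Y₂} : Set (Subgroup Aˣ)), QS Z ∧ HasUni Z ∧ TyI Z ∧ IsSimpleRing (Bd Z))

/-- [QS] the commutator group of the isometry group of a classical space -/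
def BoxQS : Prop := ∀ (A : Type) [Ring A] [StarRing A] [Finite A], SS A → ∀ F : FR A, QSC F

/-- [Pc] components are pieces of a block `D` that commutes with `Y` -/
def BoxPc : Prop := ∀ (A : Type) [Ring A] [StarRing A] [Finite A] (F : FR A) (Hh Y : Subgroup Aˣ)
  (𝒯 : Set (Subgroup Aˣ)), Loc F Hh Y 𝒯 → ∀ (D : Blk A) (FD : FR D.T), SS D.T →
    (∀ c ∈ Subring.center A, c * D.e ∈ D.car) →
    (∀ u ∈ FD.Iso, ∀ v : Aˣ, (v : A) = D.val u + (1 - D.e) → v ∈ F.Iso) →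
    (∀ y ∈ Y, ∀ x ∈ D.car, (y : A) * x = x * y) →
    (∀ T ∈ 𝒯, ∀ t ∈ T, (t : A) * D.e = D.e * t ∧ ∃ u ∈ FD.Iso, D.val u = t * D.e) →
    ∀ T ∈ 𝒯, (∃ t ∈ T, (t : A) * D.e ≠ D.e) → AtMost 𝒯 T D.e ∧ HasUni T ∧ ∃ D' : Blk A, Sh T D' ∧ D'.e = D.e ∧
      (Ty T D.e ∨ (FD.L ≠ Lmax D.T ∧ ∀ z ∈ D.car, (∀ t ∈ T, z * t = t * z) → ∀ x ∈ D.car, z * x = x * z))

/-- [Bk] the blocks of a semisimple enveloping ring -/
def BoxBk : Prop := ∀ (A : Type) [Ring A] [StarRing A] [Finite A] (F : FR A) (Hh Y : Subgroup Aˣ)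
  (𝒯 𝒯₁ : Set (Subgroup Aˣ)), Loc F Hh Y 𝒯 → 𝒯₁ ⊆ 𝒯 →
    (∀ T ∈ 𝒯, T ∉ 𝒯₁ → ∀ t ∈ T, ∀ a ∈ ImI (sSup 𝒯₁), a * (t : A) = a) → IsSemisimpleRing (Bd (sSup 𝒯₁)) →
    (∀ u : Aˣ, (u : A) ∈ Bd (sSup 𝒯₁) → (u : A) - 1 ∈ ImI (sSup 𝒯₁) → (u : A) * star (u : A) = 1 → u ∈ F.Iso) →
    ∀ T ∈ 𝒯₁, ShS T ∧ ∃ D : Blk A, Sh T D ∧ AtMost 𝒯 T D.e

/-- [J1] the enveloping ring is semisimple (all cases but orthogonal groups in characteristic two) -/
def BoxJ1 : Prop := ∀ (A : Type) [Ring A] [StarRing A] [Finite A] (F : FR A) (Hh Y : Subgroup Aˣ)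
  (𝒯 : Set (Subgroup Aˣ)), Loc F Hh Y 𝒯 → UP F → IsSemisimpleRing (Bd (sSup 𝒯))

/-- [O2] orthogonal groups in characteristic two -/
def BoxO2 : Prop := ∀ (A : Type) [Ring A] [StarRing A] [Finite A] (F : FR A) (Hh Y : Subgroup Aˣ)
  (𝒯 : Set (Subgroup Aˣ)), Loc F Hh Y 𝒯 → O2 F → ∀ T ∈ 𝒯, Out F Hh 𝒯 T

/-- [Mov] a perfect group that moves a member has a large commutator space -/
def BoxMov : Prop := ∀ (A : Type) [Ring A] [StarRing A] [Finite A] (F : FR A) (Hh Y : Subgroup Aˣ)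
  (𝒯 : Set (Subgroup Aˣ)), Loc F Hh Y 𝒯 → ∀ T ∈ 𝒯, Out F Hh 𝒯 T → ∀ P : Subgroup Aˣ, P ≤ Hh → P ≤ ⁅P, P⁆ →
    ¬ Nm P T → Nat.card (ImI T) < Nat.card (ImI P)

/-- [Cyc] there is no cycle of proper diagonals -/
def BoxCyc : Prop := ∀ (A : Type) [Ring A] [StarRing A] [Finite A] (F : FR A) (p : ℕ), SS A → p.Prime → (p : A) = 0 →
  ∀ (ι : Type) [Finite ι] [Nonempty ι] (σ : ι → ι) (T : ι → Subgroup Aˣ), Function.Injective σ → (∀ i, Mem F (T i)) →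
    (∀ i, ShS (T i) ∨ ShB F (T i)) → (∀ i, UDiag F (T i) (T (σ i))) → False

/-- the structure theorem -/
def BoxST : Prop := ∀ (A : Type) [Ring A] [StarRing A] [Finite A] (F : FR A) (Hh Y : Subgroup Aˣ)
  (𝒯 : Set (Subgroup Aˣ)), Loc F Hh Y 𝒯 → UP F ∨ O2 F → ∀ T ∈ 𝒯, Out F Hh 𝒯 T

/-- [Gen] the reduction -/
def BoxGen : Prop := BoxST → BoxMov → BoxCyc → Big → Red → Row (fun T _ => Top T)

end Cfsg.Agent.Cam.Cl
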