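import Cfsg.Agent.Cam.Cl.Base

/-!
# Classical rows of S3689: a perfect group moving a member (helper65)
-/

set_option autoImplicit false

namespace Cfsg.Agent.Cam.Cl.Mov

open Cfsg Cfsg.Agent.DS.Cl
open scoped commutatorElement

theorem perf_range {G G' : Type} [Group G] [Group G'] {T : Subgroup G} (hT : T ≤ ⁅T, T⁆) (μ : T →* G') :
    μ.range ≤ ⁅μ.range, μ.range⁆ := by
  have h1 : (⊤ : Subgroup T) ≤ ⁅(⊤ : Subgroup T), (⊤ : Subgroup T)⁆ := by
    rw [← Subgroup.map_le_map_iff_of_injective T.subtype_injective, Subgroup.map_commutator, ← MonoidHom.range_eq_map,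
      T.range_subtype]
    exact hT
  rw [MonoidHom.range_eq_map]
  exact perf_map h1 μ

/-- a perfect group has no orbit of length two -/
theorem fix_of_two {G X : Type} [Group G] {P : Subgroup G} (hP : P ≤ ⁅P, P⁆) (f : G → X → X) (h1 : ∀ x, f 1 x = x)
    (hm : ∀ a b x, f (a * b) x = f b (f a x)) {x : X} (h2 : ∀ a ∈ P, ∀ b ∈ P, f a x ≠ x → f b x ≠ x → f a x = f b x) :
    ∀ a ∈ P, f a x = x := by
  classical
  have hinj : ∀ b y z, f b y = f b z → y = z := fun b y z h => by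
    rw [← h1 y, ← h1 z, ← mul_inv_cancel b, hm, hm, h]
  have h3 := eq_one_of_perf hP (fun a => if f a x = x then (1 : ℤ) else -1) (by simp [h1]) (fun a ha b hb => by
    by_cases h4 : f a x = x
    · simp only [hm, h4, if_true, one_mul]
    · by_cases h5 : f b x = x
      · have h6 : f (a * b) x ≠ x := fun h6 => h4 (hinj b _ _ (by rw [← hm, h6, h5]))
        simp only [h4, h5, h6, if_true, if_false, mul_one]
      · have h6 : f b⁻¹ x ≠ x := fun h6 => h5 (by
          have h7 := congrArg (f b) h6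
          rw [← hm, inv_mul_cancel, h1] at h7
          exact h7.symm)
        have h7 : f (a * b) x = x := by rw [hm, h2 a ha _ (inv_mem hb) h4 h6, ← hm, inv_mul_cancel, h1]
        simp only [h4, h5, h7, if_true, if_false]
        norm_num) (fun a _ b _ => mul_comm _ _)
  intro a ha
  by_contra h4
  have h5 := h3 a ha
  simp only [h4, if_false] at h5
  exact absurd h5 (by norm_num)

variable {A : Type} [Ring A] [StarRing A]

omit [StarRing A] in
theorem inv_comm {t : Aˣ} {ε : A} (h : (t : A) * ε = ε * t) : ((t⁻¹ : Aˣ) : A) * ε = ε * (t⁻¹ : Aˣ) := by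
  rw [Units.inv_mul_eq_iff_eq_mul, ← mul_assoc, h, mul_assoc, Units.mul_inv, mul_one]

omit [StarRing A] in
theorem cut_mul {ε a b : A} (hε : ε * ε = ε) (hb : b * ε = ε * b) :
    (a * ε + (1 - ε)) * (b * ε + (1 - ε)) = a * b * ε + (1 - ε) := by
  have h1 : ε * (b * ε) = b * ε := by rw [← mul_assoc, ← hb, mul_assoc, hε]
  have h2 : ε * (1 - ε) = 0 := by rw [mul_sub, mul_one, hε, sub_self]
  rw [add_mul, mul_add, mul_add, mul_assoc a, h1, mul_assoc a ε, h2, mul_zero, add_zero, sub_mul, one_mul, h1, sub_self,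
    zero_add, sub_mul, one_mul, h2, sub_zero, mul_assoc]

omit [StarRing A] in
/-- the action of `T` on the part `ε` -/
def cut {T : Subgroup Aˣ} {ε : A} (hε : ε * ε = ε) (hT : ∀ t ∈ T, (t : A) * ε = ε * t) : T →* Aˣ where
  toFun t := ⟨(t.1 : A) * ε + (1 - ε), ((t.1⁻¹ : Aˣ) : A) * ε + (1 - ε),
    by rw [cut_mul hε (hT _ (inv_mem t.2)), Units.mul_inv, one_mul, add_sub_cancel],
    by rw [cut_mul hε (hT _ t.2), Units.inv_mul, one_mul, add_sub_cancel]⟩
  map_one' := Units.ext (by simp)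
  map_mul' a b := Units.ext (cut_mul hε (hT _ b.2)).symm

omit [StarRing A] in
theorem cut_val {T : Subgroup Aˣ} {ε : A} (hε : ε * ε = ε) (hT : ∀ t ∈ T, (t : A) * ε = ε * t) (t : T) :
    (cut hε hT t : A) = (t.1 : A) * ε + (1 - ε) := rfl

theorem cut_mem_Iso {F : FR A} {ε : A} (hε : ε * ε = ε) (hs : star ε = ε) {t v : Aˣ} (ht : t ∈ F.Iso)
    (hc : (t : A) * ε = ε * t) (hv : (v : A) = t * ε + (1 - ε)) : v ∈ F.Iso := by
  have h0 : star (t : A) * ε = ε * star (t : A) := by rw [← FR.Iso.inv_eq ht]; exact inv_comm hc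
  have h1 : star (v : A) = star (t : A) * ε + (1 - ε) := by rw [hv, star_add, star_mul, star_sub, star_one, hs, h0]
  refine ⟨by rw [h1, hv, cut_mul hε h0, ht.1, one_mul, add_sub_cancel], ?_⟩
  have h2 := F.conj_mem ht.2 ε
  have h3 := F.sub_star_mem ((t * ε - ε) * F.l * (1 - ε))
  have h4 : star F.l = 1 - F.l := by rw [← F.l_add]; abel
  have h5 : (1 - ε) * (ε * star (t : A) - ε) = 0 := by
    rw [sub_mul, one_mul, mul_sub, ← mul_assoc, hε, sub_self]
  rw [star_mul, star_mul, star_sub, star_sub, star_one, star_mul, hs, h4, sub_mul 1 F.l, one_mul, mul_sub (1 - ε), h5] at h3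
  rw [hs] at h2
  have h6 := F.L.add_mem h2 h3
  have h7 : ε * ((t : A) * F.l * star (t : A) - F.l) * ε = t * ε * F.l * (ε * star (t : A)) - ε * F.l * ε := by
    rw [mul_sub, sub_mul, hc, ← h0]
    simp only [mul_assoc]
  rw [h7] at h6
  rw [h1, hv, h0]
  convert h6 using 1
  noncomm_ring

variable {F : FR A} {Hh Y : Subgroup Aˣ} {𝒯 : Set (Subgroup Aˣ)}

/-- a member is trivial on one of the two parts of a decomposition that is invariant under it and under `Y` -/
theorem te (c : Loc F Hh Y 𝒯) {ε : A} (hε : ε * ε = ε) (hs : star ε = ε) (hY : ∀ y ∈ Y, (y : A) * ε = ε * y)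
    {T : Subgroup Aˣ} (hT : T ∈ 𝒯) (hc : ∀ t ∈ T, (t : A) * ε = ε * t) :
    (∀ t ∈ T, (t : A) * ε = ε) ∨ ∀ t ∈ T, (t : A) * (1 - ε) = 1 - ε := by
  have hq := (c.mem T hT).qs
  have hc' : ∀ t ∈ T, (t : A) * (1 - ε) = (1 - ε) * t := fun t ht => by rw [mul_sub, sub_mul, hc t ht, mul_one, one_mul]
  have hε' : (1 - ε) * (1 - ε) = 1 - ε := by rw [mul_sub, mul_one, sub_mul, one_mul, hε, sub_self, sub_zero]
  have h0 : ε * (1 - ε) = 0 := by rw [mul_sub, mul_one, hε, sub_self]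
  have h0' : (1 - ε) * ε = 0 := by rw [sub_mul, one_mul, hε, sub_self]
  -- an abelian action is trivial
  have ab : ∀ {η : A} (hη : η * η = η) (hd : ∀ t ∈ T, (t : A) * η = η * t),
      (∀ s ∈ T, ∀ t ∈ T, (s : A) * t * η = t * s * η) → ∀ t ∈ T, (t : A) * η = η := fun {η} hη hd h t ht => by
    have h1 := eq_one_of_perf hq.perf (fun t : Aˣ => (t : A) * η + (1 - η)) (by simp)
      (fun a _ b hb => (cut_mul hη (hd b hb)).symm)
      (fun a ha b hb => by rw [cut_mul hη (hd b hb), cut_mul hη (hd a ha), h a ha b hb]) t ht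
    have h2 := congrArg (· * η) h1
    simp only [add_mul, sub_mul, mul_assoc, hη, one_mul, sub_self, add_zero] at h2
    exact h2
  set μ := cut hε hc
  have hp := perf_range hq.perf μ
  have h1 : μ.range ≤ Hh := by
    have h2 : μ.range ≤ F.Iso := by
      rintro _ ⟨t, rfl⟩
      exact cut_mem_Iso hε hs ((c.mem T hT).le t.2) (hc _ t.2) rfl
    rintro _ ⟨t, rfl⟩
    refine c.cY _ (le_Dr_of_perf hp h2 ⟨t, rfl⟩) fun y hy => Units.ext ?_
    have h3 : (y : A) * t.1 = t.1 * y := congrArg Units.val (c.y_comm T hT y hy _ t.2)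
    rw [Units.val_mul, Units.val_mul, cut_val, add_mul, mul_add, mul_assoc, ← hY y hy, ← mul_assoc, ← h3, mul_assoc,
      sub_mul, mul_sub, one_mul, mul_one, hY y hy]
  have h2 : ∀ t : T, (μ t : A) * (1 - ε) = 1 - ε := fun t => by
    rw [cut_val, add_mul, mul_assoc, h0, mul_zero, zero_add, hε']
  have h2' : ∀ t : T, (1 - ε) * (μ t : A) = 1 - ε := fun t => by
    rw [cut_val, mul_add, hc _ t.2, ← mul_assoc, h0', zero_mul, zero_add, hε']
  have h3 : ∀ t : T, (μ t : A) * ε = t.1 * ε := fun t => by rw [cut_val, add_mul, mul_assoc, hε, h0', add_zero]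
  have h3' : ∀ t : T, (μ t : A) * ε = ε * μ t := fun t => by
    rw [h3, cut_val, mul_add, h0, add_zero, ← mul_assoc, ← hc _ t.2, mul_assoc, hε]
  by_cases h4 : Nm μ.range T
  · have h5 : μ.range ≤ T := by
      refine hp.trans ?_
      rw [Subgroup.commutator_le]
      rintro _ ⟨a, rfl⟩ _ ⟨b, rfl⟩
      have h6 : ⁅μ a, μ b⁆ = ⁅μ a, b.1⁆ := by
        have h7 : (μ b)⁻¹ * b.1 * μ a = μ a * ((μ b)⁻¹ * b.1) := by
          have h8 : (((μ b)⁻¹ * b.1 : Aˣ) : A) = b.1 * (1 - ε) + (1 - (1 - ε)) := by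
            rw [Units.val_mul, Units.inv_mul_eq_iff_eq_mul, sub_sub_cancel, mul_add, h3, hc' _ b.2, ← mul_assoc, h2,
              ← hc' _ b.2, ← mul_add, sub_add_cancel, mul_one]
          apply Units.ext
          rw [Units.val_mul, Units.val_mul (μ a), h8, sub_sub_cancel, add_mul, mul_add, mul_assoc, h2', h3', hc' _ b.2,
            ← mul_assoc, h2]
        have h8 : b.1 = μ b * ((μ b)⁻¹ * b.1) := by group
        rw [commutatorElement_def, commutatorElement_def]
        generalize (μ b)⁻¹ * b.1 = w at h7 h8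
        rw [h8, mul_inv_rev, mul_assoc (μ a) (μ b * w), mul_assoc (μ b), (show Commute w (μ a) from h7).inv_right.eq]
        group
      rw [h6]
      exact h4.commutator_le (Subgroup.commutator_mem_commutator ⟨a, rfl⟩ b.2)
    have h6 : Nm T μ.range := by
      rintro s hs _ ⟨t, rfl⟩
      refine ⟨⟨s * t * s⁻¹, nm_self T s hs _ t.2⟩, Units.ext ?_⟩
      rw [cut_val, Units.val_mul, Units.val_mul, Units.val_mul, Units.val_mul, cut_val, mul_add, add_mul, hc' s hs,
        mul_assoc (1 - ε), Units.mul_inv, mul_one, mul_assoc _ _ ε, hc _ (inv_mem hs)]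
      simp only [mul_assoc]
    rcases hq.dich _ h5 h6 with h7 | h7
    · right
      intro t ht
      rw [← h7] at ht
      obtain ⟨s, rfl⟩ := ht
      exact h2 s
    · left
      refine ab hε hc fun s hs t ht => ?_
      have h8 := congrArg (fun v : Aˣ => (v : A) * ε) (h7 _ ⟨⟨s, hs⟩, rfl⟩ t ht)
      simp only [Units.val_mul] at h8
      rwa [mul_assoc, hc t ht, ← mul_assoc, h3, mul_assoc (t : A), h3, mul_assoc, ← hc t ht, ← mul_assoc, ← mul_assoc] at h8
  · right
    obtain ⟨_, ⟨a, rfl⟩, h5⟩ : ∃ p ∈ μ.range, Cam.cj p T ≠ T := by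
      by_contra h5
      push Not at h5
      exact h4 (nm_of_cj h5)
    have h6 := c.comm _ (c.inv _ (h1 ⟨a, rfl⟩) T hT) T hT h5
    refine ab hε' hc' fun s hs t ht => ?_
    have h7 : (((μ a)⁻¹ * s * μ a : Aˣ) : A) * (1 - ε) = s * (1 - ε) := by
      rw [Units.val_mul, Units.val_mul, mul_assoc, h2, mul_assoc, hc' s hs, ← mul_assoc, ← map_inv, h2]
    have h8 := congrArg (fun v : Aˣ => (v : A) * (1 - ε)) (h6 _ (conj_mem_cj hs) t ht)
    simp only [Units.val_mul _ t, Units.val_mul t] at h8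
    rwa [mul_assoc, hc' t ht, ← mul_assoc, h7, mul_assoc (t : A), h7, mul_assoc, ← hc' t ht, ← mul_assoc, ← mul_assoc] at h8

/-- conjugates of a support are equal or orthogonal -/
theorem orth (c : Loc F Hh Y 𝒯) {T : Subgroup Aˣ} (hT : T ∈ 𝒯) {D : Blk A} (hD : Sh T D) {h : Aˣ} (hh : h ∈ Hh) :
    ((h⁻¹ : Aˣ) : A) * D.e * h = D.e ∨ D.e * (((h⁻¹ : Aˣ) : A) * D.e * h) = 0 := by
  have hiso : ∀ t ∈ T, (t : A) * star (t : A) = 1 := fun t ht => ((c.mem T hT).le ht).1
  have hne := (c.mem T hT).qs.ne_bot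
  have hall : ∀ T' ∈ 𝒯, ∀ t ∈ T', (t : A) * D.e = D.e * t := fun T' hT' t ht => by
    by_cases h1 : T' = T
    · exact hD.comm_e (h1 ▸ ht)
    · exact hD.comm (fun s hs => congrArg Units.val (c.comm T' hT' T hT h1 t ht s hs)) D.e_mem
  have hy : ∀ y ∈ Y, (y : A) * D.e = D.e * y := fun y hy =>
    hD.comm (fun s hs => congrArg Units.val (c.y_comm T hT y hy s hs)) D.e_mem
  have conj : ∀ {g t : Aˣ}, ((g * t * g⁻¹ : Aˣ) : A) * D.e = D.e * (g * t * g⁻¹ : Aˣ) →
      (t : A) * (((g⁻¹ : Aˣ) : A) * D.e * g) = ((g⁻¹ : Aˣ) : A) * D.e * g * t := fun {g t} h1 => by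
    have h2 := congrArg (fun x => ((g⁻¹ : Aˣ) : A) * x * g) h1
    simpa only [Units.val_mul, mul_assoc, Units.inv_mul_cancel_left, Units.inv_mul, mul_one] using h2
  have key : ∀ {g : Aˣ}, g ∈ Hh → D.e * (((g⁻¹ : Aˣ) : A) * D.e * g) = 0 ∨ D.e * (((g⁻¹ : Aˣ) : A) * D.e * g) = D.e :=
    fun {g} hg => by
    have hg' := Dr_le F (c.le hg)
    rcases te c (ε := ((g⁻¹ : Aˣ) : A) * D.e * g)
      (by simp only [mul_assoc, Units.mul_inv_cancel_left]; rw [← mul_assoc D.e, D.idem])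
      (by rw [FR.Iso.inv_eq hg', star_mul, star_mul, star_star, D.star_e, mul_assoc])
      (fun y hy' => conj (hy _ (c.y_nm g hg y hy'))) hT
      (fun t ht => conj (hall _ (c.inv _ (inv_mem hg) T hT) _ (by
        have h1 := conj_mem_cj (a := g⁻¹) ht
        rwa [inv_inv] at h1))) with h1 | h1
    · left
      exact (ImI_le (I := rmul ⊥ _) fun t ht => by rw [mem_rmul, sub_mul, h1 t ht, one_mul, sub_self]; exact zero_mem _)
        (hD.e_mem_ImI hiso hne)
    · right
      have h2 : D.e * (1 - ((g⁻¹ : Aˣ) : A) * D.e * g) = 0 :=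
        (ImI_le (I := rmul ⊥ _) fun t ht => by rw [mem_rmul, sub_mul, h1 t ht, one_mul, sub_self]; exact zero_mem _)
          (hD.e_mem_ImI hiso hne)
      rw [mul_sub, mul_one, sub_eq_zero] at h2
      exact h2.symm
  rcases key hh with h1 | h1
  · exact Or.inr h1
  · left
    have h2 := congrArg star h1
    rw [star_mul, star_mul, star_mul, FR.Iso.inv_eq (Dr_le F (c.le hh)), star_star, D.star_e, ← mul_assoc,
      ← FR.Iso.inv_eq (Dr_le F (c.le hh))] at h2
    have h3 : ((h⁻¹ : Aˣ) : A) * D.e * h * D.e = ((h⁻¹ : Aˣ) : A) * (D.e * (((h⁻¹⁻¹ : Aˣ) : A) * D.e * (h⁻¹ : Aˣ))) * h := by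
      simp only [inv_inv, mul_assoc, Units.inv_mul, mul_one]
    rcases key (inv_mem hh) with h4 | h4
    · rw [h3, h4, mul_zero, zero_mul] at h2
      exact absurd h2.symm hD.e_ne_zero
    · rw [h3, h4] at h2
      exact h2

theorem boxMov : BoxMov := by
  intro A _ _ _ F Hh Y 𝒯 c T hT ⟨_, ho⟩ P hP hp hn
  obtain ⟨D, hD, ham⟩ := ho.resolve_left fun h => hn (h.mono hP)
  let f : Aˣ → A → A := fun g x => ((g⁻¹ : Aˣ) : A) * x * g
  have f1 : ∀ x, f 1 x = x := fun x => by simp [f]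
  have fm : ∀ a b x, f (a * b) x = f b (f a x) := fun a b x => by simp only [f, mul_inv_rev, Units.val_mul, mul_assoc]
  obtain ⟨p, hpP, q, hqP, h1, h2, h3⟩ : ∃ p ∈ P, ∃ q ∈ P, f p D.e ≠ D.e ∧ f q D.e ≠ D.e ∧ f p D.e ≠ f q D.e := by
    by_contra h1
    push Not at h1
    have h2 := fix_of_two hp f f1 fm h1
    have h3 : ∀ a ∈ P, ∀ t ∈ Cam.cj a T, ((t : A) - 1) * D.e = t - 1 := fun a ha t ht => by
      have h4 := congrArg (fun x => ((a⁻¹ : Aˣ) : A) * x * a) (hD.sub_mul (mem_cj.1 ht))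
      simp only [Units.val_mul, sub_mul, mul_sub, mul_assoc, Units.inv_mul_cancel_left, Units.inv_mul, mul_one,
        one_mul] at h4
      have h5 := h2 a ha
      simp only [f, mul_assoc] at h5
      rw [h5] at h4
      rw [sub_mul, one_mul, h4]
    exact hn (nm_of_cj (fix_of_two hp Cam.cj cj_one (fun a b x => (cj_cj a b x).symm) fun a ha b hb h4 h5 =>
      ham _ (c.inv a (hP ha) T hT) _ (c.inv b (hP hb) T hT) (h3 a ha) (h3 b hb) h4 h5))
  have h4 : D.e * f q D.e = 0 := (orth c hT hD (hP hqP)).resolve_left h2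
  have h5 : D.e * f p D.e = 0 := (orth c hT hD (hP hpP)).resolve_left h1
  have h6 : D.e * p * f q D.e = 0 := by
    have h7 : D.e * f (q * p⁻¹) D.e = 0 := (orth c hT hD (hP (mul_mem hqP (inv_mem hpP)))).resolve_left fun h7 => h3 (by
      have h8 := congrArg (f p) (show f (q * p⁻¹) D.e = D.e from h7)
      rw [← fm, inv_mul_cancel_right] at h8
      exact h8.symm)
    have h8 := congrArg (· * (p : A)) h7
    simp only [f, mul_inv_rev, inv_inv, Units.val_mul, mul_assoc, Units.inv_mul, mul_one, zero_mul] at h8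
    simpa only [f, mul_assoc] using h8
  have h7 : ∀ g : Aˣ, D.e * g * f g D.e = D.e * g := fun g => by
    simp only [f, mul_assoc, Units.mul_inv_cancel_left]
    rw [← mul_assoc, D.idem]
  let φ : ImI T → ImI P := fun x => ⟨x.1 * ((p : A) - 1), Ideal.mul_mem_left _ _ (sub_one_mem_ImI hpP)⟩
  have h8 : ∀ x : ImI T, x.1 * D.e = x.1 := fun x => by
    obtain ⟨b, hb⟩ := Ideal.mem_span_singleton'.1 (hD.ImI_le x.2)
    rw [← hb, mul_assoc, D.idem]
  have := Fintype.ofFinite (ImI T)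
  have := Fintype.ofFinite (ImI P)
  rw [Nat.card_eq_fintype_card, Nat.card_eq_fintype_card]
  refine Fintype.card_lt_of_injective_of_notMem φ (fun x y hxy => ?_)
    (b := ⟨D.e * ((q : A) - 1), Ideal.mul_mem_left _ _ (sub_one_mem_ImI hqP)⟩) ?_
  · have h9 : ∀ x : ImI T, x.1 * ((p : A) - 1) * f p D.e = x.1 * p := fun x => by
      rw [← h8 x, mul_assoc x.1, mul_assoc x.1, mul_sub, sub_mul, mul_one, h7, h5, sub_zero, mul_assoc]
    have h10 := congrArg (fun z : ImI P => z.1 * f p D.e) hxy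
    simp only [φ, h9] at h10
    exact Subtype.ext ((Units.mul_left_inj p).1 h10)
  · rintro ⟨x, hx⟩
    have h9 := congrArg (fun z : ImI P => z.1 * f q D.e) hx
    simp only [φ] at h9
    rw [← h8 x, mul_assoc x.1, mul_assoc x.1, mul_sub, sub_mul, mul_one, h6, h4, sub_zero, mul_zero, mul_sub, sub_mul,
      mul_one, h7, h4, sub_zero, eq_comm, Units.mul_left_eq_zero] at h9
    exact hD.e_ne_zero h9

end Cfsg.Agent.Cam.Cl.Mov
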