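import Cfsg.Agent.Cam.Cl.O2c

/-!
# Classical rows of S3689: the box `O2` (helper53)
-/

set_option autoImplicit false
set_option linter.unusedSectionVars false

namespace Cfsg.Agent.Cam.Cl.Ot

open Cfsg Cfsg.Agent.DS.Cl QuadraticMap Cfsg.Agent.LieClassical.OrthCore Cfsg.Agent.LieClassical.OrthTrans Module
  Cfsg.Agent.Cam.Cl.JB
open scoped commutatorElement

variable {A : Type} [Ring A] [StarRing A] [Finite A] {K V : Type} [Field K] [AddCommGroup V] [Module K V] [Finite K]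
  [Finite V] {F : FR A} {Q : QuadraticForm K V} {e : A ≃+* End K V} {Hh Y : Subgroup Aˣ} {𝒯 : Set (Subgroup Aˣ)}
  {w : V} {ε : A}

theorem H_le_St (c : Loc F Hh Y 𝒯) : Hh ≤ St F e (Cv e Y) :=
  mem_St (c.le.trans (Dr_le F)) fun _ hz _ hx => OD.inv_Y c hz hx

theorem exists_moved {T : Subgroup Aˣ} (hT : T ∈ 𝒯) (h1 : T ∉ T1 e Y 𝒯) : ∃ t ∈ T, ∃ x ∈ Cv e Y, e (t : A) x ≠ x := by
  by_contra h2
  push Not at h2
  exact h1 ⟨hT, h2⟩

theorem OD.ro_mem_ImI (h : OD F Q e) {Z : Subgroup Aˣ} (hZ : ∀ z ∈ Z, (z : A) * star (z : A) = 1) {x : V}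
    (hx : x ∈ Iv e Z) (y : V) : ro e Q x y ∈ ImI Z := by
  let W : Submodule K V :=
    { carrier := {x | ro e Q x y ∈ ImI Z}
      add_mem' := fun {a b} ha hb => by
        change _ ∈ ImI Z
        rw [show ro e Q (a + b) y = ro e Q a y + ro e Q b y from ext_ap e fun v => by
          rw [ap_add, ro_apply, ro_apply, ro_apply, polar_add_left, add_smul]]
        exact add_mem ha hb
      zero_mem' := by
        change _ ∈ ImI Z
        rw [show ro e Q 0 y = 0 from ext_ap e fun v => by rw [ro_apply, polar_zero_left, zero_smul, ap_zero]]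
        exact zero_mem _
      smul_mem' := fun c a ha => by
        change _ ∈ ImI Z
        rw [show ro e Q (c • a) y = e.symm (c • 1) * ro e Q a y from ext_ap e fun v => by
          rw [ap_mul, ro_apply, ro_apply, polar_smul_left, RingEquiv.apply_symm_apply, smul_assoc]; rfl]
        exact Ideal.mul_mem_left _ _ ha }
  refine (Iv_le (W := W) fun z hz v => ?_) hx
  change _ ∈ ImI Z
  rw [show ro e Q (e (z : A) v - v) y = ro e Q v y * ((z⁻¹ : Aˣ) - 1) from ext_ap e fun u => by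
    rw [ap_mul, ro_apply, ro_apply, polar_sub_left, h.inv_adj (hZ z hz), ap_sub, ap_one, polar_sub_right]]
  exact Ideal.mul_mem_left _ _ (sub_one_mem_ImI (inv_mem hz))

/-- a non-singular radical -/
theorem case_ns (hQS : BoxQS) (c : Loc F Hh Y 𝒯) (p : PD F Q e (Cv e Y) w ε) (hw : Q w ≠ 0) {T : Subgroup Aˣ}
    (hT : T ∈ 𝒯) (h1 : T ∉ T1 e Y 𝒯) : Out F Hh 𝒯 T ∧ ∀ t ∈ T, ∀ x, e (t : A) x - x ∈ Cv e Y := by
  have h := p.od
  have hH := H_le_St (e := e) c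
  have hTS := (c.t_le T hT).trans hH
  have hq := (c.mem T hT).qs
  have hA : SS p.D.T := Blk.ss_corner c.ss p.idem p.symm fun h0 => h1 ⟨hT, fun t ht x hx => by
    obtain ⟨d, hd⟩ := p.dec x hx
    rw [hd, h0, ap_zero, zero_add, map_smul, p.fix_w hw (hTS ht)]⟩
  rcases hQS _ hA p.FD with h2 | ⟨h2, h3, -⟩ | ⟨h2 | h2, -⟩
  · exact absurd ⟨hT, p.triv' hw h2 hTS hq.perf⟩ h1
  swap
  · exact absurd rfl h2
  swap
  · exact absurd p.two h2
  have h4 := p.qs hw hA (fun _ hu => h.uw_Y c hu) h2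
  have h5 : ⁅Pw F e (Cv e Y), Pw F e (Cv e Y)⁆ ≤ Hh := fun u hu => h.mem_H c (comm_le_Dr hu) (comm_le_Pw hu).2
  have h6 : Nm (St F e (Cv e Y)) ⁅Pw F e (Cv e Y), Pw F e (Cv e Y)⁆ := nm_Pw.commutator nm_Pw
  have h7 : T = ⁅Pw F e (Cv e Y), Pw F e (Cv e Y)⁆ :=
    (h4.eq_or_cm_of_fam (fun T hT => (c.mem T hT).qs) c.comm (fun g hg => c.inv g (h5 hg)) hT
      (h6.mono hTS)).resolve_right fun h7 => h1 ⟨hT, p.triv hw hA h3 hTS hq.perf h7.symm⟩
  have h8 : T ≤ Pw F e (Cv e Y) := h7 ▸ comm_le_Pw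
  have h9 : Cv e Y ≤ Iv e T := by
    obtain ⟨t, ht, x, y, hy, hxy⟩ : ∃ t ∈ T, ∃ x, ∃ y ∈ Cv e Y, polar Q (e (t : A) x - x) y ≠ 0 := by
      by_contra h9
      push Not at h9
      exact hq.ne_bot (eq_bot_iff.2 fun t ht => h.uw_Y c (c.le (c.t_le T hT ht)) (h8 ht).2 fun x _ => h9 t ht x)
    exact p.le_Iv hw h8 (h7 ▸ h6.mono Pw_le) hq.perf (sub_mem_Iv ht x) hy (by rwa [polar_comm])
  have h10 : Iv e T = Cv e Y := le_antisymm (Iv_le fun t ht => (h8 ht).2) h9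
  have hw0 : w ≠ 0 := fun H => hw (by rw [H, QuadraticMap.map_zero])
  refine ⟨⟨Or.inr ⟨⟨ro e Q w w, h.ro_mem_ImI (fun t ht => (h8 ht).1.1) (h9 p.mem) w, fun t ht => ext_ap e fun x => ?_,
    fun H => ?_⟩, fun P h11 h12 h13 z hz a ha => ?_⟩, Or.inl (h7 ▸ h6.mono hH)⟩, fun t ht => (h8 ht).2⟩
  · rw [ap_mul, ro_apply, ro_apply, polar_comm, h.inv_adj (h8 ht).1.1, p.fix_w hw (inv_mem (hTS ht)), polar_comm]
  · obtain ⟨x, hx⟩ := h.good.nondeg.exists_polar_eq hw0 1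
    have h11 := ro_apply e Q w w x
    rw [H, ap_zero, hx, one_smul] at h11
    exact hw0 h11.symm
  · have h14 := p.triv hw hA h3 (mem_St h11 fun z hz x hx => by
      rw [← h10] at hx ⊢
      exact Iv_inv (h13.nm z hz) hx) h12 (h7 ▸ h13)
    refine (ImI_le (I := FixI P) fun t ht z hz => ext_ap e fun x => ?_) ha z hz
    have h15 := h.fix_of_perp (h8 ht).1.1 (h8 ht).2 fun y hy => h.sub_perp (h11 hz).1 (h14 z hz y hy) x
    rw [map_sub] at h15
    rw [ap_mul, ap_sub, ap_sub, ap_one, ap_one, sub_eq_sub_iff_sub_eq_sub, h15]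

/-- a non-degenerate fixed space -/
theorem case_nd (hPc : BoxPc) (c : Loc F Hh Y 𝒯) (p : PD F Q e (Cv e Y) 0 ε) {T : Subgroup Aˣ}
    (hT : T ∈ 𝒯) (h1 : T ∉ T1 e Y 𝒯) : Out F Hh 𝒯 T ∧ ∀ t ∈ T, ∀ x, e (t : A) x - x ∈ Cv e Y := by
  have h := p.od
  have hH := H_le_St (e := e) c
  have hfix : ∀ x ∈ Cv e Y, e ε x = x := fun x hx => by
    obtain ⟨d, hd⟩ := p.dec x hx
    rw [smul_zero, add_zero] at hd
    exact hd.symm
  have h2 : ∀ u ∈ St F e (Cv e Y), ε * u * ε = u * ε := fun u hu => ext_ap e fun x => by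
    rw [ap_mul, ap_mul, ap_mul, hfix _ (hu.2.1 _ (p.im x))]
  have h3 : ∀ u ∈ St F e (Cv e Y), (u : A) * ε = ε * u := fun u hu => by
    have h3 := congrArg star (h2 _ (inv_mem hu))
    rw [star_mul, star_mul, star_mul, p.symm, star_eq_inv hu.1.1, star_star, ← mul_assoc, h2 u hu] at h3
    exact h3
  have h4 : ∀ y ∈ Y, (y : A) * ε = ε := fun y hy => ext_ap e fun x => by rw [ap_mul, p.im x y hy]
  obtain ⟨t, ht, x, hx, htx⟩ := exists_moved hT h1
  have h5 : (t : A) * ε ≠ ε := fun H => htx (by rw [← hfix x hx, ← ap_mul, H])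
  obtain ⟨h6, h7, D', h8, h9, h10⟩ := hPc A F Hh Y 𝒯 c (BD.corner c.ss F ε p.idem p.symm).toBlk
    (BD.corner c.ss F ε p.idem p.symm).fr
    (Blk.ss_corner c.ss p.idem p.symm fun H => h5 (by rw [H, mul_zero]))
    (fun z hz => ⟨by change ε * (z * ε) = z * ε; rw [← cen_comm hz, ← mul_assoc, p.idem],
      by change z * ε * ε = z * ε; rw [mul_assoc, p.idem]⟩)
    (fun u hu v hv => h.mem_Iso fun x => by
      suffices key : ∀ a : A, ε * a = a → star a * a = ε → a * (ε * F.l * ε) * star a - ε * F.l * ε ∈ F.L →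
          (v : A) = a + (1 - ε) → Q (e v x) = Q x from
        key _ ((BD.corner c.ss F ε p.idem p.symm).toBlk.val_mem u).1
          (congrArg (BD.corner c.ss F ε p.idem p.symm).toBlk.val (FR.Iso.sm hu)) hu.2 hv
      intro a a1 a3 a4 hv
      have a5 := h.mem_L.1 a4 (e a x)
      have a6 : e ε (e a x) = e a x := by rw [← ap_mul, a1]
      rw [ap_sub, polar_sub_right, ap_mul, ← ap_mul e (star a), a3, ap_mul, h.adj, ← ap_mul e (star a), a3] at a5
      simp only [ap_mul, p.ee, a6, ← p.adj, h.lq, sub_eq_zero] at a5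
      have a7 : ∀ z, polar Q (e ε z) (x - e ε x) = 0 := fun z => by rw [p.adj, map_sub, p.ee, sub_self, polar_zero_right]
      rw [hv, ap_add, ap_sub, ap_one, Q_add, ← a5, ← a6, a7, ← a7 x, ← Q_add, add_sub_cancel])
    (fun y hy x hx => by
      rw [← hx.1, ← mul_assoc, h4 y hy, hx.1, ← hx.2, mul_assoc, ← h3 y (hH (c.y_le hy)), h4 y hy])
    (fun T hT t ht => by
      have a1 := hH (c.t_le T hT ht)
      refine ⟨h3 t a1, p.pi ⟨t, a1⟩, ⟨p.pi_ms _, ?_⟩, h2 t a1⟩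
      change ε * t * ε * (ε * F.l * ε) * star (ε * t * ε) - ε * F.l * ε ∈ F.L
      have a2 := F.conj_mem a1.1.2 ε
      convert a2 using 1
      rw [h2 t a1, star_mul, p.symm, mul_sub, sub_mul, mul_assoc (t : A) ε, ← mul_assoc ε, ← mul_assoc ε, p.idem,
        ← mul_assoc (t : A), ← mul_assoc (t : A), h3 t a1, mul_assoc _ ε (ε * _), ← mul_assoc ε ε, p.idem,
        ← star_eq_inv a1.1.1, ← h3 _ (inv_mem a1)]
      simp only [mul_assoc])
    T hT ⟨t, ht, h5⟩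
  change D'.e = ε at h9
  refine ⟨⟨Or.inl ⟨D', h8, h7, ?_⟩, Or.inr ⟨D', h8, h9 ▸ h6⟩⟩, fun t ht x => ?_⟩
  · rw [h9]
    refine h10.symm.imp (fun h11 z z' hz hz' => ?_) id
    have h12 : ∀ z : A, (∀ t ∈ T, z * t = t * z) → z * ε = ε * z := fun z hz => h9 ▸ h8.comm hz D'.e_mem
    have h13 : ∀ z : A, (∀ t ∈ T, z * t = t * z) → z * ε ∈ (BD.corner c.ss F ε p.idem p.symm).car := fun z hz =>
      ⟨by rw [← mul_assoc, ← h12 z hz, mul_assoc, p.idem], by rw [mul_assoc, p.idem]⟩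
    have h14 := h11.2 _ (h13 z hz) (fun t ht => by
      rw [mul_assoc, ← h3 t (hH (c.t_le T hT ht)), ← mul_assoc, hz t ht, mul_assoc]) _ (h13 z' hz')
    rwa [mul_assoc z ε, (h13 z' hz').1, mul_assoc z' ε, (h13 z hz).1, ← mul_assoc, ← mul_assoc] at h14
  · have h11 := congrArg (fun a => e a x) (h8.mul_sub ht)
    simp only [h9, ap_mul, ap_sub, ap_one] at h11
    exact h11 ▸ p.im _

theorem case_T2 (hPc : BoxPc) (hQS : BoxQS) (h : OD F Q e) (c : Loc F Hh Y 𝒯) {T : Subgroup Aˣ} (hT : T ∈ 𝒯)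
    (h1 : T ∉ T1 e Y 𝒯) : Out F Hh 𝒯 T ∧ ∀ t ∈ T, ∀ x, e (t : A) x - x ∈ Cv e Y := by
  rcases h.radC_Y c with h2 | ⟨a, h2⟩ | ⟨w, h2, h3, h4, h5⟩
  · obtain ⟨ε, p⟩ := h.exists_pd (zero_mem (Cv e Y)) (fun x _ => polar_zero_left Q x) fun x hx hx' =>
      ⟨0, by rw [h2 x hx hx', smul_zero]⟩
    exact case_nd hPc c p hT h1
  · refine absurd ⟨hT, fun t ht x hx => ?_⟩ h1
    have hH := H_le_St (e := e) c
    let φ : Aˣ → Function.End V := fun u x => by classical exact if x ∈ Cv e Y then e (u : A) x else x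
    have h3 : ∀ u, ∀ x ∈ Cv e Y, φ u x = e (u : A) x := fun u x hx => if_pos hx
    have h4 : ∀ u, ∀ x, x ∉ Cv e Y → φ u x = x := fun u x hx => if_neg hx
    have h5 : ∀ u ∈ T, ∀ v ∈ T, ∀ x ∈ Cv e Y, (φ u * φ v) x = e (u : A) (e (v : A) x) := fun u _ v hv x hx => by
      change φ u (φ v x) = _
      rw [h3 v x hx, h3 u _ ((hH (c.t_le T hT hv)).2.1 x hx)]
    have h6 : ∀ u v, ∀ x, x ∉ Cv e Y → (φ u * φ v) x = x := fun u v x hx => by
      change φ u (φ v x) = _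
      rw [h4 v x hx, h4 u x hx]
    have h7 := eq_one_of_perf (c.mem T hT).qs.perf φ (funext fun x => by
      by_cases hx : x ∈ Cv e Y
      · rw [h3 _ x hx, ap_uone]; rfl
      · exact h4 _ x hx) (fun u hu v hv => funext fun x => by
      by_cases hx : x ∈ Cv e Y
      · rw [h3 _ x hx, h5 u hu v hv x hx, ap_umul]
      · rw [h4 _ x hx, h6 u v x hx]) (fun u hu v hv => funext fun x => by
      by_cases hx : x ∈ Cv e Y
      · rw [h5 u hu v hv x hx, h5 v hv u hu x hx]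
        by_cases h0 : x = 0
        · simp only [h0, map_zero]
        obtain ⟨d, hd⟩ := h2 x hx
        have h8 : ∀ s ∈ T, ∃ k : K, e (s : A) x = k • x := fun s hs => by
          obtain ⟨k, hk⟩ := h2 _ ((hH (c.t_le T hT hs)).2.1 x hx)
          have h9 : d ≠ 0 := fun H => h0 (by rw [hd, H, zero_smul])
          exact ⟨k * d⁻¹, by rw [hk, mul_smul, hd, inv_smul_smul₀ h9]⟩
        obtain ⟨k, hk⟩ := h8 u hu
        obtain ⟨k', hk'⟩ := h8 v hv
        rw [hk, hk', map_smul, map_smul, hk, hk', smul_comm]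
      · rw [h6 u v x hx, h6 v u x hx]) t ht
    rw [← h3 t x hx, h7]
    rfl
  · obtain ⟨ε, p⟩ := h.exists_pd h2 h3 h5
    exact case_ns hQS c p h4 hT h1

/-- **The box `O2`.** -/
theorem boxO2 (h1 : BoxBk) (h2 : BoxPc) (h3 : BoxQS) : BoxO2 := by
  rintro A _ _ _ F Hh Y 𝒯 c ⟨K, V, _, _, _, _, _, Q, e, a1, a2, a3, a4, a5⟩ T hT
  have h : OD F Q e := ⟨a1, a2, a3, a4, a5⟩
  by_cases h4 : T ∈ T1 e Y 𝒯
  · have h5 := fun T hT h5 => (case_T2 h2 h3 h c (T := T) hT h5).2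
    have h6 := h.semisimple c h5
    obtain ⟨h7, h8⟩ := h1 A F Hh Y 𝒯 _ c OD.T1_sub (fun T hT h7 t ht a ha => ext_ap e fun x => by
      have h8 := ImI_kill ha (OD.Cv_le_T1 (h5 T hT h7 t ht x))
      rw [map_sub, sub_eq_zero] at h8
      rw [ap_mul, h8]) h6 (h.iso_of_Bd c h6) T h4
    exact ⟨Or.inl h7, Or.inr h8⟩
  · exact (case_T2 h2 h3 h c hT h4).1

end Cfsg.Agent.Cam.Cl.Ot
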