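import Cfsg.Agent.Cam.Cl.Base
import Cfsg.Agent.DS.Cl.ModO

/-!
# Classical rows of S3689, orthogonal groups in characteristic two: vectors (helper53)
-/

set_option autoImplicit false
set_option linter.unusedSectionVars false

namespace Cfsg.Agent.Cam.Cl.Ot

open Cfsg Cfsg.Agent.DS.Cl QuadraticMap Cfsg.Agent.LieClassical.OrthCore Cfsg.Agent.LieClassical.OrthTrans Module

variable {A : Type} [Ring A] [StarRing A] {K V : Type} [Field K] [AddCommGroup V] [Module K V]

/-- the data of `O2 F` -/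
structure OD (F : FR A) (Q : QuadraticForm K V) (e : A ≃+* End K V) : Prop where
  good : Good Q
  two : (2 : K) = 0
  lmin : F.L = Lmin A
  adj : ∀ a u v, polar Q (e a u) v = polar Q u (e (star a) v)
  lq : ∀ v, polar Q v (e F.l v) = Q v

section ap

variable (e : A ≃+* End K V)

theorem ext_ap {a b : A} (h : ∀ x, e a x = e b x) : a = b := e.injective (LinearMap.ext h)

theorem ap_mul (a b : A) (x : V) : e (a * b) x = e a (e b x) := by rw [map_mul]; rfl

theorem ap_one (x : V) : e 1 x = x := by rw [map_one]; rfl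

theorem ap_zero (x : V) : e 0 x = 0 := by rw [map_zero]; rfl

theorem ap_add (a b : A) (x : V) : e (a + b) x = e a x + e b x := by rw [map_add]; rfl

theorem ap_sub (a b : A) (x : V) : e (a - b) x = e a x - e b x := by rw [map_sub]; rfl

theorem ap_inv_ap (u : Aˣ) (x : V) : e (u⁻¹ : Aˣ) (e u x) = x := by rw [← ap_mul, Units.inv_mul, ap_one]

theorem ap_ap_inv (u : Aˣ) (x : V) : e u (e (u⁻¹ : Aˣ) x) = x := by rw [← ap_mul, Units.mul_inv, ap_one]

theorem ap_umul (u v : Aˣ) (x : V) : e (u * v : Aˣ) x = e u (e v x) := by rw [Units.val_mul, ap_mul]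

theorem ap_uone (x : V) : e (1 : Aˣ) x = x := by rw [Units.val_one, ap_one]

/-- units as linear equivalences -/
noncomputable def le : Aˣ ≃* (V ≃ₗ[K] V) :=
  (Units.mapEquiv e.toMulEquiv).trans (LinearMap.GeneralLinearGroup.generalLinearEquiv K V)

theorem le_apply (u : Aˣ) (v : V) : le e u v = e u v := rfl

theorem le_symm_apply (g : V ≃ₗ[K] V) (v : V) : e ((le e).symm g : Aˣ) v = g v := by
  rw [← le_apply, MulEquiv.apply_symm_apply]

/-- the map `x ↦ f(a, x) z` -/
noncomputable def ro (Q : QuadraticForm K V) (a z : V) : A := e.symm ((polarBilin Q a).smulRight z)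

theorem ro_apply (Q : QuadraticForm K V) (a z x : V) : e (ro e Q a z) x = polar Q a x • z := by
  rw [ro, RingEquiv.apply_symm_apply]; rfl

/-- the fixed space -/
def Cv (Z : Subgroup Aˣ) : Submodule K V where
  carrier := {v | ∀ z ∈ Z, e (z : A) v = v}
  add_mem' := fun {a b} ha hb z hz => by rw [map_add, ha z hz, hb z hz]
  zero_mem' := fun z _ => map_zero _
  smul_mem' := fun c a ha z hz => by rw [map_smul, ha z hz]

/-- the commutator space -/
def Iv (Z : Subgroup Aˣ) : Submodule K V := Submodule.span K {v | ∃ z ∈ Z, ∃ x, v = e (z : A) x - x}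

variable {e}

theorem mem_Cv {Z : Subgroup Aˣ} {v : V} : v ∈ Cv e Z ↔ ∀ z ∈ Z, e (z : A) v = v := Iff.rfl

theorem sub_mem_Iv {Z : Subgroup Aˣ} {z : Aˣ} (hz : z ∈ Z) (x : V) : e (z : A) x - x ∈ Iv e Z :=
  Submodule.subset_span ⟨z, hz, x, rfl⟩

theorem Iv_le {Z : Subgroup Aˣ} {W : Submodule K V} (h : ∀ z ∈ Z, ∀ x, e (z : A) x - x ∈ W) : Iv e Z ≤ W := by
  rw [Iv, Submodule.span_le]
  rintro _ ⟨z, hz, x, rfl⟩
  exact h z hz x

theorem Cv_inv {Z : Subgroup Aˣ} {h : Aˣ} (hn : ∀ z ∈ Z, h⁻¹ * z * h ∈ Z) {x : V} (hx : x ∈ Cv e Z) :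
    e (h : A) x ∈ Cv e Z := fun z hz => by
  have h1 := congrArg (e (h : A)) (hx _ (hn z hz))
  rwa [ap_umul, ap_umul, ap_ap_inv] at h1

theorem Iv_inv {Z : Subgroup Aˣ} {h : Aˣ} (hn : ∀ z ∈ Z, h * z * h⁻¹ ∈ Z) {x : V} (hx : x ∈ Iv e Z) :
    e (h : A) x ∈ Iv e Z := by
  refine (Iv_le (W := (Iv e Z).comap (e (h : A))) fun z hz y => ?_) hx
  have h1 := sub_mem_Iv (e := e) (hn z hz) (e (h : A) y)
  rw [ap_umul, ap_umul, ap_inv_ap] at h1
  rwa [Submodule.mem_comap, map_sub]

theorem ImI_kill {Z : Subgroup Aˣ} {a : A} (ha : a ∈ ImI Z) {x : V} (hx : x ∈ Cv e Z) : e a x = 0 := by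
  let I : Ideal A :=
    { carrier := {a | e a x = 0}
      add_mem' := fun {a b} (ha : e a x = 0) (hb : e b x = 0) => by
        change e (a + b) x = 0
        rw [ap_add, ha, hb, add_zero]
      zero_mem' := ap_zero e x
      smul_mem' := fun c a (ha : e a x = 0) => by
        change e (c * a) x = 0
        rw [ap_mul, ha, map_zero] }
  refine (ImI_le (I := I) fun t ht => ?_) ha
  change e ((t : A) - 1) x = 0
  rw [ap_sub, hx t ht, ap_one, sub_self]

end ap

namespace OD

variable {F : FR A} {Q : QuadraticForm K V} {e : A ≃+* End K V} (h : OD F Q e)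
include h

theorem ext_f {x x' : V} (H : ∀ y, polar Q x y = polar Q x' y) : x = x' :=
  sub_eq_zero.1 (h.good.nondeg _ fun y => by rw [polar_sub_left, H, sub_self])

theorem self (x : V) : polar Q x x = 0 := by rw [polar_self', h.two, zero_mul]

theorem kadd (c : K) : c + c = 0 := by rw [← two_mul, h.two, zero_mul]

theorem vadd (x : V) : x + x = 0 := by rw [← two_smul K, h.two, zero_smul]

theorem aadd (a : A) : a + a = 0 := ext_ap e fun x => by rw [ap_add, h.vadd, ap_zero]

theorem ksub (c d : K) : c - d = c + d := by rw [sub_eq_add_neg, neg_eq_of_add_eq_zero_left (h.kadd d)]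

theorem vsub (x y : V) : x - y = x + y := by rw [sub_eq_add_neg, neg_eq_of_add_eq_zero_left (h.vadd y)]

theorem asub (a b : A) : a - b = a + b := by rw [sub_eq_add_neg, neg_eq_of_add_eq_zero_left (h.aadd b)]

theorem two_A : (2 : A) = 0 := by rw [← one_add_one_eq_two, h.aadd]

theorem adj' (a : A) (u v : V) : polar Q (e (star a) u) v = polar Q u (e a v) := by rw [h.adj, star_star]

theorem star_ro (a z : V) : star (ro e Q a z) = ro e Q z a := ext_ap e fun x => h.ext_f fun y => by
  rw [h.adj', ro_apply, ro_apply, polar_smul_left, polar_smul_right, smul_eq_mul, smul_eq_mul, polar_comm Q x z, mul_comm]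

theorem iso_polar {u : A} (hu : star u * u = 1) (x y : V) : polar Q (e u x) (e u y) = polar Q x y := by
  rw [h.adj, ← ap_mul, hu, ap_one]

theorem inv_adj {u : Aˣ} (hu : (u : A) * star (u : A) = 1) (x y : V) :
    polar Q (e u x) y = polar Q x (e (u⁻¹ : Aˣ) y) := by rw [h.adj, star_eq_inv hu]

variable [Finite K] [Finite V]

theorem sqrt (c : K) : ∃ a, a * a = c := by
  have h1 : Function.Injective fun a : K => a * a := fun a b (H : a * a = b * b) => by
    have h2 : (a + b) * (a + b) = 0 := by linear_combination H + (a * b + b * b) * h.two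
    rw [← sub_eq_zero, h.ksub]
    exact mul_self_eq_zero.1 h2
  exact Finite.injective_iff_surjective.1 h1 c

theorem mem_L {x : A} : x ∈ F.L ↔ ∀ v, polar Q v (e x v) = 0 := by
  rw [h.lmin]
  constructor
  · rintro ⟨a, rfl⟩ v
    rw [ap_sub, polar_sub_right, ← h.adj, polar_comm, sub_self]
  · intro H
    obtain ⟨a, ha⟩ := (Fwd.mem_Lmin_iff Q h.good.nondeg ((Fwd.orH Q h.good.nondeg).eb (e x))).2 H
    refine ⟨e.symm ((Fwd.orH Q h.good.nondeg).ap a), ext_ap e fun v => ?_⟩
    have h1 : e x v = (Fwd.orH Q h.good.nondeg).ap (a - star a) v := by rw [← ha]; rfl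
    rw [h1, Fwd.HF.ap_sub, ap_sub, RingEquiv.apply_symm_apply]
    congr 1
    refine h.ext_f fun y => ?_
    rw [h.adj', RingEquiv.apply_symm_apply]
    exact (Fwd.orH Q h.good.nondeg).star_b a v y

theorem iso_Q {u : Aˣ} (hu : u ∈ F.Iso) (v : V) : Q (e u v) = Q v := by
  have h1 := h.mem_L.1 hu.2 (e u v)
  rw [ap_sub, polar_sub_right, h.lq, ap_mul, ap_mul, ← ap_mul e (star (u : A)), FR.Iso.sm hu, ap_one,
    h.iso_polar (FR.Iso.sm hu), h.lq, sub_eq_zero] at h1
  exact h1.symm

theorem mem_Iso {u : Aˣ} (hu : ∀ v, Q (e u v) = Q v) : u ∈ F.Iso := by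
  have h1 : star (u : A) * u = 1 := ext_ap e fun x => h.ext_f fun y => by
    rw [ap_mul, h.adj', ap_one]
    simp only [polar, ← map_add, hu]
  have h2 : (u : A) * star (u : A) = 1 := by
    rw [← mul_one (star (u : A)), ← u.mul_inv, ← mul_assoc (star (u : A)), h1, one_mul, u.mul_inv]
  refine ⟨h2, h.mem_L.2 fun v => ?_⟩
  rw [ap_sub, polar_sub_right, h.lq, ap_mul, ap_mul, ← h.adj', h.lq, ← hu, ← ap_mul, h2, ap_one, sub_self]

theorem mem_Dr {g : V ≃ₗ[K] V} (hg : g ∈ E Q) : (le e).symm g ∈ Dr F := by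
  have h1 : (O Q).map (le e).symm.toMonoidHom ≤ F.Iso := by
    rintro _ ⟨g, hg, rfl⟩
    exact h.mem_Iso fun v => by rw [MulEquiv.coe_toMonoidHom, le_symm_apply]; exact hg v
  refine Subgroup.commutator_mono h1 h1 ?_
  rw [← Subgroup.map_commutator, h.good.commutator_eq_E]
  exact ⟨g, hg, rfl⟩

theorem exists_siegel {a b : V} (ha : Q a = 0) (hb : polar Q a b = 0) : ∃ u ∈ Dr F, ∀ x,
    e (u : A) x = x + polar Q a x • b - polar Q b x • a - (Q b * polar Q a x) • a :=
  ⟨_, h.mem_Dr (siegel_mem_E ha hb), fun x => by rw [le_symm_apply, siegel_apply]⟩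

theorem exists_refl {v : V} (hv : Q v ≠ 0) : ∃ u ∈ F.Iso, ∀ x, e (u : A) x = x - ((Q v)⁻¹ * polar Q v x) • v :=
  ⟨(le e).symm (refl Q v hv), h.mem_Iso fun x => by rw [le_symm_apply]; exact refl_mem_O hv x,
    fun x => by rw [le_symm_apply, refl_apply]⟩

/-- an alternating map with totally singular image is a product of Siegel maps, up to `1` -/
theorem lemK (s : A) (hs : star s = s) (h1 : ∀ v, polar Q v (e s v) = 0) (h2 : ∀ v, Q (e s v) = 0) :
    ∃ u ∈ Dr F, (u : A) = 1 + s := by
  have : Module.Finite K V := Module.Finite.of_finite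
  induction hn : finrank K V - finrank K (LinearMap.ker (e s)) using Nat.strong_induction_on generalizing s with
  | _ n ih =>
  by_cases h0 : s = 0
  · exact ⟨1, one_mem _, by rw [h0, add_zero, Units.val_one]⟩
  obtain ⟨v, hv⟩ : ∃ v, e s v ≠ 0 := by
    by_contra h3
    push Not at h3
    exact h0 (ext_ap e fun x => by rw [h3, ap_zero])
  obtain ⟨u, hu⟩ := h.good.nondeg.exists_polar_eq hv 1
  have hsym : ∀ x y, polar Q (e s x) y = polar Q x (e s y) := fun x y => by rw [h.adj, hs]
  have hss : ∀ x y, polar Q (e s x) (e s y) = 0 := fun x y => by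
    have h3 := h2 (x + y)
    rwa [map_add, Q_add, h2, h2, zero_add, zero_add] at h3
  have hs2 : ∀ x, e s (e s x) = 0 := fun x => h.ext_f fun y => by rw [hsym, hss, polar_zero_left]
  let r : A := ro e Q (e s u) (e s v) + ro e Q (e s v) (e s u)
  have hr : ∀ x, e r x = polar Q (e s u) x • e s v + polar Q (e s v) x • e s u := fun x => by
    rw [ap_add, ro_apply, ro_apply]
  obtain ⟨ρ, hρ, hρ'⟩ := h.exists_siegel (h2 u) (hss u v)
  have hρr : (ρ : A) = 1 + r := ext_ap e fun x => by
    rw [hρ', h2, zero_mul, zero_smul, sub_zero, h.vsub, ap_add, ap_one, hr, add_assoc]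
  have hlt : LinearMap.ker (e s) < LinearMap.ker (e (s + r)) := by
    refine lt_of_le_of_ne (fun x hx => ?_) fun H => ?_
    · rw [LinearMap.mem_ker] at hx ⊢
      rw [ap_add, hr, hsym, hsym, hx, polar_zero_right, polar_zero_right, zero_smul, zero_smul, add_zero, add_zero]
    · have h3 : u ∈ LinearMap.ker (e (s + r)) := by
        rw [LinearMap.mem_ker, ap_add, hr, hu, polar_comm, h1, zero_smul, zero_add, one_smul, h.vadd]
      rw [← H, LinearMap.mem_ker] at h3
      rw [hsym, h3, polar_zero_right] at hu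
      exact zero_ne_one hu
  obtain ⟨w, hw, hw'⟩ := ih _ (by
      have h3 := Submodule.finrank_lt_finrank_of_lt hlt
      have h4 := Submodule.finrank_le (LinearMap.ker (e (s + r)))
      omega) (s + r) (by rw [star_add, hs, star_add, h.star_ro, h.star_ro, add_comm (ro _ _ _ _)])
    (fun x => by
      rw [ap_add, hr, polar_add_right, h1, polar_add_right, polar_smul_right, polar_smul_right, polar_comm Q x,
        polar_comm Q x, smul_eq_mul, smul_eq_mul, mul_comm, h.kadd, add_zero])
    (fun x => by rw [ap_add, hr, ← map_smul, ← map_smul, ← map_add, ← map_add, h2]) rfl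
  refine ⟨w * ρ, mul_mem hw hρ, ext_ap e fun x => ?_⟩
  have h3 : e (s + r) (e r x) = 0 := by
    rw [ap_add, hr (e r x), hr x, ← map_smul, ← map_smul, ← map_add, hs2, hss, hss, zero_smul, zero_smul, add_zero,
      add_zero]
  rw [ap_umul, hw', hρr, ap_add e 1 r, ap_one, ap_add e 1, ap_one, map_add (e (s + r)), h3, add_zero, ap_add e s,
    ap_add e 1, ap_one, add_assoc, add_comm (e s x), ← add_assoc (e r x), h.vadd, zero_add]

/-- the orthogonal complement of the fixed space is the commutator space -/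
theorem mem_Iv {Z : Subgroup Aˣ} (hZ : ∀ z ∈ Z, (z : A) * star (z : A) = 1) {x : V}
    (hx : ∀ y ∈ Cv e Z, polar Q y x = 0) : x ∈ Iv e Z := by
  have : Module.Finite K V := Module.Finite.of_finite
  have hQ := h.good.nondeg
  have hn : (polarBilin Q).Nondegenerate :=
    ⟨fun x hx => hQ x hx, fun x hx => hQ x fun y => by rw [polar_comm]; exact hx y⟩
  have hr : (polarBilin Q).IsRefl := fun x y H => by
    change polar Q y x = 0
    rw [polar_comm]; exact H
  rw [← LinearMap.BilinForm.orthogonal_orthogonal hn hr (Iv e Z)]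
  intro y hy
  refine hx y fun z hz => h.ext_f fun v => ?_
  have h1 : polar Q (e (z⁻¹ : Aˣ) v - v) y = 0 := hy _ (sub_mem_Iv (inv_mem hz) v)
  rw [polar_sub_left, sub_eq_zero, polar_comm] at h1
  rw [h.inv_adj (hZ z hz), h1, polar_comm]

/-- the difference of two invariant forms with the same polar form vanishes on the commutator space -/
theorem q_eq {Z : Subgroup Aˣ} (hZ : Z ≤ F.Iso) {a b : A} (hab : ∀ x y, polar Q (e a x) (e a y) = polar Q (e b x) (e b y))
    (ha : ∀ z ∈ Z, (z : A) * a = a * z) (hb : ∀ z ∈ Z, (z : A) * b = b * z) {x : V} (hx : x ∈ Iv e Z) :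
    Q (e a x) = Q (e b x) := by
  let W : Submodule K V :=
    { carrier := {x | Q (e a x) = Q (e b x)}
      add_mem' := fun {x y} (hx : Q _ = Q _) (hy : Q _ = Q _) => by
        change Q _ = Q _
        rw [map_add (e a), map_add (e b), Q_add, Q_add, hx, hy, hab]
      zero_mem' := by
        change Q _ = Q _
        rw [map_zero (e a), map_zero (e b)]
      smul_mem' := fun c x (hx : Q _ = Q _) => by
        change Q _ = Q _
        rw [map_smul (e a), map_smul (e b), QuadraticMap.map_smul, QuadraticMap.map_smul, hx] }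
  refine (Iv_le (W := W) fun z hz y => ?_) hx
  change Q _ = Q _
  rw [h.vsub, map_add (e a), map_add (e b), Q_add, Q_add, hab, ← ap_mul, ← ha z hz, ← ap_mul e b, ← hb z hz, ap_mul, ap_mul,
    h.iso_Q (hZ hz), h.iso_Q (hZ hz), h.kadd, h.kadd]

/-- the orthogonal projection on a complement of the radical -/
theorem exists_proj (W : Submodule K V) {w : V} (hw : w ∈ W) (hw' : ∀ x ∈ W, polar Q w x = 0)
    (hrad : ∀ x ∈ W, (∀ y ∈ W, polar Q x y = 0) → ∃ c : K, x = c • w) :
    ∃ ε : A, ε * ε = ε ∧ star ε = ε ∧ (∀ x, e ε x ∈ W) ∧ e ε w = 0 ∧ ∀ x ∈ W, ∃ c : K, x = e ε x + c • w := by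
  have : Module.Finite K V := Module.Finite.of_finite
  obtain ⟨U, hU⟩ := Submodule.exists_isCompl (Submodule.span K {w})
  have hdec : ∀ x ∈ W, ∃ y ∈ W ⊓ U, ∃ c : K, x = y + c • w := fun x hx => by
    obtain ⟨a, ha, b, hb, hab⟩ := Submodule.mem_sup.1 (hU.sup_eq_top ▸ Submodule.mem_top : x ∈ _ ⊔ U)
    obtain ⟨c, rfl⟩ := Submodule.mem_span_singleton.1 ha
    refine ⟨b, ⟨?_, hb⟩, c, by rw [← hab, add_comm]⟩
    rw [← sub_eq_iff_eq_add'.2 hab.symm]
    exact sub_mem hx (W.smul_mem c hw)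
  have hr : (polarBilin Q).IsRefl := fun x y H => by
    change polar Q y x = 0
    rw [polar_comm]; exact H
  have hc : IsCompl (W ⊓ U) (LinearMap.BilinForm.orthogonal (polarBilin Q) (W ⊓ U)) := by
    refine LinearMap.BilinForm.isCompl_orthogonal_of_restrict_nondegenerate hr
      (LinearMap.BilinForm.nondegenerate_restrict_of_disjoint_orthogonal _ hr ?_)
    rw [Submodule.disjoint_def]
    intro x hx hx'
    obtain ⟨c, hc⟩ := hrad x hx.1 fun y hy => by
      obtain ⟨y', hy', c, rfl⟩ := hdec y hy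
      have h1 : polar Q y' x = 0 := hx' y' hy'
      rw [polar_add_right, polar_smul_right, polar_comm, h1, polar_comm, hw' x hx.1, smul_zero, add_zero]
    exact Submodule.disjoint_def.1 hU.disjoint x (Submodule.mem_span_singleton.2 ⟨c, hc.symm⟩) hx.2
  let p := Submodule.projection _ _ hc
  have hp1 : ∀ x, p x ∈ W ⊓ U := Submodule.projection_apply_mem hc
  have hp2 : ∀ x ∈ W ⊓ U, p x = x := fun x hx => Submodule.projection_apply_left hc ⟨x, hx⟩
  have hp3 : ∀ x, (∀ y ∈ W ⊓ U, polar Q y x = 0) → p x = 0 := fun x hx => (Submodule.projection_apply_eq_zero_iff hc).2 hx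
  have hp4 : ∀ x y, polar Q (p x) (y - p y) = 0 := fun x y =>
    (Submodule.projection_apply_eq_zero_iff hc).1 (show p (y - p y) = 0 by rw [map_sub, hp2 _ (hp1 y), sub_self]) _ (hp1 x)
  have he : ∀ x, e (e.symm p) x = p x := fun x => by rw [RingEquiv.apply_symm_apply]
  have hpw : p w = 0 := hp3 w fun y hy => by rw [polar_comm, hw' y hy.1]
  refine ⟨e.symm p, ext_ap e fun x => by rw [ap_mul, he, he, hp2 _ (hp1 x)], ext_ap e fun x => h.ext_f fun y => ?_,
    fun x => by rw [he]; exact (hp1 x).1, by rw [he, hpw], fun x hx => ?_⟩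
  · have h1 := hp4 x y
    have h2 := hp4 y x
    rw [polar_sub_right, sub_eq_zero] at h1 h2
    rw [h.adj', he, he, h1, polar_comm, h2, polar_comm]
  · obtain ⟨y, hy, c, rfl⟩ := hdec x hx
    exact ⟨c, by rw [he, map_add, map_smul, hpw, smul_zero, add_zero, hp2 y hy]⟩

end OD

end Cfsg.Agent.Cam.Cl.Ot
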