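import Cfsg.Agent.Cam.Cl.O2a
import Cfsg.Agent.Cam.Cl.J1

/-!
# Classical rows of S3689, orthogonal groups in characteristic two: radicals (helper53)

The radicals of the fixed spaces of `Y` and of `X` have dimension at most one; the ring generated by the members that are
trivial on the fixed space of `Y` is semisimple.
-/

set_option autoImplicit false
set_option linter.unusedSectionVars false

namespace Cfsg.Agent.Cam.Cl.Ot

open Cfsg Cfsg.Agent.DS.Cl QuadraticMap Cfsg.Agent.LieClassical.OrthCore Cfsg.Agent.LieClassical.OrthTrans Module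
  Cfsg.Agent.Cam.Cl.JB
open scoped commutatorElement

variable {A : Type} [Ring A] [StarRing A] [Finite A] {K V : Type} [Field K] [AddCommGroup V] [Module K V] [Finite K]
  [Finite V]

theorem inv_sub_mem {e : A ≃+* End K V} {W : Submodule K V} {u : Aˣ} (hu : ∀ x, e (u : A) x - x ∈ W) (x : V) :
    e (u⁻¹ : Aˣ) x - x ∈ W := by
  have h1 := neg_mem (hu (e (u⁻¹ : Aˣ) x))
  rwa [ap_ap_inv, neg_sub] at h1

theorem inv_fix {e : A ≃+* End K V} {u : Aˣ} {x : V} (hx : e (u : A) x = x) : e (u⁻¹ : Aˣ) x = x := by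
  nth_rewrite 1 [← hx]
  rw [ap_inv_ap]

/-- the members that are trivial on the fixed space of `Y` -/
def T1 (e : A ≃+* End K V) (Y : Subgroup Aˣ) (𝒯 : Set (Subgroup Aˣ)) : Set (Subgroup Aˣ) :=
  {T | T ∈ 𝒯 ∧ ∀ t ∈ T, ∀ x ∈ Cv e Y, e (t : A) x = x}

theorem fix_sSup {e : A ≃+* End K V} {𝒮 : Set (Subgroup Aˣ)} {x : V} (hx : ∀ T ∈ 𝒮, ∀ t ∈ T, e (t : A) x = x) :
    x ∈ Cv e (sSup 𝒮) := by
  let S : Subgroup Aˣ :=
    { carrier := {t | e (t : A) x = x}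
      mul_mem' := fun {a b} (ha : e _ x = x) (hb : e _ x = x) => by
        change e _ x = x
        rw [ap_umul, hb, ha]
      one_mem' := ap_uone e x
      inv_mem' := fun {a} ha => inv_fix ha }
  exact fun t ht => (sSup_le (a := S) fun T hT t ht => hx T hT t ht) ht

/-- the three possibilities for the radical of `W` -/
def RadC (Q : QuadraticForm K V) (W : Submodule K V) : Prop :=
  (∀ x ∈ W, (∀ y ∈ W, polar Q x y = 0) → x = 0) ∨ (∃ a, ∀ b ∈ W, ∃ c : K, b = c • a) ∨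
    ∃ w ∈ W, (∀ x ∈ W, polar Q w x = 0) ∧ Q w ≠ 0 ∧ ∀ x ∈ W, (∀ y ∈ W, polar Q x y = 0) → ∃ c : K, x = c • w

namespace OD

variable {F : FR A} {Q : QuadraticForm K V} {e : A ≃+* End K V} (h : OD F Q e) {Hh Y : Subgroup Aˣ}
  {𝒯 : Set (Subgroup Aˣ)}
include h

theorem fix_of_perp {W : Submodule K V} {u : Aˣ} (h1 : (u : A) * star (u : A) = 1) (hu : ∀ x, e (u : A) x - x ∈ W)
    {y : V} (hy : ∀ x ∈ W, polar Q y x = 0) : e (u : A) y = y := h.ext_f fun v => by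
  rw [h.inv_adj h1, ← sub_eq_zero, ← polar_sub_right]
  exact hy _ (inv_sub_mem hu v)

theorem sub_perp {z : Aˣ} (h1 : (z : A) * star (z : A) = 1) {x : V} (hx : e (z : A) x = x) (y : V) :
    polar Q (e (z : A) y - y) x = 0 := by
  rw [polar_sub_left, h.inv_adj h1, inv_fix hx, sub_self]

theorem comm_of_sub {Z : Subgroup Aˣ} (hZ : ∀ z ∈ Z, (z : A) * star (z : A) = 1) {u : Aˣ}
    (h1 : (u : A) * star (u : A) = 1) (hu : ∀ x, e (u : A) x - x ∈ Cv e Z) {z : Aˣ} (hz : z ∈ Z) : u * z = z * u := by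
  refine Units.ext (ext_ap e fun y => ?_)
  have h2 := h.fix_of_perp h1 hu fun x hx => h.sub_perp (hZ z hz) (hx z hz) y
  have h3 := hu y z hz
  rw [map_sub] at h2 h3
  rw [ap_umul, ap_umul, sub_eq_iff_eq_add.1 h2, sub_eq_iff_eq_add.1 h3]
  abel

/-- the unipotent group of a subspace is trivial -/
theorem uw (c : Loc F Hh Y 𝒯) {W : Submodule K V} (hinv : ∀ g ∈ Hh, ∀ x ∈ W, e (g : A) x ∈ W)
    (hH : ∀ u ∈ Dr F, (∀ x, e (u : A) x - x ∈ W) → u ∈ Hh) {u : Aˣ} (hu : u ∈ Dr F) (h1 : ∀ x, e (u : A) x - x ∈ W)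
    (h2 : ∀ x ∈ W, ∀ y ∈ W, polar Q (e (u : A) x - x) y = 0) : u = 1 := by
  have hW : ∀ {u : Aˣ}, (∀ x, e (u : A) x - x ∈ W) → ∀ x ∈ W, e (u : A) x ∈ W := fun hu x hx => by
    have h3 := add_mem (hu x) hx
    rwa [sub_add_cancel] at h3
  let P : Subgroup Aˣ :=
    { carrier := {u | u ∈ Dr F ∧ (∀ x, e (u : A) x - x ∈ W) ∧ ∀ x ∈ W, ∀ y ∈ W, polar Q (e (u : A) x - x) y = 0}
      mul_mem' := by
        rintro a b ⟨a1, a2, a3⟩ ⟨b1, b2, b3⟩
        refine ⟨mul_mem a1 b1, fun x => ?_, fun x hx y hy => ?_⟩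
        · rw [ap_umul, ← sub_add_sub_cancel _ (e (b : A) x)]
          exact add_mem (a2 _) (b2 _)
        · rw [ap_umul, ← sub_add_sub_cancel _ (e (b : A) x), polar_add_left, a3 _ (hW b2 x hx) y hy, b3 x hx y hy, add_zero]
      one_mem' := ⟨one_mem _, fun x => by rw [ap_uone, sub_self]; exact zero_mem _,
        fun x _ y _ => by rw [ap_uone, sub_self, polar_zero_left]⟩
      inv_mem' := by
        rintro a ⟨a1, a2, a3⟩
        refine ⟨inv_mem a1, inv_sub_mem a2, fun x hx y hy => ?_⟩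
        have h3 := a3 _ (hW (inv_sub_mem a2) x hx) y hy
        rw [ap_ap_inv] at h3
        rw [← neg_sub, polar_neg_left, h3, neg_zero] }
  have h3 := c.op P (fun u hu => hH u hu.1 hu.2.1) (by
    rintro g hg u ⟨u1, u2, u3⟩
    refine ⟨mul_mem (mul_mem (c.le hg) u1) (inv_mem (c.le hg)), fun x => ?_, fun x hx y hy => ?_⟩
    · have h4 := hinv g hg _ (u2 (e (g⁻¹ : Aˣ) x))
      rwa [map_sub, ap_ap_inv, ← ap_umul, ← ap_umul] at h4
    · have h4 := u3 _ (hinv _ (inv_mem hg) x hx) _ (hinv _ (inv_mem hg) y hy)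
      rwa [← h.inv_adj (Dr_le F (c.le hg)).1, map_sub, ap_ap_inv, ← ap_umul, ← ap_umul] at h4) (by
    rintro u ⟨u1, u2, u3⟩
    refine ⟨3, ext_ap e fun x => ?_⟩
    rw [pow_three, ap_mul, ap_mul, ap_zero, ap_sub, ap_one, sub_eq_zero]
    refine h.fix_of_perp (Dr_le F u1).1 u2 fun y hy => ?_
    rw [ap_sub, ap_one]
    refine u3 _ ?_ y hy
    rw [ap_sub, ap_one]
    exact u2 x)
  exact Subgroup.mem_bot.1 (h3 ▸ (⟨hu, h1, h2⟩ : u ∈ P))

theorem radC_of {W : Submodule K V} (hU : ∀ u ∈ Dr F, (∀ x, e (u : A) x - x ∈ W) →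
    (∀ x ∈ W, ∀ y ∈ W, polar Q (e (u : A) x - x) y = 0) → u = 1) : RadC Q W := by
  by_cases h1 : ∃ a ∈ W, (∀ y ∈ W, polar Q a y = 0) ∧ a ≠ 0 ∧ Q a = 0
  · obtain ⟨a, ha, a1, a2, a3⟩ := h1
    refine Or.inr (Or.inl ⟨a, fun b hb => ?_⟩)
    obtain ⟨u, hu, hu'⟩ := h.exists_siegel a3 (a1 b hb)
    have h2 : ∀ x, e (u : A) x - x = polar Q a x • b - (polar Q b x + Q b * polar Q a x) • a := fun x => by
      rw [hu', add_smul]; abel
    have h3 := hU u hu (fun x => by rw [h2]; exact sub_mem (W.smul_mem _ hb) (W.smul_mem _ ha)) fun x hx y hy => by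
      rw [h2, a1 x hx, zero_smul, polar_sub_left, polar_zero_left, polar_smul_left, a1 y hy, smul_zero, sub_self]
    obtain ⟨x, hx⟩ := h.good.nondeg.exists_polar_eq a2 1
    have h4 := h2 x
    rw [h3, ap_uone, sub_self, hx, one_smul, eq_comm, sub_eq_zero] at h4
    exact ⟨_, h4⟩
  push Not at h1
  by_cases h2 : ∃ w ∈ W, (∀ y ∈ W, polar Q w y = 0) ∧ w ≠ 0
  · obtain ⟨w, hw, w1, w2⟩ := h2
    have w3 := h1 w hw w1 w2
    refine Or.inr (Or.inr ⟨w, hw, w1, w3, fun x hx hx' => ?_⟩)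
    obtain ⟨c, hc⟩ := h.sqrt (Q x / Q w)
    refine ⟨c, sub_eq_zero.1 (by_contra fun h3 => h1 _ (sub_mem hx (W.smul_mem c hw)) (fun y hy => ?_) h3 ?_)⟩
    · rw [polar_sub_left, polar_smul_left, hx' y hy, w1 y hy, smul_zero, sub_self]
    · rw [h.vsub, Q_add, QuadraticMap.map_smul, polar_smul_right, hx' w hw, smul_zero, add_zero, hc, smul_eq_mul,
        div_mul_cancel₀ _ w3, h.kadd]
  · push Not at h2
    exact Or.inl h2

omit h in
theorem inv_Y (c : Loc F Hh Y 𝒯) {g : Aˣ} (hg : g ∈ Hh) {x : V} (hx : x ∈ Cv e Y) : e (g : A) x ∈ Cv e Y :=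
  Cv_inv (fun _ hz => c.y_nm.inv hg hz) hx

omit h in
theorem y_iso (c : Loc F Hh Y 𝒯) : Y ≤ F.Iso := c.y_le.trans (c.le.trans (Dr_le F))

theorem mem_H (c : Loc F Hh Y 𝒯) {u : Aˣ} (hu : u ∈ Dr F) (h1 : ∀ x, e (u : A) x - x ∈ Cv e Y) : u ∈ Hh :=
  c.cY u hu fun _ hy => h.comm_of_sub (fun _ hz => (y_iso c hz).1) (Dr_le F hu).1 h1 hy

theorem uw_Y (c : Loc F Hh Y 𝒯) {u : Aˣ} (hu : u ∈ Dr F) (h1 : ∀ x, e (u : A) x - x ∈ Cv e Y)
    (h2 : ∀ x ∈ Cv e Y, ∀ y ∈ Cv e Y, polar Q (e (u : A) x - x) y = 0) : u = 1 :=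
  h.uw c (fun _ hg _ hx => inv_Y c hg hx) (fun _ hu => h.mem_H c hu) hu h1 h2

theorem radC_Y (c : Loc F Hh Y 𝒯) : RadC Q (Cv e Y) := h.radC_of fun _ hu => h.uw_Y c hu

theorem radC_X (c : Loc F Hh Y 𝒯) : RadC Q (Cv e (sSup 𝒯)) := h.radC_of fun _ hu =>
  h.uw c (fun _ hg _ hx => Cv_inv (fun _ hz => (nm_sSup c).inv hg hz) hx) (fun u hu h1 => c.cX u hu fun _ hT _ ht =>
    h.comm_of_sub (sSup_ms c le_rfl) (Dr_le F hu).1 h1 (le_sSup hT ht : _ ∈ sSup 𝒯)) hu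

omit h in
theorem T1_sub : T1 e Y 𝒯 ⊆ 𝒯 := fun _ hT => hT.1

omit h in
theorem Cv_le_T1 {x : V} (hx : x ∈ Cv e Y) : x ∈ Cv e (sSup (T1 e Y 𝒯)) := fix_sSup fun _ hT t ht => hT.2 t ht x hx

omit h in
theorem nm_T1 (c : Loc F Hh Y 𝒯) : Nm Hh (sSup (T1 e Y 𝒯)) := by
  intro g hg
  have h1 : sSup (T1 e Y 𝒯) ≤ (sSup (T1 e Y 𝒯)).comap (MulAut.conj g).toMonoidHom := sSup_le fun T hT t ht => by
    have h2 : Cam.cj g⁻¹ T ∈ T1 e Y 𝒯 := ⟨c.inv _ (inv_mem hg) T hT.1, fun s hs x hx => by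
      have h3 := congrArg (e (g : A)) (hT.2 _ (mem_cj.1 hs) _ (inv_Y c (inv_mem hg) hx))
      rwa [inv_inv, ap_umul, ap_umul, ap_ap_inv, ap_ap_inv] at h3⟩
    refine le_sSup h2 ?_
    have h3 := conj_mem_cj (a := g⁻¹) ht
    rwa [inv_inv] at h3
  exact fun t ht => h1 ht

/-- nilpotent elements of the enveloping ring kill the fixed vectors -/
theorem nil_kill (hA : SS A) {Z : Subgroup Aˣ} {j : A} (hj : j ∈ Bd Z) (hn : IsNilpotent j) {x : V} (hx : x ∈ Cv e Z) :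
    e j x = 0 := by
  by_cases h0 : x = 0
  · rw [h0, map_zero]
  obtain ⟨a, ha⟩ := h.good.nondeg.exists_polar_eq h0 1
  have hm : ∀ t ∈ Z, (t : A) * ro e Q x x = ro e Q x x := fun t ht => ext_ap e fun y => by
    rw [ap_mul, ro_apply, map_smul, hx t ht]
  obtain ⟨c, hc, h1⟩ := Bd_mul_fix hm hj
  obtain ⟨n, hn⟩ := hn
  obtain ⟨y, hy⟩ := hA.regular c
  have h2 : ∀ k : ℕ, j ^ k * ro e Q x x = c ^ k * ro e Q x x := fun k => by
    induction k with
    | zero => rw [pow_zero, pow_zero]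
    | succ k ih => rw [pow_succ, mul_assoc, h1, ← mul_assoc, cen_comm hc, mul_assoc, ih, ← mul_assoc, ← pow_succ']
  have h3 : ∀ k : ℕ, c = c * y ^ k * c ^ k := fun k => by
    induction k with
    | zero => rw [pow_zero, pow_zero, mul_one, mul_one]
    | succ k ih =>
      calc c = c * y * c := hy.symm
        _ = c * y * (c * y ^ k * c ^ k) := by rw [← ih]
        _ = _ := by rw [pow_succ' y, pow_succ' c, ← cen_comm hc (y ^ k)]; simp only [mul_assoc]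
  have h4 : j * ro e Q x x = 0 := by rw [h1, h3 n, mul_assoc, ← h2, hn, zero_mul, mul_zero]
  have h5 := congrArg (fun b => e b a) h4
  simpa only [ap_mul, ro_apply, ha, one_smul, ap_zero] using h5

theorem alt_eq_zero {s : A} (hs : star s = s) (h1 : ∀ v, polar Q v (e s v) = 0) {a : V} (ha : ∀ v, ∃ c : K, e s v = c • a) :
    s = 0 := by
  refine ext_ap e fun v => by_contra fun hv => ?_
  rw [ap_zero] at hv
  obtain ⟨u, hu⟩ := h.good.nondeg.exists_polar_eq hv 1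
  obtain ⟨c, hc⟩ := ha v
  obtain ⟨d, hd⟩ := ha u
  have h2 := h1 u
  have h3 := hu
  rw [hd, polar_smul_right, polar_comm, smul_eq_mul] at h2
  rw [hc, polar_smul_left, smul_eq_mul] at h3
  have h4 : d = 0 := (mul_eq_zero.1 h2).resolve_right fun H => by
    rw [H, mul_zero] at h3
    exact zero_ne_one h3
  rw [h.adj, hs, hd, h4, zero_smul, polar_zero_right] at hu
  exact zero_ne_one hu

omit h in
theorem comm_mem_Jr {B : Subring A} {a b : Aˣ} (ha : (a : A) ∈ B) (ha' : ((a⁻¹ : Aˣ) : A) ∈ B)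
    (hb' : ((b⁻¹ : Aˣ) : A) ∈ B) (hb : (b : A) - 1 ∈ Jr B) : ((a * b * a⁻¹ * b⁻¹ : Aˣ) : A) - 1 ∈ Jr B := by
  have h1 := Jr_mul_right (Jr_mul_right (sub_mem (Jr_mul_left ha hb) (Jr_mul_right hb ha)) ha') hb'
  convert h1 using 1
  simp only [Units.val_mul, mul_sub, sub_mul, mul_one, one_mul, Units.mul_inv, Units.mul_inv_cancel_right]
  abel

theorem sub_mem_IvY (c : Loc F Hh Y 𝒯) {t : Aˣ} (ht : t ∈ sSup (T1 e Y 𝒯)) (v : V) : e (t : A) v - v ∈ Iv e Y :=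
  h.mem_Iv (fun _ hz => (y_iso c hz).1) fun y hy => by
    rw [polar_comm]
    exact h.sub_perp (sSup_ms c T1_sub t ht) (Cv_le_T1 hy t ht) v

theorem q_IvY (c : Loc F Hh Y 𝒯) {u : A} (hu : u ∈ Bd (sSup (T1 e Y 𝒯))) (h1 : star u * u = 1) {x : V}
    (hx : x ∈ Iv e Y) : Q (e u x) = Q x := by
  have h2 := h.q_eq (y_iso c) (a := u) (b := 1) (fun x y => by rw [h.iso_polar h1, ap_one, ap_one])
    (fun _ hz => y_comm_Bd c T1_sub hz hu) (fun _ _ => by rw [mul_one, one_mul]) hx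
  rwa [ap_one] at h2

/-- unitary elements of `1 + J` are central -/
theorem cen_of_Jr (c : Loc F Hh Y 𝒯) {u : Aˣ} (h1 : (u : A) * star (u : A) = 1)
    (h2 : (u : A) - 1 ∈ Jr (Bd (sSup (T1 e Y 𝒯)))) : ∀ t ∈ sSup (T1 e Y 𝒯), t * u = u * t := by
  have hms := sSup_ms c (T1_sub (e := e) (Y := Y))
  have hiso := sSup_le_Iso c (T1_sub (e := e) (Y := Y))
  have hu : (u : A) ∈ Bd (sSup (T1 e Y 𝒯)) := by
    have h3 := add_mem (Jr_le h2) (one_mem _)
    rwa [sub_add_cancel] at h3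
  have hu' : ((u⁻¹ : Aˣ) : A) ∈ Bd (sSup (T1 e Y 𝒯)) := by rw [star_eq_inv h1]; exact star_mem_Bd hms hu
  have h1' : star (u : A) * u = 1 := by rw [← star_eq_inv h1, Units.inv_mul]
  have h3 : ∀ t ∈ sSup (T1 e Y 𝒯), t * u * t⁻¹ * u⁻¹ ∈ F.Iso := fun t ht => h.mem_Iso fun v => by
    have h4 := h.iso_Q (hiso (inv_mem ht)) (e (u⁻¹ : Aˣ) v)
    rw [ap_umul, ap_umul, ap_umul, h.iso_Q (hiso ht)]
    nth_rewrite 2 [← ap_ap_inv e u v]
    generalize e (u⁻¹ : Aˣ) v = w at h4 ⊢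
    rw [← add_sub_cancel w (e (t⁻¹ : Aˣ) w)] at h4 ⊢
    rw [Q_add] at h4
    rw [map_add (e (u : A)), Q_add, h.q_IvY c hu h1' (h.sub_mem_IvY c (inv_mem ht) w), h.iso_polar h1']
    linear_combination h4
  have h4 : ∀ t ∈ sSup (T1 e Y 𝒯), ∀ s ∈ sSup (T1 e Y 𝒯), s * (t * u * t⁻¹ * u⁻¹) = t * u * t⁻¹ * u⁻¹ * s := by
    intro t ht s hs
    have h5 := comm_mem_Jr (mem_Bd ht) (mem_Bd (inv_mem ht)) hu' h2
    have h6 := eq_one_of_Jr c T1_sub (nm_T1 c) (Subgroup.commutator_mem_commutator (hiso hs) (h3 t ht))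
      (comm_mem_Jr (mem_Bd hs) (mem_Bd (inv_mem hs)) (by
        rw [mul_inv_rev, mul_inv_rev, mul_inv_rev, inv_inv, inv_inv, Units.val_mul, Units.val_mul, Units.val_mul]
        exact mul_mem hu (mul_mem (mem_Bd ht) (mul_mem hu' (mem_Bd (inv_mem ht))))) h5)
    exact commutatorElement_eq_one_iff_mul_comm.1 h6
  have h5 : ∀ t ∈ sSup (T1 e Y 𝒯), ∀ s ∈ sSup (T1 e Y 𝒯),
      t * u * t⁻¹ * u⁻¹ * (s * u * s⁻¹ * u⁻¹) = s * u * s⁻¹ * u⁻¹ * (t * u * t⁻¹ * u⁻¹) := fun t ht s hs =>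
    Units.ext (comm_Bd (z := ((t * u * t⁻¹ * u⁻¹ : Aˣ) : A)) (fun r hr => congrArg Units.val (h4 t ht r hr).symm) (by
      rw [Units.val_mul, Units.val_mul, Units.val_mul]
      exact mul_mem (mul_mem (mul_mem (mem_Bd hs) hu) (mem_Bd (inv_mem hs))) hu'))
  intro t ht
  have h6 := eq_one_of_perf (sSup_perf c T1_sub) (fun t => t * u * t⁻¹ * u⁻¹) (by group) (fun a ha b hb => by
    rw [h5 a ha b hb, ← mul_assoc, ← mul_assoc, ← mul_assoc, ← h4 b hb a ha]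
    group) h5 t ht
  exact commutatorElement_eq_one_iff_mul_comm.1 h6

theorem sq_zero (c : Loc F Hh Y 𝒯) (hT2 : ∀ T ∈ 𝒯, T ∉ T1 e Y 𝒯 → ∀ t ∈ T, ∀ x, e (t : A) x - x ∈ Cv e Y) {s : A}
    (hJ : s ∈ Jr (Bd (sSup (T1 e Y 𝒯)))) (hs : star s = s) (h1 : ∀ v, polar Q v (e s v) = 0) (h2 : s * s = 0) : s = 0 := by
  have hms := sSup_ms c (T1_sub (e := e) (Y := Y))
  have h3 : (1 + s) * star (1 + s) = 1 := by
    rw [star_add, star_one, hs, add_mul, mul_add, mul_add, h2, one_mul, one_mul, mul_one, add_zero, add_assoc, h.aadd,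
      add_zero]
  have h4 : ∀ t ∈ sSup (T1 e Y 𝒯), (t : A) * s = s * t := fun t ht => by
    have h5 := congrArg Units.val (h.cen_of_Jr c (u := mkU _ h3) h3 (by rwa [mkU_val, add_sub_cancel_left]) t ht)
    rwa [Units.val_mul, Units.val_mul, mkU_val, mul_add, add_mul, mul_one, one_mul, add_right_inj] at h5
  have h5 : ∀ t ∈ sSup (T1 e Y 𝒯), (t : A) * s = (t⁻¹ : Aˣ) * s := fun t ht => by
    have ht' := inv_mem ht
    have h6 : ((t : A) + (t⁻¹ : Aˣ)) * s = s * (t + (t⁻¹ : Aˣ)) := by rw [add_mul, mul_add, h4 t ht, h4 _ ht']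
    obtain ⟨w, hw, hw'⟩ := h.lemK (((t : A) + (t⁻¹ : Aˣ)) * s) (by
        rw [star_mul, hs, star_add, ← star_eq_inv (hms t ht), ← star_eq_inv (hms _ ht'), inv_inv, add_comm, h6])
      (fun v => by
        rw [add_mul, ap_add, polar_add_right, ap_mul e (t⁻¹ : Aˣ), ← h.inv_adj (hms t ht), ← hs, ← h.adj, hs, ← ap_mul,
          ← h4 t ht, polar_comm, h.kadd])
      (fun v => by
        have h7 := h.q_eq (y_iso c) (a := s) (b := 0)
          (fun x y => by rw [h.adj, hs, ← ap_mul, h2, ap_zero, ap_zero, polar_zero_right, polar_zero_left])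
          (fun _ hz => y_comm_Bd c T1_sub hz (Jr_le hJ)) (fun _ _ => by rw [mul_zero, zero_mul])
          (sub_mem (h.sub_mem_IvY c ht v) (h.sub_mem_IvY c ht' v))
        rw [ap_zero, QuadraticMap.map_zero, sub_sub_sub_cancel_right, h.vsub] at h7
        rw [h6, ap_mul, ap_add, h7])
    have h7 := eq_one_of_Jr c T1_sub (nm_T1 c) hw (by
      rw [hw', add_sub_cancel_left]
      exact Jr_mul_left (add_mem (mem_Bd ht) (mem_Bd ht')) hJ)
    rw [h7, Units.val_one, left_eq_add, add_mul, ← h.asub, sub_eq_zero] at hw'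
    exact hw'
  have h6 : ∀ t ∈ sSup (T1 e Y 𝒯), (t : A) * s = s := by
    let S : Subgroup Aˣ :=
      { carrier := {t | (t : A) * s = s}
        mul_mem' := fun {a b} (ha : _ * s = s) (hb : _ * s = s) => by
          change _ * s = s
          rw [Units.val_mul, mul_assoc, hb, ha]
        one_mem' := one_mul s
        inv_mem' := fun {a} (ha : _ * s = s) => by
          change _ * s = s
          nth_rewrite 1 [← ha]
          rw [Units.inv_mul_cancel_left] }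
    refine fun t ht => (show _ ≤ S from Subgroup.commutator_le.2 fun a ha b hb => ?_) (sSup_perf c T1_sub ht)
    change ((a * b * a⁻¹ * b⁻¹ : Aˣ) : A) * s = s
    rw [Units.val_mul, mul_assoc, ← h5 b hb, h4 b hb, ← mul_assoc, Units.val_mul, mul_assoc _ _ s, ← h5 a ha, h4 a ha,
      ← mul_assoc, h5 _ (mul_mem ha hb), h4 _ (inv_mem (mul_mem ha hb)), mul_assoc, mul_assoc, ← Units.val_mul,
      Units.inv_mul, mul_one]
  have h7 : ∀ x ∈ Cv e (sSup (T1 e Y 𝒯)), ∀ v, polar Q (e s v) x = 0 := fun x hx v => by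
    rw [h.adj, hs, h.nil_kill c.ss (Jr_le hJ) (Jr_nil hJ) hx, polar_zero_right]
  have h8 : ∀ v, e s v ∈ Cv e (sSup 𝒯) := fun v => fix_sSup fun T hT t ht => by
    by_cases h9 : T ∈ T1 e Y 𝒯
    · rw [← ap_mul, h6 t (le_sSup h9 ht)]
    · exact h.fix_of_perp ((c.mem T hT).le ht).1 (hT2 T hT h9 t ht) fun x hx => h7 x (Cv_le_T1 hx) v
  have h9 : ∀ v, ∀ y ∈ Cv e (sSup 𝒯), polar Q (e s v) y = 0 := fun v y hy =>
    h7 y (fun t ht => hy t (sSup_le_sSup T1_sub ht)) v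
  rcases h.radC_X c with h10 | ⟨a, h10⟩ | ⟨w, -, -, -, h10⟩
  · exact ext_ap e fun v => by rw [h10 _ (h8 v) (h9 v), ap_zero]
  · exact h.alt_eq_zero hs h1 fun v => h10 _ (h8 v)
  · exact h.alt_eq_zero hs h1 fun v => h10 _ (h8 v) (h9 v)

/-- the ring generated by the members that are trivial on the fixed space of `Y` is semisimple -/
theorem semisimple (c : Loc F Hh Y 𝒯) (hT2 : ∀ T ∈ 𝒯, T ∉ T1 e Y 𝒯 → ∀ t ∈ T, ∀ x, e (t : A) x - x ∈ Cv e Y) :
    IsSemisimpleRing (Bd (sSup (T1 e Y 𝒯))) := by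
  have hms := sSup_ms c (T1_sub (e := e) (Y := Y))
  have key : ∀ k : ℕ, ∀ s ∈ Jr (Bd (sSup (T1 e Y 𝒯))), star s = s → (∀ v, polar Q v (e s v) = 0) → s ^ 2 ^ k = 0 →
      s = 0 := fun k => by
    induction k with
    | zero => exact fun s _ _ _ h1 => by rwa [pow_zero, pow_one] at h1
    | succ k ih =>
      intro s hJ hs h1 h2
      refine h.sq_zero c hT2 hJ hs h1 (ih _ (Jr_mul_left (Jr_le hJ) hJ) (by rw [star_mul, hs]) (fun v => ?_) ?_)
      · rw [ap_mul, ← hs, ← h.adj, hs, h.self]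
      · rw [← pow_two, ← pow_mul, ← pow_succ', h2]
  refine semisimple_of_symm c.ss (sSup_perf c T1_sub) hms fun j hj => ?_
  have h1 := add_mem (Jr_star (fun _ hb => star_mem_Bd hms hb) hj) hj
  obtain ⟨n, hn⟩ := Jr_nil h1
  have h2 := key n _ h1 (by rw [star_add, star_star, add_comm])
    (fun v => by rw [ap_add, polar_add_right, ← h.adj, polar_comm, h.kadd])
    (pow_eq_zero_of_le (Nat.lt_two_pow_self).le hn)
  rwa [← h.asub, sub_eq_zero] at h2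

theorem iso_of_Bd (c : Loc F Hh Y 𝒯) (hs : IsSemisimpleRing (Bd (sSup (T1 e Y 𝒯)))) (u : Aˣ)
    (hu : (u : A) ∈ Bd (sSup (T1 e Y 𝒯))) (h1 : (u : A) - 1 ∈ ImI (sSup (T1 e Y 𝒯))) (h2 : (u : A) * star (u : A) = 1) :
    u ∈ F.Iso := by
  have hms := sSup_ms c (T1_sub (e := e) (Y := Y))
  have h2' : star (u : A) * u = 1 := by rw [← star_eq_inv h2, Units.inv_mul]
  obtain ⟨ε, hε, hc, -, hε'⟩ := cen_idem_of_semisimple
    (I := (ImI (sSup (T1 e Y 𝒯))).comap (Bd (sSup (T1 e Y 𝒯))).subtype) fun x hx a => ImI_mul_Bd hx a.2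
  refine h.mem_Iso fun v => ?_
  have h3 : e (star (ε : A)) v ∈ Iv e Y := h.mem_Iv (fun _ hz => (y_iso c hz).1) fun y hy => by
    rw [← h.adj, ImI_kill (a := (ε : A)) hε (Cv_le_T1 hy), polar_zero_left]
  have h4 : v - e (star (ε : A)) v ∈ Cv e (sSup (T1 e Y 𝒯)) := fun t ht => by
    have h5 := congrArg Subtype.val ((cen_comm hc ⟨_, sub_mem (mem_Bd (inv_mem ht)) (one_mem _)⟩).symm.trans
      (hε' _ (sub_one_mem_ImI (inv_mem ht))))
    have h6 : star ((ε : A) * ((t⁻¹ : Aˣ) - 1)) = star (((t⁻¹ : Aˣ) : A) - 1) := congrArg star h5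
    rw [star_mul, star_sub, star_one, star_eq_inv (hms t ht), star_star] at h6
    have h7 := congrArg (fun a => e a v) h6
    simp only [ap_mul, ap_sub, ap_one] at h7
    rw [map_sub, sub_eq_sub_iff_sub_eq_sub, h7]
  have h5 := ImI_kill h1 h4
  rw [ap_sub, ap_one, sub_eq_zero] at h5
  rw [← add_sub_cancel (e (star (ε : A)) v) v, map_add (e (u : A)), Q_add, Q_add, h.iso_polar h2', h5,
    h.q_IvY c hu h2' h3]

end OD

end Cfsg.Agent.Cam.Cl.Ot
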