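import Cfsg.Agent.Cam.Cl.O2b
import Cfsg.Agent.DS.Cl.TV
import Cfsg.Agent.H76.PermFour

/-!
# Classical rows of S3689, orthogonal groups in characteristic two: the action on `W / Rad W` (helper53)
-/

set_option autoImplicit false
set_option linter.unusedSectionVars false

namespace Cfsg.Agent.Cam.Cl.Ot

open Cfsg Cfsg.Agent.DS.Cl QuadraticMap Cfsg.Agent.LieClassical.OrthCore Cfsg.Agent.LieClassical.OrthTrans Module
  Cfsg.Agent.Cam.Cl.JB
open scoped commutatorElement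

theorem qs_of_map {G G' : Type} [Group G] [Group G'] {T : Subgroup G} (f : G →* G') (hf : ∀ t ∈ T, f t = 1 → t = 1)
    (h : QS (T.map f)) : QS T := by
  have h1 : ∀ N ≤ T, ∀ t ∈ T, f t ∈ N.map f → t ∈ N := by
    rintro N hN t ht ⟨n, hn, e⟩
    have h2 := hf _ (mul_mem (inv_mem (hN hn)) ht) (by rw [map_mul, map_inv, e, inv_mul_cancel])
    rwa [← inv_mul_eq_one.1 h2]
  refine ⟨fun t ht => h1 _ (nm_self T).commutator_le t ht ?_, fun hc => h.nc ?_, fun N hN hn => ?_⟩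
  · rw [Subgroup.map_commutator]
    exact h.perf ⟨t, ht, rfl⟩
  · rintro _ ⟨a, ha, rfl⟩ _ ⟨b, hb, rfl⟩
    rw [← map_mul, ← map_mul, hc a ha b hb]
  · rcases h.dich (N.map f) (Subgroup.map_mono hN) (by
      rintro _ ⟨a, ha, rfl⟩ _ ⟨b, hb, rfl⟩
      exact ⟨_, hn a ha b hb, by rw [map_mul, map_mul, map_inv]⟩) with h2 | h2
    · exact Or.inl (le_antisymm hN fun t ht => h1 N hN t ht (h2 ▸ ⟨t, ht, rfl⟩))
    · refine Or.inr fun a ha b hb => commutatorElement_eq_one_iff_mul_comm.1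
        (hf _ (mul_mem (mul_mem (mul_mem (hN ha) hb) (inv_mem (hN ha))) (inv_mem hb)) ?_)
      rw [map_commutatorElement, commutatorElement_eq_one_iff_mul_comm]
      exact h2 _ ⟨a, ha, rfl⟩ _ ⟨b, hb, rfl⟩

variable {A : Type} [Ring A] [StarRing A] [Finite A] {K V : Type} [Field K] [AddCommGroup V] [Module K V] [Finite K]
  [Finite V]

/-- the stabilizer of `W` -/
def St (F : FR A) (e : A ≃+* End K V) (W : Submodule K V) : Subgroup Aˣ where
  carrier := {u | u ∈ F.Iso ∧ (∀ x ∈ W, e (u : A) x ∈ W) ∧ ∀ x ∈ W, e (u⁻¹ : Aˣ) x ∈ W}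
  mul_mem' := by
    rintro a b ⟨a1, a2, a3⟩ ⟨b1, b2, b3⟩
    exact ⟨mul_mem a1 b1, fun x hx => by rw [ap_umul]; exact a2 _ (b2 x hx),
      fun x hx => by rw [mul_inv_rev, ap_umul]; exact b3 _ (a3 x hx)⟩
  one_mem' := ⟨one_mem _, fun x hx => by rwa [ap_uone], fun x hx => by rwa [inv_one, ap_uone]⟩
  inv_mem' := by
    rintro a ⟨a1, a2, a3⟩
    exact ⟨inv_mem a1, a3, by rwa [inv_inv]⟩

/-- the isometries that are trivial on `V / W` -/
def Pw (F : FR A) (e : A ≃+* End K V) (W : Submodule K V) : Subgroup Aˣ where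
  carrier := {u | u ∈ F.Iso ∧ ∀ x, e (u : A) x - x ∈ W}
  mul_mem' := by
    rintro a b ⟨a1, a2⟩ ⟨b1, b2⟩
    refine ⟨mul_mem a1 b1, fun x => ?_⟩
    rw [ap_umul, ← sub_add_sub_cancel _ (e (b : A) x)]
    exact add_mem (a2 _) (b2 _)
  one_mem' := ⟨one_mem _, fun x => by rw [ap_uone, sub_self]; exact zero_mem _⟩
  inv_mem' := fun ha => ⟨inv_mem ha.1, inv_sub_mem ha.2⟩

variable {F : FR A} {Q : QuadraticForm K V} {e : A ≃+* End K V} {W : Submodule K V} {w : V} {ε : A}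

theorem mem_St {Z : Subgroup Aˣ} (h1 : Z ≤ F.Iso) (h2 : ∀ z ∈ Z, ∀ x ∈ W, e (z : A) x ∈ W) : Z ≤ St F e W :=
  fun z hz => ⟨h1 hz, h2 z hz, h2 _ (inv_mem hz)⟩

theorem Pw_le : Pw F e W ≤ St F e W := mem_St (fun _ hz => hz.1) fun z hz x hx => by
  have h1 := add_mem (hz.2 x) hx
  rwa [sub_add_cancel] at h1

theorem nm_Pw : Nm (St F e W) (Pw F e W) := fun g hg u hu =>
  ⟨mul_mem (mul_mem hg.1 hu.1) (inv_mem hg.1), fun x => by
    have h1 := hg.2.1 _ (hu.2 (e (g⁻¹ : Aˣ) x))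
    rwa [map_sub, ap_ap_inv, ← ap_umul, ← ap_umul] at h1⟩

theorem comm_le_Dr : ⁅Pw F e W, Pw F e W⁆ ≤ Dr F := Subgroup.commutator_mono (fun _ hz => hz.1) fun _ hz => hz.1

theorem comm_le_Pw : ⁅Pw F e W, Pw F e W⁆ ≤ Pw F e W := (nm_self _).commutator_le

/-- `ε` is the orthogonal projection on a complement of the radical `⟨w⟩` of `W` -/
structure PD (F : FR A) (Q : QuadraticForm K V) (e : A ≃+* End K V) (W : Submodule K V) (w : V) (ε : A) : Prop where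
  od : OD F Q e
  mem : w ∈ W
  perp : ∀ x ∈ W, polar Q w x = 0
  rad : ∀ x ∈ W, (∀ y ∈ W, polar Q x y = 0) → ∃ c : K, x = c • w
  idem : ε * ε = ε
  symm : star ε = ε
  im : ∀ x, e ε x ∈ W
  kill : e ε w = 0
  dec : ∀ x ∈ W, ∃ c : K, x = e ε x + c • w

theorem OD.exists_pd (h : OD F Q e) (hw : w ∈ W) (hw' : ∀ x ∈ W, polar Q w x = 0)
    (hrad : ∀ x ∈ W, (∀ y ∈ W, polar Q x y = 0) → ∃ c : K, x = c • w) : ∃ ε, PD F Q e W w ε := by
  obtain ⟨ε, h1, h2, h3, h4, h5⟩ := h.exists_proj W hw hw' hrad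
  exact ⟨ε, h, hw, hw', hrad, h1, h2, h3, h4, h5⟩

namespace PD

variable (p : PD F Q e W w ε)
include p

/-- the corner -/
def D : Blk A := Blk.corner ε p.idem p.symm

theorem ee (x : V) : e ε (e ε x) = e ε x := by rw [← ap_mul, p.idem]

theorem adj (x y : V) : polar Q (e ε x) y = polar Q x (e ε y) := by rw [p.od.adj, p.symm]

theorem map_w {u : Aˣ} (hu : u ∈ St F e W) : ∃ c : K, e (u : A) w = c • w :=
  p.rad _ (hu.2.1 w p.mem) fun y hy => by rw [p.od.inv_adj hu.1.1, p.perp _ (hu.2.2 y hy)]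

theorem key {u v : Aˣ} (hu : u ∈ St F e W) (hv : v ∈ St F e W) : ε * u * ε * (ε * v * ε) = ε * (u * v) * ε := by
  refine ext_ap e fun x => ?_
  obtain ⟨c, hc⟩ := p.dec _ (hv.2.1 _ (p.im x))
  obtain ⟨d, hd⟩ := p.map_w hu
  simp only [ap_mul]
  rw [p.ee]
  nth_rewrite 2 [hc]
  rw [map_add, map_add, map_smul, map_smul, hd, map_smul, p.kill, smul_zero, smul_zero, add_zero]

/-- the action on `W / Rad W` -/
noncomputable def pi : St F e W →* p.D.Tˣ :=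
  MonoidHom.toHomUnits
    { toFun := fun u => p.D.mk' (ε * (u : Aˣ) * ε) (Blk.corner_mem p.idem p.symm _)
      map_one' := p.D.val_inj (by
        change ε * ((1 : Aˣ) : A) * ε = ε
        rw [Units.val_one, mul_one, p.idem])
      map_mul' := fun u v => p.D.val_inj (p.key u.2 v.2).symm }

theorem val_pi (u : St F e W) : p.D.val (p.pi u) = ε * (u : Aˣ) * ε := rfl

theorem pi_ms (u : St F e W) : (p.pi u : p.D.T) * star (p.pi u : p.D.T) = 1 := p.D.val_inj (by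
  rw [Blk.val_mul, Blk.val_star, val_pi, star_mul, star_mul, p.symm, ← star_eq_inv u.2.1.1, ← mul_assoc ε _ ε,
    p.key u.2 (inv_mem u.2), Units.mul_inv, mul_one, p.idem]
  rfl)

theorem cen {c : p.D.T} (hc : c ∈ Subring.center p.D.T) : ∃ κ : K, ∀ x, e (p.D.val c) x = κ • e ε x := by
  obtain ⟨h1, h2⟩ := p.D.val_mem c
  by_cases h0 : ∃ x, e ε x ≠ 0
  · obtain ⟨x, hx⟩ := h0
    obtain ⟨y, hy⟩ := p.od.good.nondeg.exists_polar_eq hx 1
    refine ⟨polar Q y (e (p.D.val c) x), fun z => ?_⟩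
    have h3 := congrArg (fun a => e a x) (p.D.mem_center_iff.1 hc _ (Blk.corner_mem p.idem p.symm (ro e Q y z)))
    simp only [ap_mul, ro_apply, map_smul] at h3
    rw [← ap_mul e ε (p.D.val c), h1, ← ap_mul e (p.D.val c) ε, h2, polar_comm Q y (e ε x), hy, one_smul] at h3
    exact h3.symm
  · push Not at h0
    exact ⟨0, fun x => by rw [← h1, ap_mul, h0, zero_smul]⟩

theorem star_cen {c : p.D.T} (hc : c ∈ Subring.center p.D.T) : star c = c := by
  obtain ⟨κ, hκ⟩ := p.cen hc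
  refine p.D.val_inj (ext_ap e fun x => p.od.ext_f fun y => ?_)
  rw [Blk.val_star, p.od.adj', hκ, hκ, polar_smul_left, polar_smul_right, p.adj]

theorem two : (2 : p.D.T) = 0 := by
  rw [← one_add_one_eq_two]
  exact p.D.val_inj (by rw [map_add, p.od.aadd, map_zero])

/-- the symplectic structure on the corner -/
def FD : FR p.D.T where
  l := p.D.mk' (ε * F.l * ε) (Blk.corner_mem p.idem p.symm _)
  L := Lmax p.D.T
  l_add := p.D.val_inj (by
    change ε * F.l * ε + star (ε * F.l * ε) = ε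
    rw [star_mul, star_mul, p.symm, ← mul_assoc, ← add_mul, ← mul_add, F.l_add, mul_one, p.idem])
  par := Or.inr rfl

theorem pi_mem (u : St F e W) : p.pi u ∈ p.FD.Iso := Fwd.mem_Iso_max rfl (p.pi_ms u)

variable (hw : Q w ≠ 0)
include hw

theorem fix_w {u : Aˣ} (hu : u ∈ St F e W) : e (u : A) w = w := by
  obtain ⟨c, hc⟩ := p.map_w hu
  have h1 := p.od.iso_Q hu.1 w
  rw [hc, QuadraticMap.map_smul, smul_eq_mul, mul_eq_right₀ hw] at h1
  have h2 : (c - 1) * (c - 1) = 0 := by linear_combination h1 + (1 - c) * p.od.two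
  rw [hc, sub_eq_zero.1 (mul_self_eq_zero.1 h2), one_smul]

theorem ker {u : St F e W} (h1 : p.pi u = 1) : ∀ x ∈ W, e ((u : Aˣ) : A) x = x := by
  have h2 : ε * (u : Aˣ) * ε = ε := by rw [← p.val_pi, h1]; rfl
  intro x hx
  obtain ⟨c, hc⟩ := p.dec x hx
  obtain ⟨d, hd⟩ := p.dec _ (u.2.2.1 _ (p.im x))
  rw [← ap_mul e ε, ← ap_mul e (ε * _), h2] at hd
  have h3 := p.od.iso_Q u.2.1 (e ε x)
  rw [hd, Q_add, QuadraticMap.map_smul, polar_smul_right, polar_comm, p.perp _ (p.im x), smul_zero, add_zero,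
    add_eq_left, smul_eq_mul, mul_eq_zero, mul_self_eq_zero] at h3
  rw [h3.resolve_right hw, zero_smul, add_zero] at hd
  rw [hc, map_add, map_smul, hd, p.fix_w hw u.2]

omit hw in
theorem exists_refl {v : V} (hv : v ∈ W) (hQ : Q v ≠ 0) :
    ∃ u ∈ Pw F e W, ∀ x, e (u : A) x = x - ((Q v)⁻¹ * polar Q v x) • v := by
  obtain ⟨u, hu, hu'⟩ := p.od.exists_refl hQ
  exact ⟨u, ⟨hu, fun x => by rw [hu', sub_sub_cancel_left]; exact neg_mem (W.smul_mem _ hv)⟩, hu'⟩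

theorem map_Pw (hA : SS p.D.T) : ((Pw F e W).subgroupOf (St F e W)).map p.pi = p.FD.Iso := by
  refine le_antisymm (by rintro _ ⟨u, -, rfl⟩; exact p.pi_mem u) fun u hu => ?_
  refine (Subgroup.closure_le _).2 ?_ ((NCTV.boxTV _ hA p.two (fun _ hc => p.star_cen hc) ⟨_, p.FD.l_add⟩).2 u hu.1)
  rintro t ⟨s, ⟨h0, hs, hr⟩, ht⟩
  obtain ⟨h1, h2⟩ := p.D.val_mem s
  have hs' : ∀ x y, polar Q (e (p.D.val s) x) y = polar Q x (e (p.D.val s) y) := fun x y => by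
    rw [p.od.adj, ← Blk.val_star, hs]
  obtain ⟨x, hx⟩ : ∃ x, e (p.D.val s) x ≠ 0 := by
    by_contra h3
    push Not at h3
    exact h0 (p.D.val_inj (ext_ap e fun x => by rw [h3, map_zero, ap_zero]))
  obtain ⟨y, hy⟩ := p.od.good.nondeg.exists_polar_eq hx 1
  obtain ⟨c, hc, h3⟩ := hr (p.D.mk' _ (Blk.corner_mem p.idem p.symm (ro e Q y x)))
  obtain ⟨κ, hκ⟩ := p.cen hc
  have h4 : ∀ v, polar Q y (e (p.D.val s) v) • e (p.D.val s) x = κ • e (p.D.val s) v := fun v => by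
    have h5 : e (p.D.val s * (ε * ro e Q y x * ε) * p.D.val s) v = e (p.D.val c * p.D.val s) v :=
      congrArg (fun a => e (p.D.val a) v) h3
    simp only [ap_mul, ro_apply, map_smul, hκ] at h5
    rwa [← ap_mul e ε (p.D.val s), h1, ← ap_mul e (p.D.val s) ε, h2] at h5
  have h5 : κ = 1 := by
    have h6 := h4 x
    rw [polar_comm, hy] at h6
    exact (smul_left_injective K hx h6).symm
  set a := e (p.D.val s) x with ha
  set μ := polar Q y (e (p.D.val s) y) with hμ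
  have h6 : ∀ v, e (p.D.val s) v = (μ * polar Q a v) • a := fun v => by
    rw [← one_smul K (e _ v), ← h5, ← h4, ← hs', ← one_smul K (e _ y), ← h5, ← h4, polar_smul_left, smul_eq_mul]
  have h7 : μ ≠ 0 := fun H => hx (by rw [ha, h6, H, zero_mul, zero_smul])
  have h8 : e ε a = a := by rw [ha, ← ap_mul, h1]
  have h9 : a ∈ W := h8 ▸ p.im a
  obtain ⟨d, hd⟩ := p.od.sqrt ((μ⁻¹ - Q a) / Q w)
  have h10 : Q (a + d • w) = μ⁻¹ := by
    rw [Q_add, QuadraticMap.map_smul, polar_smul_right, polar_comm, p.perp a h9, smul_zero, add_zero, hd, smul_eq_mul,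
      div_mul_cancel₀ _ hw, add_sub_cancel]
  obtain ⟨r, hr, hr'⟩ := p.exists_refl (add_mem h9 (W.smul_mem d p.mem)) (by rw [h10]; exact inv_ne_zero h7)
  refine ⟨⟨r, Pw_le hr⟩, hr, Units.ext (p.D.val_inj (ext_ap e fun v => ?_))⟩
  have h11 : e ε (a + d • w) = a := by rw [map_add, map_smul, h8, p.kill, smul_zero, add_zero]
  rw [val_pi, ht, map_add, ap_add, h6, ap_mul, ap_mul, hr', map_sub, map_smul, h11, ← p.adj, h11, h10, inv_inv, p.ee,
    p.od.vsub]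
  rfl

theorem map_comm (hA : SS p.D.T) :
    (⁅(Pw F e W).subgroupOf (St F e W), (Pw F e W).subgroupOf (St F e W)⁆ : Subgroup _).map p.pi = Dr p.FD := by
  rw [Subgroup.map_commutator, p.map_Pw hw hA, Dr]

omit p hw in
theorem map_comm' : (⁅(Pw F e W).subgroupOf (St F e W), (Pw F e W).subgroupOf (St F e W)⁆ : Subgroup _).map
    (St F e W).subtype = ⁅Pw F e W, Pw F e W⁆ := by
  rw [Subgroup.map_commutator, Subgroup.map_subgroupOf_eq_of_le Pw_le]

theorem qs (hA : SS p.D.T) (hU : ∀ u ∈ Dr F, (∀ x, e (u : A) x - x ∈ W) →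
    (∀ x ∈ W, ∀ y ∈ W, polar Q (e (u : A) x - x) y = 0) → u = 1) (hq : QS (Dr p.FD)) : QS ⁅Pw F e W, Pw F e W⁆ := by
  rw [← map_comm']
  refine (qs_of_map p.pi (fun t ht h1 => ?_) (by rwa [p.map_comm hw hA])).map _ fun t _ h1 s _ => by
    rw [show t = 1 from Subtype.ext h1, one_mul, mul_one]
  have h2 : (t : Aˣ) ∈ ⁅Pw F e W, Pw F e W⁆ := map_comm'.le ⟨t, ht, rfl⟩
  exact Subtype.ext (hU _ (comm_le_Dr h2) (comm_le_Pw h2).2 fun x hx y _ => by
    rw [p.ker hw h1 x hx, sub_self, polar_zero_left])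

omit p hw in
theorem perf_subgroupOf {Z : Subgroup Aˣ} (h1 : Z ≤ St F e W) (h2 : Z ≤ ⁅Z, Z⁆) :
    Z.subgroupOf (St F e W) ≤ ⁅Z.subgroupOf (St F e W), Z.subgroupOf (St F e W)⁆ := by
  rw [← Subgroup.map_le_map_iff_of_injective (St F e W).subtype_injective, Subgroup.map_commutator,
    Subgroup.map_subgroupOf_eq_of_le h1]
  exact h2

theorem triv (hA : SS p.D.T) (hS : p.FD.Span) {Z : Subgroup Aˣ} (h1 : Z ≤ St F e W) (h2 : Z ≤ ⁅Z, Z⁆)
    (h3 : Cm Z ⁅Pw F e W, Pw F e W⁆) : ∀ z ∈ Z, ∀ x ∈ W, e (z : A) x = x := by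
  have h4 : ∀ z ∈ Z.subgroupOf (St F e W), (p.pi z : p.D.T) ∈ Subring.center p.D.T := fun z hz => cen_of_comm hS (by
    rintro _ ⟨u, hu, rfl⟩
    obtain ⟨t, ht, rfl⟩ : u ∈ Subgroup.map p.pi _ := (p.map_comm hw hA).ge hu
    have h5 : t * z = z * t := Subtype.ext (h3 _ hz _ (map_comm'.le ⟨t, ht, rfl⟩)).symm
    change ((p.pi t : p.D.Tˣ) : p.D.T) * _ = _
    rw [← Units.val_mul, ← Units.val_mul, ← map_mul, ← map_mul, h5])
  intro z hz
  exact p.ker hw (u := ⟨z, h1 hz⟩) (eq_one_of_perf (perf_subgroupOf h1 h2) p.pi (map_one _)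
    (fun a _ b _ => map_mul _ a b) (fun a _ b hb => units_comm (h4 b hb) _) _ hz)

theorem triv' (hS : Group.IsSolvable (Dr p.FD)) {Z : Subgroup Aˣ} (h1 : Z ≤ St F e W) (h2 : Z ≤ ⁅Z, Z⁆) :
    ∀ z ∈ Z, ∀ x ∈ W, e (z : A) x = x := by
  have h3 := perf_map (perf_subgroupOf h1 h2) p.pi
  have h4 : (Z.subgroupOf (St F e W)).map p.pi ≤ Dr p.FD :=
    le_Dr_of_perf h3 (by rintro _ ⟨u, -, rfl⟩; exact p.pi_mem u)
  have h5 := eq_bot_of_perf_solvable h3 (Group.isSolvable_of_isSolvable_injective (Subgroup.inclusion_injective h4))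
  intro z hz
  exact p.ker hw (u := ⟨z, h1 hz⟩) (Subgroup.mem_bot.1 (h5 ▸ ⟨⟨z, h1 hz⟩, hz, rfl⟩))

omit hw in
theorem mem_of_refl {Z : Subgroup Aˣ} (hn : Nm (Pw F e W) Z) {x v : V} (hx : x ∈ Iv e Z) (hv : v ∈ W)
    (h1 : polar Q v x ≠ 0) (h2 : Q v ≠ 0) : v ∈ Iv e Z := by
  obtain ⟨r, hr, hr'⟩ := p.exists_refl hv h2
  have h3 := sub_mem hx (Iv_inv (hn r hr) hx)
  rw [hr', sub_sub_cancel] at h3
  exact (Submodule.smul_mem_iff _ (mul_ne_zero (inv_ne_zero h2) h1)).1 h3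

theorem mem_or {Z : Subgroup Aˣ} (hn : Nm (Pw F e W) Z) {x v : V} (hx : x ∈ Iv e Z) (hW : x ∈ W) (hv : v ∈ W)
    (h1 : polar Q v x ≠ 0) : v ∈ Iv e Z ∨ v + w ∈ Iv e Z := by
  by_cases h2 : Q v = 0
  · refine Or.inr (p.mem_of_refl hn hx (add_mem hv p.mem) ?_ ?_)
    · rwa [polar_add_left, p.perp x hW, add_zero]
    · rwa [Q_add, h2, polar_comm, p.perp v hv, zero_add, add_zero]
  · exact Or.inl (p.mem_of_refl hn hx hv h1 h2)

/-- the commutator space of a perfect group normalized by the reflections is `W` -/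
theorem le_Iv {Z : Subgroup Aˣ} (hZ : Z ≤ Pw F e W) (hn : Nm (Pw F e W) Z) (hp : Z ≤ ⁅Z, Z⁆) {x y : V} (hx : x ∈ Iv e Z)
    (hy : y ∈ W) (hxy : polar Q y x ≠ 0) : W ≤ Iv e Z := by
  have hM : Iv e Z ≤ W := Iv_le fun z hz => (hZ hz).2
  suffices h1 : w ∈ Iv e Z by
    have h2 : ∀ v ∈ W, polar Q v x ≠ 0 → v ∈ Iv e Z := fun v hv h3 =>
      (p.mem_or hw hn hx (hM hx) hv h3).elim id fun h4 => (add_mem_cancel_right h1).1 h4
    intro v hv
    by_cases h3 : polar Q v x = 0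
    · exact (add_mem_cancel_right (h2 y hy hxy)).1 (h2 _ (add_mem hv hy) (by rwa [polar_add_left, h3, zero_add]))
    · exact h2 v hv h3
  by_contra h1
  have h2 : ∀ m ∈ Iv e Z, ∀ v ∈ W, polar Q v m ≠ 0 → ∃ v' ∈ Iv e Z, polar Q v' m ≠ 0 := fun m hm v hv h3 =>
    (p.mem_or hw hn hm (hM hm) hv h3).elim (fun h4 => ⟨v, h4, h3⟩) fun h4 =>
      ⟨_, h4, by rwa [polar_add_left, p.perp m (hM hm), add_zero]⟩
  have h3 : ∀ m ∈ Iv e Z, m ≠ 0 → Q m = Q w := fun m hm h0 => by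
    obtain ⟨v, hv, h4⟩ : ∃ v ∈ W, polar Q v m ≠ 0 := by
      by_contra h4
      push Not at h4
      obtain ⟨c, rfl⟩ := p.rad m (hM hm) fun v hv => by rw [polar_comm, h4 v hv]
      exact h1 ((Submodule.smul_mem_iff _ (left_ne_zero_of_smul h0)).1 hm)
    obtain ⟨v', hv', h5⟩ := h2 m hm v hv h4
    by_contra h6
    refine h1 ((add_mem_cancel_left hm).1 (p.mem_of_refl hn hv' (add_mem (hM hm) p.mem) ?_ ?_))
    · rwa [polar_add_left, p.perp _ (hM hv'), add_zero, polar_comm]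
    · rwa [Q_add, polar_comm, p.perp m (hM hm), add_zero, ← p.od.ksub, sub_ne_zero]
  have h4 : ∀ m ∈ Iv e Z, ∀ m' ∈ Iv e Z, m ≠ 0 → m' ≠ 0 → m ≠ m' → polar Q m m' = Q w := fun m hm m' hm' a1 a2 a3 => by
    have h5 := h3 _ (add_mem hm hm') (by rwa [← p.od.vsub, sub_ne_zero])
    rwa [Q_add, h3 m hm a1, h3 m' hm' a2, p.od.kadd, zero_add] at h5
  obtain ⟨y', hy', h5⟩ := h2 x hx y hy hxy
  have hx0 : x ≠ 0 := fun H => h5 (by rw [H, polar_zero_right])
  have hy0 : y' ≠ 0 := fun H => h5 (by rw [H, polar_zero_left])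
  have hne : x ≠ y' := fun H => h5 (by rw [H, p.od.self])
  have h6 : (Iv e Z : Set V) ⊆ {0, x, y', x + y'} := fun z hz => by
    by_contra h7
    simp only [Set.mem_insert_iff, Set.mem_singleton_iff, not_or] at h7
    have h8 := h4 x hx _ (add_mem hy' hz) hx0 (by rw [← p.od.vsub, sub_ne_zero]; exact Ne.symm h7.2.2.1) fun H =>
      h7.2.2.2 (by rw [H, add_comm y', add_assoc, p.od.vadd, add_zero])
    rw [polar_add_right, h4 x hx y' hy' hx0 hy0 hne, h4 x hx z hz hx0 h7.1 (Ne.symm h7.2.1), p.od.kadd] at h8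
    exact hw h8.symm
  have h7 : Nat.card (Iv e Z) ≤ 4 := (Set.ncard_le_ncard h6).trans ((Set.ncard_insert_le _ _).trans (Nat.succ_le_succ
    ((Set.ncard_insert_le _ _).trans (Nat.succ_le_succ ((Set.ncard_insert_le _ _).trans (by rw [Set.ncard_singleton]))))))
  let f : Z →* Function.End (Iv e Z) :=
    { toFun := fun z m => ⟨e ((z : Aˣ) : A) m, Iv_inv (nm_self Z z z.2) m.2⟩
      map_one' := funext fun m => Subtype.ext (ap_uone e _)
      map_mul' := fun a b => funext fun m => Subtype.ext (ap_umul e _ _ _) }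
  have h8 : ∀ z ∈ Z, ∀ m ∈ Iv e Z, e (z : A) m = m := fun z hz m hm =>
    congrArg (fun σ : Equiv.Perm (Iv e Z) => (σ ⟨m, hm⟩ : V)) (H76.PermFour.perfect_hom_eq_one
      (Subgroup.isPerfect_iff.2 (le_antisymm (nm_self Z).commutator_le hp)) (H76.PermFour.solvable_perm_of_card_le h7)
      f.toHomPerm ⟨z, hz⟩)
  refine hx0 ((Submodule.mem_bot K).1 ((Iv_le (W := ⊥) fun z hz v => (Submodule.mem_bot K).2 (by_contra fun h9 => ?_)) hx))
  have h10 := fun m hm => p.od.sub_perp (hZ hz).1.1 (h8 z hz m hm) v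
  by_cases h11 : e (z : A) v - v = x
  · exact h5 (by rw [polar_comm, ← h11, h10 y' hy'])
  · exact hw (by rw [← h4 _ (sub_mem_Iv hz v) x hx h9 hx0 h11, h10 x hx])

end PD

end Cfsg.Agent.Cam.Cl.Ot
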