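import Cfsg.Agent.Cam.Cl.QSLU

/-!
# S3689, classical groups, `BoxQS`: orthogonal groups, general part (helper12)
-/

set_option autoImplicit false

namespace Cfsg.Agent.Cam.Cl.Qs

open Cfsg Cfsg.Agent.DS.Cl Cfsg.Agent.DS.Cl.Fwd Cfsg.Agent.Cam.Cl Cfsg.Agent.Cam.Cl.Tp
open QuadraticMap Cfsg.Agent.LieClassical.OrthCore Cfsg.Agent.LieClassical.OrthTrans
open scoped Matrix MatrixGroups commutatorElement

variable {K V : Type} [Field K] [AddCommGroup V] [Module K V]

/-- four-groups of determinant one in dimension three -/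
theorem four_group (h3 : Module.finrank K V = 3) (h2 : (2 : K) ≠ 0) {a b : Module.End K V} (ha : a * a = 1)
    (hb : b * b = 1) (hab : a * b = b * a) (da : LinearMap.det a = 1) (db : LinearMap.det b = 1) (a1 : a ≠ 1)
    (b1 : b ≠ 1) (ab1 : a * b ≠ 1) : (1 + a) * (1 + b) = 0 := by
  have : Module.Finite K V := Module.finite_of_finrank_pos (by omega)
  have t1 := (trace_invol h3 ha da).resolve_left a1
  have t2 := (trace_invol h3 hb db).resolve_left b1
  have t3 := (trace_invol h3 (a := a * b) (by rw [mul_assoc, ← mul_assoc b, ← hab, mul_assoc, hb, mul_one, ha])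
    (by rw [map_mul, da, db, mul_one])).resolve_left ab1
  have t0 : LinearMap.trace K V 1 = 3 := by rw [LinearMap.trace_one, h3, Nat.cast_ofNat]
  obtain ⟨P, hP⟩ : ∃ P, P = (1 + a) * (1 + b) := ⟨_, rfl⟩
  have haP : a * P = P := by rw [hP, ← mul_assoc, mul_add a, mul_one, ha, add_comm a]
  have hbP : b * P = P := by
    rw [hP, ← mul_assoc, mul_add b, mul_one, ← hab, ← one_add_mul, mul_assoc, mul_add b, mul_one, hb, add_comm b]
  have tP : LinearMap.trace K V P = 0 := by
    rw [hP, add_mul, one_mul, mul_add, mul_one, map_add, map_add, map_add, t0, t1, t2, t3]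
    norm_num
  have hPP : P * P = (4 : K) • P := by
    conv_lhs => enter [1]; rw [hP]
    rw [mul_assoc, add_mul _ b, one_mul, hbP, add_mul, one_mul, mul_add, haP]
    module
  have hc : ((2 : K)⁻¹ • P - 1) * ((2 : K)⁻¹ • P - 1) = 1 := by
    rw [sub_mul, mul_sub, mul_sub, smul_mul_smul_comm, hPP, smul_smul, mul_one, one_mul, mul_one,
      show (2 : K)⁻¹ * 2⁻¹ * 4 = 2⁻¹ + 2⁻¹ by field_simp; norm_num, add_smul]
    abel
  have tc : LinearMap.trace K V ((2 : K)⁻¹ • P - 1) = -3 := by rw [map_sub, map_smul, tP, t0, smul_zero, zero_sub]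
  have dc := congrArg LinearMap.det hc
  rw [map_mul, map_one] at dc
  rw [← hP]
  rcases mul_self_eq_one_iff.1 dc with h | h
  · rcases trace_invol h3 hc h with h4 | h4
    · have h5 : a * ((2 : K)⁻¹ • P) = (2 : K)⁻¹ • P := by rw [mul_smul_comm, haP]
      rw [sub_eq_iff_eq_add.1 h4, mul_add, mul_one, ← two_smul K, ← two_smul K] at h5
      exact absurd (smul_right_injective _ h2 h5) a1
    · rw [tc] at h4
      exact absurd (by linear_combination -h4) h2
  · rcases trace_invol h3 (a := (-1 : K) • ((2 : K)⁻¹ • P - 1)) (by rw [smul_mul_smul_comm, hc]; simp)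
      (by rw [LinearMap.det_smul, h, h3]; norm_num) with h4 | h4
    · rw [neg_one_smul, neg_sub, sub_eq_self] at h4
      exact (smul_eq_zero.1 h4).resolve_left (inv_ne_zero h2)
    · rw [map_smul, tc, smul_eq_mul] at h4
      exact absurd (mul_self_eq_zero.1 (by linear_combination h4)) h2

variable {Q : QuadraticForm K V} (hQ : Nondeg Q)

include hQ in
/-- Siegel transformations with a non-singular vector are commutators -/
theorem siegel_mem_comm {x v : V} (hx : Q x = 0) (hv : polar Q x v = 0) (hv' : Q v ≠ 0) :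
    siegel Q x v hx hv ∈ ⁅O Q, O Q⁆ := by
  obtain ⟨y, h1, h2⟩ := exists_sep hQ (x := v) (z := x) fun c hc => hv' (by
    rw [hc, QuadraticMap.map_smul, hx, smul_zero])
  have h3 : polar Q x (-Q v • y) = 0 := by rw [polar_smul_right, h1, smul_zero]
  have h4 : refl Q v hv' x = x := by rw [refl_apply, polar_comm Q v x, hv, mul_zero, zero_smul, sub_zero]
  have h5 : refl Q v hv' (-Q v • y) = -Q v • y + v := by
    rw [refl_apply, polar_smul_right, h2, smul_eq_mul, mul_one, mul_neg, inv_mul_cancel₀ hv', neg_one_smul,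
      sub_neg_eq_add]
  have h6 : polar Q x (-Q v • y + v) = 0 := by rw [polar_add_right, h3, hv, add_zero]
  have h7 : polar Q x (-(-Q v • y)) = 0 := by rw [polar_neg_right, h3, neg_zero]
  have h8 := Subgroup.commutator_mem_commutator (refl_mem_O hv') (siegel_mem_O hx h3)
  rw [commutatorElement_def, siegel_conj (refl_mem_O hv') hx h3 (by rw [h4, hx]) (by rw [h4, h5, h6]),
    LieClassical.OrthSimple.siegel_congr _ _ hx h6 h4 h5, siegel_inv hx h3 h7,
    siegel_mul hx h6 h7 (by rw [polar_add_right, h6, h7, add_zero])] at h8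
  rwa [LieClassical.OrthSimple.siegel_congr hx hv hx (by rw [polar_add_right, h6, h7, add_zero]) rfl
    (show v = -Q v • y + v + -(-Q v • y) by abel)]

include hQ in
theorem exists_nons (h3 : 3 ≤ Module.finrank K V) {x y : V} (h : Hyp Q x y) :
    ∃ s, polar Q x s = 0 ∧ polar Q y s = 0 ∧ Q s ≠ 0 := by
  obtain ⟨a, c, h1, h2, h4, h5, h6⟩ := exists_perp2 hQ h3 h
  rcases exists_nonsing h6 with h7 | h7 | h7
  · exact ⟨a, h1, h2, h7⟩
  · exact ⟨c, h4, h5, h7⟩
  · exact ⟨a + c, by rw [polar_add_right, h1, h4, add_zero], by rw [polar_add_right, h2, h5, add_zero], h7⟩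

theorem ap_sieg {x s : V} (hx : Q x = 0) (hs : polar Q x s = 0) (v : V) :
    (orH Q hQ).ap ((psO (orH Q hQ) (siegel Q x s hx hs) : (orH Q hQ).EB) - 1) v =
      polar Q x v • s - (polar Q s v + Q s * polar Q x v) • x := by
  rw [HF.ap_sub, ap_psO, HF.ap_one, siegel_apply]
  module

theorem sieg_mul {x s t : V} (hx : Q x = 0) (hs : polar Q x s = 0) (ht : polar Q x t = 0) :
    ((psO (orH Q hQ) (siegel Q x s hx hs) : (orH Q hQ).EB) - 1) *
      ((psO (orH Q hQ) (siegel Q x t hx ht) : (orH Q hQ).EB) - 1) =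
        (orH Q hQ).eb (-polar Q s t • (orH Q hQ).ro x x) := (orH Q hQ).ap_ext fun v => by
  rw [HF.ap_mul, ap_sieg, ap_sieg]
  change _ = -polar Q s t • (polar Q v x • x)
  simp only [polar_sub_right, polar_smul_right, polar_self_of_sing hx, ht, polar_comm Q s x, hs, polar_comm Q v x,
    smul_eq_mul]
  module

theorem uni_sieg {x s : V} (hx0 : x ≠ 0) (hx : Q x = 0) (hs : polar Q x s = 0) (hs' : Q s ≠ 0) :
    psO (orH Q hQ) (siegel Q x s hx hs) ≠ 1 ∧ Uni (psO (orH Q hQ) (siegel Q x s hx hs)) := by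
  refine ⟨fun h => ?_, 3, ?_⟩
  · obtain ⟨y, hy⟩ := hQ.exists_polar_eq hx0 1
    have h1 := ap_sieg hQ hx hs y
    rw [h, Units.val_one, sub_self, hy, one_smul] at h1
    have h2 : s = (polar Q s y + Q s * 1) • x := sub_eq_zero.1 h1.symm
    exact hs' (by rw [h2, QuadraticMap.map_smul, hx, smul_zero])
  · rw [pow_succ', pow_two, sieg_mul]
    refine (orH Q hQ).ap_ext fun v => ?_
    rw [HF.ap_mul]
    change (orH Q hQ).ap _ (-polar Q s s • (polar Q v x • x)) = 0
    rw [map_smul, map_smul, ap_sieg, polar_self_of_sing hx, polar_comm Q s x, hs]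
    simp

theorem two_EB (h : HF K V) : (2 : h.EB) = h.eb ((2 : K) • 1) := by
  have h1 := eb_natCast h 2
  rwa [Nat.cast_ofNat, Nat.cast_ofNat] at h1

theorem unit_two_EB (h : HF K V) (h2 : (2 : K) ≠ 0) : IsUnit (2 : h.EB) := by
  rw [two_EB]
  refine ⟨⟨_, h.eb ((2 : K)⁻¹ • 1), h.ap_ext fun v => ?_, h.ap_ext fun v => ?_⟩, rfl⟩
  · exact smul_inv_smul₀ h2 v
  · exact inv_smul_smul₀ h2 v

variable [Finite K] [Finite V]

theorem Dr_O {R : FR (orH Q hQ).EB} (hR : R.L = Lmin _) (hl : ∀ v, polar Q v ((orH Q hQ).ap R.l v) = Q v) :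
    Dr R = (⁅O Q, O Q⁆ : Subgroup (V ≃ₗ[K] V)).map (psO (orH Q hQ)) := by
  rw [Dr, ← isoO hQ hR hl, Subgroup.map_commutator]

theorem L_ne [Nontrivial V] (h2 : (2 : K) = 0) {R : FR (orH Q hQ).EB} (hR : R.L = Lmin _) : R.L ≠ Lmax _ := by
  let h := orH Q hQ
  intro h1
  obtain ⟨x, hx⟩ := exists_ne (0 : V)
  have h3 : h.eb (h.ro x x) ∈ Lmax h.EB := by
    change star (h.eb (h.ro x x)) = -h.eb (h.ro x x)
    rw [eq_neg_iff_add_eq_zero]
    refine h.ap_ext fun v => h.ext_right fun u => ?_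
    rw [h.ap_add, h.add_right, h.b_star]
    change polar Q (polar Q u x • x) v + polar Q u (polar Q v x • x) = polar Q u 0
    rw [polar_smul_left, polar_smul_right, polar_zero_right, polar_comm Q x v, smul_eq_mul, smul_eq_mul]
    linear_combination polar Q u x * polar Q v x * h2
  rw [← h1, hR, mem_Lmin_iff] at h3
  obtain ⟨y, hy⟩ := hQ.exists_polar_eq hx 1
  have h4 : polar Q y (polar Q y x • x) = 0 := h3 y
  rw [polar_smul_right, polar_comm Q y x, hy, smul_eq_mul, mul_one] at h4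
  exact one_ne_zero h4

variable {R : FR (orH Q hQ).EB} (hR : R.L = Lmin _) (hl : ∀ v, polar Q v ((orH Q hQ).ap R.l v) = Q v)

include hR hl

theorem sieg_mem {x s : V} (hx : Q x = 0) (hs : polar Q x s = 0) (hs' : Q s ≠ 0) :
    psO (orH Q hQ) (siegel Q x s hx hs) ∈ Dr R := by
  rw [Dr_O hQ hR hl]
  exact ⟨_, siegel_mem_comm hQ hx hs hs', rfl⟩

theorem spanO (h0 : ∃ x, x ≠ 0 ∧ Q x = 0) (H : ∀ x, x ≠ 0 → Q x = 0 →
    ∃ s t, polar Q x s = 0 ∧ polar Q x t = 0 ∧ Q s ≠ 0 ∧ Q t ≠ 0 ∧ polar Q s t ≠ 0) : R.Span := by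
  let h := orH Q hQ
  refine h.span_top (Bd (Dr R)) (fun c => cen_mem_Bd _ (h.smul_mem_center c)) {x | x ≠ 0 ∧ Q x = 0}
    h0 (fun x hx => hx.1) (fun x hx => ?_) (fun x hx v hv => ?_)
  · obtain ⟨s, t, h1, h2, h3, h4, h5⟩ := H x hx.1 hx.2
    have h6 := Subring.mul_mem _ (cen_mem_Bd _ (h.smul_mem_center (-polar Q s t)⁻¹)) (Subring.mul_mem _
      (Subring.sub_mem _ (mem_Bd (sieg_mem hQ hR hl hx.2 h1 h3)) (Subring.one_mem _))
      (Subring.sub_mem _ (mem_Bd (sieg_mem hQ hR hl hx.2 h2 h4)) (Subring.one_mem _)))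
    rwa [sieg_mul, ← h.eb_smul, smul_smul, inv_mul_cancel₀ (neg_ne_zero.2 h5), one_smul] at h6
  · have hv' : polar Q v x ≠ 0 := hv
    have hxx : polar Q x x = 0 := polar_self_of_sing hx.2
    have h1 : polar Q (v + (-(Q v) / polar Q v x) • x) x = polar Q v x := by
      rw [polar_add_left, polar_smul_left, hxx, smul_zero, add_zero]
    refine ⟨-(Q v) / polar Q v x, ⟨fun h0 => hv' ?_, ?_⟩, fun h0 => hv' (h1.symm.trans h0)⟩
    · rw [← h1, h0, polar_zero_left]
    · rw [QuadraticMap.map_add (⇑Q), QuadraticMap.map_smul, hx.2, smul_zero, add_zero, polar_smul_right,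
        smul_eq_mul]
      field_simp
      ring

omit hR hl [Finite V] in
theorem exists_sing (h3 : 3 ≤ Module.finrank K V) : ∃ x, x ≠ 0 ∧ Q x = 0 := by
  obtain ⟨x, -, h⟩ := LieClassical.OrthFinite.exists_sing_mem (Q := Q) ⊤ (by rwa [finrank_top])
  exact ⟨x, h⟩

theorem spanO_odd (h3 : 3 ≤ Module.finrank K V) (h2 : (2 : K) ≠ 0) : R.Span :=
  spanO hQ hR hl (exists_sing h3) fun x hx0 hx => by
    obtain ⟨y, hy⟩ := exists_hyp hQ hx hx0
    obtain ⟨s, h1, -, h4⟩ := exists_nons hQ h3 hy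
    exact ⟨s, s, h1, h1, h4, h4, by rw [polar_self']; exact mul_ne_zero h2 h4⟩

theorem qsc_of_qs (h3 : 3 ≤ Module.finrank K V) (hq : QS (⁅O Q, O Q⁆ : Subgroup (V ≃ₗ[K] V))) (hs : R.Span)
    (ht : Ty (Dr R) 1 ∨ R.L ≠ Lmax _) : QSC R := by
  obtain ⟨x, hx0, hx⟩ := exists_sing (Q := Q) h3
  obtain ⟨y, hy⟩ := exists_hyp hQ hx hx0
  obtain ⟨s, h1, -, h4⟩ := exists_nons hQ h3 hy
  obtain ⟨h5, h6⟩ := uni_sieg hQ hx0 hx h1 h4
  exact Or.inr (Or.inl ⟨Dr_O hQ hR hl ▸ qs_inj hq _ (psO_inj _), hs, ⟨_, sieg_mem hQ hR hl hx h1 h4, h5, h6⟩, ht⟩)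

theorem ty_four (h4 : 4 ≤ Module.finrank K V) : Ty (Dr R) 1 ∨ R.L ≠ Lmax _ := by
  have : Nontrivial V := Module.nontrivial_of_finrank_pos (R := K) (by omega)
  by_cases h2 : (2 : K) = 0
  · exact Or.inr (L_ne hQ h2 hR)
  obtain ⟨x, hx0, hx⟩ := exists_sing (Q := Q) (show 3 ≤ Module.finrank K V by omega)
  obtain ⟨y, hy⟩ := exists_hyp hQ hx hx0
  obtain ⟨s, h1, h3, h5⟩ := exists_nons hQ (by omega) hy
  obtain ⟨h6, h7⟩ := uni_sieg hQ hx0 hx h1 h5
  obtain ⟨w, hw0, hw⟩ := exists_perp_ne (Q := Q) ![x, y, s] (by omega)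
  have w1 : polar Q x w = 0 := hw 0
  have w2 : polar Q y w = 0 := hw 1
  have w3 : polar Q s w = 0 := hw 2
  obtain ⟨v, hv⟩ := hQ.exists_polar_ne hw0
  have hss : polar Q s s ≠ 0 := by rw [polar_self']; exact mul_ne_zero h2 h5
  have u1 : polar Q x (proj Q x y v - (polar Q s (proj Q x y v) / polar Q s s) • s) = 0 := by
    rw [polar_sub_right, polar_smul_right, polar_proj_left hy, h1, smul_zero, sub_zero]
  have u2 : polar Q s (proj Q x y v - (polar Q s (proj Q x y v) / polar Q s s) • s) = 0 := by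
    rw [polar_sub_right, polar_smul_right, smul_eq_mul, div_mul_cancel₀ _ hss, sub_self]
  refine Or.inl (Or.inl (tyR_of _ (sieg_mem hQ hR hl hx h1 h5) h6 h7 (w := w)
    (w' := proj Q x y v - (polar Q s (proj Q x y v) / polar Q s s) • s) (fun z => ?_) ?_ ?_))
  · rw [ap_sieg]
    change polar Q _ _ = 0
    rw [polar_sub_left, polar_smul_left, polar_smul_left, w1, w3, smul_zero, smul_zero, sub_zero]
  · rw [ap_sieg, u1, u2]
    simp
  · change polar Q _ _ ≠ 0
    rwa [polar_comm, polar_sub_right, polar_smul_right, polar_comm Q w s, w3, smul_zero, sub_zero,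
      polar_proj_of_perp w1 w2]

theorem ty_three (h3 : Module.finrank K V = 3) (h2 : (2 : K) ≠ 0) : TyII (Dr R) 1 := by
  let h := orH Q hQ
  have : Nontrivial V := Module.nontrivial_of_finrank_pos (R := K) (by omega)
  refine ⟨unit_two_EB h h2, fun t ht ht' => ?_, fun a ha b hb h4 h5 h6 h7 h8 h9 => ?_⟩
  · have h4 := comm_of_span (spanO_odd hQ hR hl h3.ge h2) (z := (t : h.EB)) fun u hu => congrArg Units.val (ht' u hu)
    obtain ⟨c, hc⟩ := cen_EB h (Subring.mem_center_iff.2 fun g => (h4 g).symm)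
    have h5 := det_Dr h R ht
    have h6 := (Dr_le R ht).1
    rw [hc] at h5 h6
    rw [h.ap_eb, LinearMap.det_smul, map_one, mul_one, h3] at h5
    rw [star_smul_EB, ← h.eb_smul, smul_smul] at h6
    have h7 : c * c = 1 := H277.FC.smul_one_inj (V := V) (h6.trans (one_smul K (1 : Module.End K V)).symm)
    have h8 : c = 1 := by linear_combination h5 - c * h7
    rw [h8, one_smul] at hc
    exact Units.ext hc
  · rw [mul_one]
    refine four_group h3 h2 (a := h.ap a) (b := h.ap b) (congrArg Units.val h4) (congrArg Units.val h5)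
      (congrArg Units.val h6) (det_Dr h R ha) (det_Dr h R hb) (fun h => h7 (Units.ext h)) (fun h => h8 (Units.ext h))
      fun h => h9 ?_
    have h10 : a * b = 1 := Units.ext h
    rw [← mul_one a, ← h5, ← mul_assoc, h10, one_mul]

theorem solv_O {G H : Type} [Group G] [Group H] (φ : G ≃* O Q) (hH : Group.IsSolvable H) (f : H →* G)
    (hf : commutator G ≤ f.range) : QSC R := by
  refine Or.inl ?_
  rw [Dr_O hQ hR hl, ← comm_equiv φ]
  exact solv_map (solv_map (solv_of_le hH f hf) _) _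

omit hQ hR hl [Finite K] [Finite V] in
theorem qs_O {G H : Type} [Group G] [Group H] (φ : G ≃* O Q) (hH : QS (⊤ : Subgroup H)) (f : H →* G)
    (hf : f.range = commutator G) (hk : ∀ k, f k = 1 → k ∈ Subgroup.center H) :
    QS (⁅O Q, O Q⁆ : Subgroup (V ≃ₗ[K] V)) := by
  rw [← comm_equiv φ, ← hf]
  exact qs_inj (qs_range hH f hk) _ (Subtype.val_injective.comp φ.injective)

theorem qsc_five (h5 : 5 ≤ Module.finrank K V) : QSC R := by
  have hG := LieClassical.OrthFinite.good_of_finite hQ h5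
  have hp : commutator (E Q) = ⊤ := by
    apply Subgroup.map_injective (E Q).subtype_injective
    rw [Subgroup.map_subtype_commutator, hG.E_perfect, ← MonoidHom.range_eq_map, Subgroup.range_subtype]
  refine qsc_of_qs hQ hR hl (by omega) ?_ (datO hG hR hl).span (ty_four hQ hR hl (by omega))
  have h1 := qs_inj (qs_top hp (LieClassical.OrthSimple.good_isSimpleGroup hG)) _ (E Q).subtype_injective
  rwa [← MonoidHom.range_eq_map, Subgroup.range_subtype, ← hG.commutator_eq_E] at h1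

/-- change of the space -/
theorem qsc_congr {W : Type} [AddCommGroup W] [Module K W] [Finite W] {Q' : QuadraticForm K W} (hQ' : Nondeg Q')
    (g : V ≃ₗ[K] W) (hg : ∀ v, Q' (g v) = Q v)
    (H : ∀ R' : FR (orH Q' hQ').EB, R'.L = Lmin _ → (∀ v, polar Q' v ((orH Q' hQ').ap R'.l v) = Q' v) → QSC R') :
    QSC R := by
  have hp : ∀ u v, polar Q' (g u) (g v) = polar Q u v := fun u v => by simp only [polar, ← map_add, hg]
  obtain ⟨e, h1, h2⟩ := exists_iso (orH Q' hQ') (A := (orH Q hQ).EB) (RingEquiv.refl _) (polar Q)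
    (fun a v w => ((orH Q hQ).b_star a v w).symm) g (c := 1) fun u v => by rw [one_mul]; exact hp u v
  refine of_star h1 R fun R' h3 h4 _ => H R' (h4 hR) fun v => ?_
  obtain ⟨v, rfl⟩ := g.surjective v
  rw [h3, h2, hp, hg]
  exact hl v

end Cfsg.Agent.Cam.Cl.Qs
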