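import Cfsg.Agent.Cam.Cl.QSSp
import Cfsg.Agent.Cam.Cl.QSO
import Cfsg.Agent.LieClassical.OrthThreeOmega
import Cfsg.Agent.LieClassical.OrthFourMinus
import Cfsg.Agent.LieClassical.OrthFourPlus

/-!
# S3689, classical groups: the box `BoxQS` (helper12)
-/

set_option autoImplicit false

namespace Cfsg.Agent.Cam.Cl.Qs

open Cfsg Cfsg.Agent.DS.Cl Cfsg.Agent.DS.Cl.Fwd Cfsg.Agent.Cam.Cl Cfsg.Agent.Cam.Cl.Tp
open QuadraticMap Cfsg.Agent.LieClassical Cfsg.Agent.LieClassical.OrthCore Cfsg.Agent.LieClassical.OrthTrans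
open scoped Matrix MatrixGroups commutatorElement

variable {K : Type} [Field K] [Fintype K]

section plus

open OrthFourPlus (M dt phi tau)

variable {Q : QuadraticForm K (M K)} (hQ : Nondeg Q)

/-- left multiplication -/
def lam : M K →+* (orH Q hQ).EB where
  toFun X := (orH Q hQ).eb (LinearMap.mulLeft K X)
  map_one' := (orH Q hQ).ap_ext fun v => one_mul v
  map_mul' X Y := (orH Q hQ).ap_ext fun v => mul_assoc X Y v
  map_zero' := (orH Q hQ).ap_ext fun v => zero_mul v
  map_add' X Y := (orH Q hQ).ap_ext fun v => add_mul X Y v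

omit [Fintype K] in
theorem lam_inj : Function.Injective (lam hQ) := fun X Y h => by
  have h1 : X * 1 = Y * 1 := congrArg (fun a => (orH Q hQ).ap a 1) h
  rwa [mul_one, mul_one] at h1

omit [Fintype K] in
theorem lam_smul (c : K) : lam hQ (c • 1) = (orH Q hQ).eb (c • 1) := (orH Q hQ).ap_ext fun v => by
  change (c • (1 : M K)) * v = c • v
  rw [Matrix.smul_mul, one_mul]

theorem left_factor (h4 : 4 ≤ Fintype.card K) (f : SL(2, K) →* (orH Q hQ).EBˣ)
    (hf : ∀ s, (f s : (orH Q hQ).EB) = lam hQ s.1) :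
    QS f.range ∧ HasUni f.range ∧ TyI f.range ∧ IsSimpleRing (Bd f.range) := by
  have hinj : Function.Injective f := fun s t h => Subtype.ext (lam_inj hQ (by rw [← hf, ← hf, h]))
  have htr : ∀ {i j : Fin 2} (hij : i ≠ j) (c : K),
      (f (Matrix.SpecialLinearGroup.transvection hij c) : (orH Q hQ).EB) - 1 = lam hQ (Matrix.single i j c) :=
    fun {i j} hij c => by
      rw [hf]
      change lam hQ (1 + Matrix.single i j c) - 1 = _
      rw [map_add, map_one, add_sub_cancel_left]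
  have h01 : (0 : Fin 2) ≠ 1 := by decide
  refine ⟨MonoidHom.range_eq_map f ▸ qs_inj (qs_sl2 h4) f hinj, ⟨_, ⟨Matrix.SpecialLinearGroup.transvection h01 1, rfl⟩,
    fun h => ?_, 2, ?_⟩, ?_, ?_⟩
  · have h1 := htr h01 1
    rw [h, Units.val_one, sub_self, ← map_zero (lam hQ)] at h1
    have h3 := congrFun (congrFun (lam_inj hQ h1) 0) 1
    rw [Matrix.single_apply_same] at h3
    exact zero_ne_one h3
  · rw [htr, ← map_pow, pow_two, Matrix.single_mul_single_of_ne _ _ _ _ h01.symm, map_zero]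
  · rintro s - _ ⟨t, rfl⟩
    rw [← map_inv, hf, hf, ← map_add, add_inv_mat (a := t.1) (b := (t⁻¹).1) (congrArg Subtype.val (mul_inv_cancel t)) t.2,
      lam_smul]
    exact Subring.mem_center_iff.1 ((orH Q hQ).smul_mem_center _) s
  · have h1 : Bd f.range = (lam hQ).range := by
      refine le_antisymm (Bd_le (fun z hz => ?_) ?_) ?_
      · obtain ⟨c, rfl⟩ := cen_EB _ hz
        exact ⟨_, lam_smul hQ c⟩
      · rintro _ ⟨t, rfl⟩
        exact ⟨_, (hf t).symm⟩
      · rintro _ ⟨X, rfl⟩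
        refine mat_ind (fun X => lam hQ X ∈ Bd f.range) ?_ (fun a b ha hb => ?_) (fun a b ha hb => ?_)
          (fun i j hij c => ?_) X
        · rw [map_zero]
          exact Subring.zero_mem _
        · rw [map_add]
          exact Subring.add_mem _ ha hb
        · rw [map_mul]
          exact Subring.mul_mem _ ha hb
        · rw [← htr hij]
          exact Subring.sub_mem _ (mem_Bd ⟨_, rfl⟩) (Subring.one_mem _)
    rw [h1]
    exact IsSimpleRing.of_ringEquiv (RingEquiv.ofBijective (lam hQ).rangeRestrict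
      ⟨fun X Y h => lam_inj hQ (congrArg Subtype.val h), (lam hQ).rangeRestrict_surjective⟩) inferInstance

theorem qsc_plus (hd : ∀ X, Q X = X.det) {R : FR (orH Q hQ).EB} (hR : R.L = Lmin _)
    (hl : ∀ v, polar Q v ((orH Q hQ).ap R.l v) = Q v) : QSC R := by
  let h := orH Q hQ
  have hO : OrthFourCommon.isom (dt K) = O Q := by
    ext g
    rw [mem_O, OrthFourCommon.mem_isom]
    simp only [hd]
  by_cases h4 : 4 ≤ Fintype.card K
  swap
  · have := solv_sl2 h4
    exact solv_O hQ hR hl (MulEquiv.subgroupCongr hO) inferInstance phi OrthFourPlus.commutator_le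
  obtain ⟨a, ha0, ha1⟩ := exists_ne_of_four (K := K) (by omega)
  let ι : OrthFourCommon.isom (dt K) →* h.EBˣ := (psO h).comp (OrthFourCommon.isom (dt K)).subtype
  have hD : Dr R = (ι.comp phi).range := by
    rw [Dr_O hQ hR hl, ← hO, MonoidHom.range_comp,
      le_antisymm (OrthFourPlus.le_commutator a ha0 ha1) OrthFourPlus.commutator_le, ← Subgroup.map_map,
      Subgroup.map_subtype_commutator]
  let f := (ι.comp phi).comp (MonoidHom.inl _ _)
  have h1 := left_factor hQ h4 f fun s => h.ap_ext fun X => by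
    change s.1 * X * (((Matrix.SpecialLinearGroup.toGL (1 : SL(2, K)))⁻¹ : GL (Fin 2) K) : M K) = s.1 * X
    rw [map_one, inv_one, Units.val_one, mul_one]
  have h2 : ((ι.comp phi).comp (MonoidHom.inr _ _)).range = f.range.map (uE (DS.Cl.cj h.EB (ι tau))) := by
    rw [← MonoidHom.range_comp]
    congr 1
    ext1 s
    have h3 : phi (1, s) = tau * phi (s, 1) * tau⁻¹ := (OrthFourPlus.tau_conj (OrthFourPlus.inc (s, 1))).symm
    change ι (phi (1, s)) = _
    rw [h3, map_mul, map_mul, map_inv]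
    rfl
  refine Or.inr (Or.inr ⟨?_, f.range, ((ι.comp phi).comp (MonoidHom.inr _ _)).range, ?_, ?_, ?_⟩)
  · by_cases h5 : (2 : K) = 0
    · exact Or.inl (L_ne hQ h5 hR)
    · have := h.ss.1
      exact Or.inr (unit_two_EB h h5).ne_zero
  · rw [hD]
    refine le_antisymm (sup_le ?_ ?_) ?_
    · rintro _ ⟨s, rfl⟩
      exact ⟨_, rfl⟩
    · rintro _ ⟨s, rfl⟩
      exact ⟨_, rfl⟩
    · rintro _ ⟨⟨s, t⟩, rfl⟩
      rw [← Prod.fst_mul_snd (s, t), map_mul]
      exact Subgroup.mul_mem_sup ⟨s, rfl⟩ ⟨t, rfl⟩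
  · rintro _ ⟨s, rfl⟩ _ ⟨t, rfl⟩
    change (ι.comp phi) (s, 1) * (ι.comp phi) (1, t) = (ι.comp phi) (1, t) * (ι.comp phi) (s, 1)
    rw [← map_mul, ← map_mul, Prod.mk_mul_mk, Prod.mk_mul_mk, mul_one, one_mul, mul_one, one_mul]
  · rintro Z (rfl | rfl)
    · exact h1
    · rw [h2]
      exact ⟨qs_inj h1.1 _ (uE_inj _), hasUni_uE _ h1.2.1, tyI_uE _ h1.2.2.1, simple_Bd _ h1.2.2.2⟩

end plus

variable {V : Type} [AddCommGroup V] [Module K V] [Finite V] {Q : QuadraticForm K V} (hQ : Nondeg Q)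

omit [Fintype K] [Finite V] in
/-- Witt index one -/
theorem witt_one {a b : K} (hab : ∀ z₁ z₂ : K, z₁ ^ 2 + a * z₁ * z₂ + b * z₂ ^ 2 = 0 → z₁ = 0 ∧ z₂ = 0)
    (g : V ≃ₗ[K] ((Fin 1 ⊕ Fin 1) ⊕ Fin 2 → K)) (hg : ∀ v, Q v = quadFormMinus 1 K a b (g v)) {x t : V} (hx : Q x = 0)
    (ht : Q t = 0) (hxt : polar Q x t = 0) (hx0 : x ≠ 0) : ∃ c : K, t = c • x := by
  have h0 : ∀ v, Q v = 0 → g v (.inl (.inl 0)) * g v (.inl (.inr 0)) = 0 → g v (.inr 0) = 0 ∧ g v (.inr 1) = 0 :=
    fun v hv h => hab _ _ (by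
      rw [hg, quadFormMinus, Fin.sum_univ_one, h, zero_add] at hv
      exact hv)
  have h1 : ∀ c d : K, Q (c • x + d • t) = 0 := fun c d => by
    rw [Q_add, QuadraticMap.map_smul, QuadraticMap.map_smul, polar_smul_left, polar_smul_right, hx, ht, hxt]
    simp
  have h2 : ∀ v, g v (.inl (.inl 0)) = 0 → g v (.inl (.inr 0)) = 0 → Q v = 0 → v = 0 := fun v h3 h4 hv => by
    obtain ⟨h5, h6⟩ := h0 v hv (by rw [h3, zero_mul])
    apply g.injective
    rw [map_zero]
    funext i
    rcases i with (i | i) | i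
    · rw [Subsingleton.elim i 0, h3]; rfl
    · rw [Subsingleton.elim i 0, h4]; rfl
    · fin_cases i
      · exact h5
      · exact h6
  have h3 : ∀ (c d : K) i, g (c • x + d • t) i = c * g x i + d * g t i := fun c d i => by
    rw [map_add, map_smul, map_smul]
    rfl
  obtain ⟨p1, p2⟩ := h0 _ (h1 (g t (.inl (.inl 0))) (-g x (.inl (.inl 0)))) (by rw [h3]; ring)
  obtain ⟨q1, q2⟩ := h0 _ (h1 (g t (.inl (.inr 0))) (-g x (.inl (.inr 0)))) (by rw [h3, h3]; ring)
  have h4 := h1 (g t (.inl (.inl 0)) + g t (.inl (.inr 0))) (-g x (.inl (.inl 0)) + -g x (.inl (.inr 0)))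
  rw [h3] at p1 p2 q1 q2
  rw [hg, quadFormMinus, Fin.sum_univ_one, h3, h3, h3, h3,
    show (g t (.inl (.inl 0)) + g t (.inl (.inr 0))) * g x (.inr 0) +
      (-g x (.inl (.inl 0)) + -g x (.inl (.inr 0))) * g t (.inr 0) = 0 by linear_combination p1 + q1,
    show (g t (.inl (.inl 0)) + g t (.inl (.inr 0))) * g x (.inr 1) +
      (-g x (.inl (.inl 0)) + -g x (.inl (.inr 0))) * g t (.inr 1) = 0 by linear_combination p2 + q2] at h4
  have h5 : g t (.inl (.inl 0)) * g x (.inl (.inr 0)) - g x (.inl (.inl 0)) * g t (.inl (.inr 0)) = 0 :=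
    pow_eq_zero_iff two_ne_zero |>.1 (by linear_combination -h4)
  have h6 : ∀ c d : K, d ≠ 0 → c • x + d • t = 0 → ∃ c : K, t = c • x := fun c d hd h =>
    ⟨-(d⁻¹ * c), by rw [neg_smul, mul_smul, eq_neg_of_add_eq_zero_left h, smul_neg, neg_neg, inv_smul_smul₀ hd]⟩
  by_cases h7 : g x (.inl (.inl 0)) = 0
  · by_cases h8 : g x (.inl (.inr 0)) = 0
    · exact absurd (h2 x h7 h8 hx) hx0
    · exact h6 _ _ (neg_ne_zero.2 h8) (h2 _ (by rw [h3]; linear_combination -h5) (by rw [h3]; ring)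
        (h1 (g t (.inl (.inr 0))) _))
  · exact h6 _ _ (neg_ne_zero.2 h7) (h2 _ (by rw [h3]; ring) (by rw [h3]; linear_combination h5)
      (h1 (g t (.inl (.inl 0))) _))

variable {R : FR (orH Q hQ).EB} (hR : R.L = Lmin _) (hl : ∀ v, polar Q v ((orH Q hQ).ap R.l v) = Q v)

include hR hl

theorem qsc_minus (h4 : Module.finrank K V = 4) {a b : K}
    (hab : ∀ z₁ z₂ : K, z₁ ^ 2 + a * z₁ * z₂ + b * z₂ ^ 2 = 0 → z₁ = 0 ∧ z₂ = 0)
    (g : V ≃ₗ[K] ((Fin 1 ⊕ Fin 1) ⊕ Fin 2 → K)) (hg : ∀ v, Q v = quadFormMinus 1 K a b (g v)) : QSC R := by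
  have : Fact (∀ r : K, r ^ 2 ≠ -b + a * r) := ⟨fun r hr =>
    one_ne_zero (hab (-r) 1 (by linear_combination hr)).2⟩
  let _ : Fintype (OrthFourMinus.E K (-b) a) := Fintype.ofEquiv _ (QuadraticAlgebra.equivProd (-b) a).symm
  have hcard : 4 ≤ Fintype.card (OrthFourMinus.E K (-b) a) := by
    rw [Fintype.card_congr (QuadraticAlgebra.equivProd (-b) a), Fintype.card_prod]
    have : 1 < Fintype.card K := Fintype.one_lt_card
    nlinarith
  obtain ⟨ε⟩ := OrthFourCommon.exists_isometryGroup_equiv (OrthFourMinus.coord K (-b) a) (quadFormMinus 1 K a b)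
    (OrthFourMinus.Q (-b) a) (OrthFourMinus.Q_coord a b)
  obtain ⟨φ⟩ := Vec.O_equiv g _ Q one_ne_zero fun v => by rw [one_mul, hg]
  refine qsc_of_qs hQ hR hl (by omega) (qs_O (ε.symm.trans φ) (qs_sl2 hcard) OrthFourMinus.phi
    (le_antisymm OrthFourMinus.le_commutator (OrthFourMinus.commutator_le' (OrthFourMinus.exists_eq
      OrthFourMinus.norm_surjective))) fun k hk => OrthFourMinus.mem_center_of_phi_eq_one hk)
    (spanO hQ hR hl (exists_sing (by omega)) fun x hx0 hx => ?_) (ty_four hQ hR hl h4.ge)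
  obtain ⟨y, hy⟩ := exists_hyp hQ hx hx0
  obtain ⟨s, t, h1, h2, h3, h5, h6⟩ := exists_perp2 hQ (by omega) hy
  have h7 : ∀ w, polar Q x w = 0 → polar Q y w = 0 → Q w = 0 → w = 0 := fun w p1 p2 p3 => by
    obtain ⟨c, rfl⟩ := witt_one hab g hg hx p3 p1 hx0
    rw [polar_smul_right, hy.pair', smul_eq_mul, mul_one] at p2
    rw [p2, zero_smul]
  refine ⟨s, t, h1, h3, fun h => ?_, fun h => ?_, by rw [h6]; exact one_ne_zero⟩
  · rw [h7 s h1 h2 h, polar_zero_left] at h6
    exact zero_ne_one h6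
  · rw [h7 t h3 h5 h, polar_zero_right] at h6
    exact zero_ne_one h6

theorem qsc_three (h2 : Module.finrank K V = 2 * 1 + 1) : QSC R := by
  have : Module.Finite K V := Module.Finite.of_finite
  have hQ' : (QuadraticMap.polarBilin Q).Nondegenerate :=
    ⟨fun x hx => hQ x hx, fun x hx => hQ x fun y => by rw [QuadraticMap.polar_comm]; exact hx y⟩
  obtain ⟨c, h3, h4, h5, h6, -⟩ := Cfsg.Agent.S2618.result h2 Q hQ'
  have hc : ∀ v, v = c.repr v (.inl ()) • c (.inl ()) + (c.repr v (.inr (.inl 0)) • c (.inr (.inl 0)) +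
      c.repr v (.inr (.inr 0)) • c (.inr (.inr 0))) := by
    intro v
    conv_lhs => rw [← c.sum_repr v]
    simp only [Fintype.sum_sum_type, Fintype.sum_unique]
    rfl
  have h7 := h6 0 0
  rw [if_pos rfl] at h7
  have h8 : (2 : K) ≠ 0 := by
    intro h9
    refine c.ne_zero (.inl ()) (hQ _ fun y => ?_)
    rw [hc y]
    simp only [QuadraticMap.polar_add_right, QuadraticMap.polar_smul_right, (h4 0).1, (h4 0).2, polar_self', h9,
      zero_mul, smul_zero, add_zero]
  let c' := c.unitsSMul (Sum.elim (fun _ => 1) (Sum.elim (fun _ => Units.mk0 _ h3) fun _ => 1))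
  obtain ⟨φ⟩ := Vec.O_equiv c'.equivFun (quadFormOdd 1 K) Q h3 fun v => by
    conv_lhs => rw [hc v]
    simp only [Q_add, QuadraticMap.map_smul, QuadraticMap.polar_add_right, QuadraticMap.polar_smul_right,
      QuadraticMap.polar_smul_left, (h4 0).1, (h4 0).2, (h5 0).1, (h5 0).2, h7, smul_eq_mul, quadFormOdd, c',
      Module.Basis.equivFun_apply, Module.Basis.repr_unitsSMul, Fin.sum_univ_one, Sum.elim_inl, Sum.elim_inr,
      inv_one, one_smul, Units.smul_def, Units.val_inv_eq_inv_val, Units.val_mk0]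
    field_simp
    ring
  have h9 := OrthThreeOmega.range_psi (F := K) ⟨-1, neg_ne_zero.2 one_ne_zero, fun h => h8 (by linear_combination -h)⟩
  by_cases h10 : 4 ≤ Fintype.card K
  · exact qsc_of_qs hQ hR hl h2.ge (qs_O φ (qs_sl2 h10) OrthThreeOmega.psi h9 fun k hk =>
      OrthThreeOmega.mem_center_of_psi_comm h8 fun t => by rw [hk, one_mul, mul_one]) (spanO_odd hQ hR hl h2.ge h8)
      (Or.inl (Or.inr (Or.inr (Or.inr (Or.inl (ty_three hQ hR hl h2 h8))))))
  · exact solv_O hQ hR hl φ (solv_sl2 h10) OrthThreeOmega.psi h9.ge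

theorem qsc_orH : QSC R := by
  have : Module.Finite K V := Module.Finite.of_finite
  have hQ' : (QuadraticMap.polarBilin Q).Nondegenerate :=
    ⟨fun x hx => hQ x hx, fun x hx => hQ x fun y => by rw [QuadraticMap.polar_comm]; exact hx y⟩
  have han : ∀ ζ : K, (∀ t : K, t ^ 2 + t + ζ ≠ 0) → ∀ z₁ z₂ : K, z₁ ^ 2 + 1 * z₁ * z₂ + ζ * z₂ ^ 2 = 0 →
      z₁ = 0 ∧ z₂ = 0 := by
    intro ζ hζ z₁ z₂ h
    by_cases h2 : z₂ = 0
    · rw [h2] at h
      exact ⟨by simpa using h, h2⟩
    · refine absurd ?_ (hζ (z₁ / z₂))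
      field_simp
      linear_combination h
  by_cases h5 : 5 ≤ Module.finrank K V
  · exact qsc_five hQ hR hl h5
  by_cases h1 : Module.finrank K V ≤ 1
  · refine solv_of_comm R fun a _ b _ => Units.ext ((orH Q hQ).ap_ext fun w => ?_)
    obtain ⟨v, hv⟩ := finrank_le_one_iff.1 h1
    obtain ⟨s, hs⟩ := hv ((orH Q hQ).ap a v)
    obtain ⟨t, ht⟩ := hv ((orH Q hQ).ap b v)
    obtain ⟨c, rfl⟩ := hv w
    rw [Units.val_mul, Units.val_mul, HF.ap_mul, HF.ap_mul]
    simp only [map_smul, ← hs, ← ht, smul_smul]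
    rw [mul_right_comm]
  have hd : ∀ n, (DihedralGroup n ≃* O Q) → QSC R := fun n φ =>
    solv_O hQ hR hl φ (solv_dihedral n) (commutator _).subtype (Subgroup.range_subtype _).ge
  have h2 : Module.finrank K V = 2 * 1 ∨ Module.finrank K V = 2 * 1 + 1 ∨ Module.finrank K V = 2 * 2 := by omega
  rcases h2 with h2 | h2 | h2
  · rcases H174.exists_std le_rfl h2 Q hQ' with ⟨g, hg⟩ | ⟨ζ, g, hζ, hg⟩
    · obtain ⟨φ⟩ := Vec.O_equiv g _ Q one_ne_zero fun v => by rw [one_mul, hg]
      obtain ⟨ψ⟩ := Cfsg.Agent.S0305.result (F := K) rfl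
      exact hd _ (ψ.symm.trans φ)
    · obtain ⟨φ⟩ := Vec.O_equiv g _ Q one_ne_zero fun v => by rw [one_mul, hg]
      obtain ⟨ψ⟩ := Cfsg.Agent.S0306.result (F := K) rfl 1 ζ (han ζ hζ)
      exact hd _ (ψ.symm.trans φ)
  · exact qsc_three hQ hR hl h2
  · rcases H174.exists_std (by norm_num) h2 Q hQ' with ⟨g, hg⟩ | ⟨ζ, g, hζ, hg⟩
    · let g' := g.trans (OrthFourPlus.coord K)
      let Q' : QuadraticForm K (OrthFourPlus.M K) := Q.comp g'.symm.toLinearMap
      have h3 : ∀ v, Q' (g' v) = Q v := fun v => congrArg Q (g'.symm_apply_apply v)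
      have h4 : Nondeg Q' := fun x hx => by
        obtain ⟨x, rfl⟩ := g'.surjective x
        rw [hQ x fun y => by
          have h6 := hx (g' y)
          simp only [polar, ← map_add, h3] at h6
          exact h6, map_zero]
      have : Finite (OrthFourPlus.M K) := Finite.of_equiv _ g'.toEquiv
      refine qsc_congr hQ hR hl h4 g' h3 fun R' h6 h7 => qsc_plus h4 (fun X => ?_) h6 h7
      obtain ⟨v, rfl⟩ := g'.surjective X
      rw [h3, hg]
      exact (OrthFourPlus.coord_det _).symm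
    · exact qsc_minus hQ hR hl h2 (han ζ hζ) g hg

omit hQ hR hl in
theorem qsc_O {A : Type} [Ring A] [StarRing A] (F : FR A) (e : A ≃+* Module.End K V) (b : LinearMap.BilinForm K V)
    (hb : ∀ v w, b w v = b v w) (hs : b.SeparatingLeft) (hadj : ∀ a v w, b (e a v) w = b v (e (star a) w))
    (hL : F.L = Lmin A) : QSC F := by
  let Q : QuadraticForm K V := LinearMap.BilinMap.toQuadraticMap (b.compl₂ (e F.l))
  have hpol : ∀ v w, polar Q v w = b v w := by
    intro v w
    rw [LinearMap.BilinMap.polar_toQuadraticMap, LinearMap.compl₂_apply, LinearMap.compl₂_apply, hb (e F.l v), hadj,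
      ← map_add, ← LinearMap.add_apply, ← map_add, F.l_add, map_one, Module.End.one_apply]
  have hQ : Nondeg Q := fun x hx => hs x fun y => by rw [← hpol, hx]
  obtain ⟨e', h1, h2⟩ := exists_iso (orH Q hQ) e (fun v w => b v w) hadj (LinearEquiv.refl K V) (c := 1)
    fun u v => by rw [one_mul]; exact hpol u v
  refine of_star h1 F fun R h3 h4 _ => qsc_orH hQ (h4 hL) fun v => ?_
  have h5 : (orH Q hQ).ap (e' F.l) v = e F.l v := h2 F.l v
  rw [h3, h5, hpol]
  rfl

omit hQ hR hl in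
theorem qsc_B {A : Type} [Ring A] [StarRing A] (F : FR A) (hM : ModB A) : QSC F := by
  obtain ⟨K, _, _, n, e, b, hn, hb, hs, hadj⟩ := hM
  have : Nonempty (Fin n) := ⟨⟨0, hn⟩⟩
  by_cases h2 : (2 : K) = 0
  · have hb' : ∀ v w, b w v = b v w := by
      rcases hb with hb | hb
      · exact hb
      · intro v w
        linear_combination hb v w - b v w * h2
    rcases F.par with hL | hL
    · exact qsc_O F e b hb' hs hadj hL
    · refine qsc_S F e b (fun v => ?_) hs hadj hL
      have h3 : b v v = b v (e (F.l + star F.l) v) := by rw [F.l_add, map_one, Module.End.one_apply]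
      rw [map_add, LinearMap.add_apply, map_add, ← hadj, hb' (e F.l v)] at h3
      linear_combination h3 + b (e F.l v) v * h2
  · have h3 : IsUnit (2 : A) := by
      have h4 : IsUnit (2 : Module.End K (Fin n → K)) := by
        rw [← map_ofNat (algebraMap K (Module.End K (Fin n → K)))]
        exact (IsUnit.mk0 _ h2).map _
      rw [← map_ofNat e.symm]
      exact h4.map _
    have h4 := Tp.Lmin_eq_Lmax h3
    have hL : F.L = Lmax A := F.par.elim (fun h => h.trans h4) id
    rcases hb with hb | hb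
    · exact qsc_O F e b hb hs hadj (hL.trans h4.symm)
    · refine qsc_S F e b (fun v => ?_) hs hadj hL
      have h4 : 2 * b v v = 0 := by linear_combination hb v v
      exact (mul_eq_zero.1 h4).resolve_left h2

omit hQ hR hl in
/-- **the box `BoxQS`** -/
theorem boxQS : BoxQS := by
  intro A _ _ _ h F
  rcases exists_model h with hM | hM | hM
  · exact qsc_L F hM
  · exact qsc_U F hM
  · exact qsc_B F hM

end Cfsg.Agent.Cam.Cl.Qs
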