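import Cfsg.Agent.Cam.Cl.Iface
import Cfsg.Agent.DS.Cl.ModL
import Cfsg.Agent.DS.Cl.ModU
import Cfsg.Agent.DS.Cl.ModO

/-!
# S3689, classical groups: the standard form rings with their groups (helper12)

* `Dat F φ` : `φ` embeds a group onto `Dr F`, `A` is star-simple and `F.Span`; `Dat.equiv` : `F.S ≃* K / Z(K)`;
* `datL`, `datU`, `datSp`, `datO` : the four families, with the description of `F.Iso`;
* `up_of_pow` : `UP F` from a power map into `Dr F`.
-/

set_option autoImplicit false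

namespace Cfsg.Agent.Cam.Cl.Tp

open Cfsg Cfsg.Agent.DS.Cl Cfsg.Agent.DS.Cl.Fwd Cfsg.Agent.Cam.Cl
open scoped Matrix commutatorElement

section general

variable {A : Type} [Ring A] [StarRing A]

/-- `φ` embeds `K` onto the commutator group of the isometry group -/
structure Dat (F : FR A) {K : Type} [Group K] (φ : K →* Aˣ) : Prop where
  ss : SS A
  span : F.Span
  inj : Function.Injective φ
  range : φ.range = Dr F

/-- an element centralizing `Dr F` is central -/
theorem comm_of_span {F : FR A} (hspan : F.Span) {z : A} (hz : ∀ u ∈ Dr F, z * u = u * z) (x : A) :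
    z * x = x * z := by
  have hx : x ∈ Subring.closure ((Subring.center A : Set A) ∪
      ((fun u : Aˣ => (u : A)) '' (⁅F.Iso, F.Iso⁆ : Subgroup Aˣ))) := by
    rw [hspan]; trivial
  have h2 : Subring.closure ((Subring.center A : Set A) ∪
      ((fun u : Aˣ => (u : A)) '' (⁅F.Iso, F.Iso⁆ : Subgroup Aˣ))) ≤ Subring.centralizer {z} := by
    rw [Subring.closure_le]
    rintro y (hy | ⟨u, hu, rfl⟩)
    · intro w hw
      rw [Set.mem_singleton_iff.1 hw]
      exact (Subring.mem_center_iff.1 hy) _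
    · intro w hw
      rw [Set.mem_singleton_iff.1 hw]
      exact hz u hu
  exact h2 hx _ rfl

theorem Dat.equiv {F : FR A} {K : Type} [Group K] {φ : K →* Aˣ} (h : Dat F φ) :
    Nonempty (F.S ≃* K ⧸ Subgroup.center K) := by
  have hr : φ.range = ⁅F.Iso, F.Iso⁆ := h.range
  have hmem : ∀ k : K, DS.Cl.cj A (φ k) ∈ F.S := fun k => ⟨φ k, by rw [← hr]; exact ⟨k, rfl⟩, rfl⟩
  let f : K →* F.S := ((DS.Cl.cj A).comp φ).codRestrict F.S hmem
  have hf : Function.Surjective f := by
    rintro ⟨_, u, hu, rfl⟩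
    rw [← hr] at hu
    obtain ⟨k, rfl⟩ := hu
    exact ⟨k, rfl⟩
  have hker : Subgroup.center K = f.ker := by
    ext k
    rw [MonoidHom.mem_ker, Subgroup.mem_center_iff]
    constructor
    · intro hk
      apply Subtype.ext
      change DS.Cl.cj A (φ k) = 1
      have h1 : ∀ x : A, (φ k : A) * x = x * φ k := comm_of_span h.span fun u hu => by
        rw [← h.range] at hu
        obtain ⟨g, rfl⟩ := hu
        rw [← Units.val_mul, ← Units.val_mul, ← map_mul, ← map_mul, hk g]
      ext x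
      rw [cj_apply, h1, mul_assoc, Units.mul_inv, mul_one]
      rfl
    · intro hk g
      have h1 : DS.Cl.cj A (φ k) = 1 := congrArg Subtype.val hk
      have h2 : (φ k : A) * φ g * ((φ k)⁻¹ : Aˣ) = φ g := by
        rw [← cj_apply, h1]
        rfl
      apply h.inj
      apply Units.ext
      rw [map_mul, map_mul, Units.val_mul, Units.val_mul]
      calc (φ g : A) * φ k = (φ k : A) * φ g * ((φ k)⁻¹ : Aˣ) * φ k := by rw [h2]
        _ = φ k * φ g := by rw [mul_assoc, Units.inv_mul, mul_one]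
  exact ⟨((QuotientGroup.quotientMulEquivOfEq hker).trans (QuotientGroup.quotientKerEquivOfSurjective f hf)).symm⟩

omit [StarRing A] in
/-- unipotent units are `p`-elements -/
theorem pow_eq_one_of_uni [Nontrivial A] {p : ℕ} (hp : p.Prime) (hA : (p : A) = 0) {u : Aˣ} (hu : Uni u) :
    ∃ k : ℕ, u ^ p ^ k = 1 := by
  have : Fact p.Prime := ⟨hp⟩
  have : CharP A p := (CharP.charP_iff_prime_eq_zero hp).2 hA
  obtain ⟨n, hn⟩ := hu
  refine ⟨n, Units.ext ?_⟩
  have h1 : ((u : A) - 1) ^ p ^ n = 0 := pow_eq_zero_of_le (Nat.lt_pow_self hp.one_lt).le hn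
  rw [sub_pow_char_pow_of_commute p n (Commute.one_right _), one_pow, sub_eq_zero] at h1
  rw [Units.val_pow_eq_pow_val, h1, Units.val_one]

theorem up_of_pow [Nontrivial A] {F : FR A} (hL : F.L = Lmax A) {p : ℕ} (hp : p.Prime) (hA : (p : A) = 0) {m : ℕ}
    (hm : m.Coprime p) (h : ∀ u ∈ F.Iso, u ^ m ∈ Dr F) : UP F := by
  refine ⟨hL, fun u hu huni => ?_⟩
  obtain ⟨k, hk⟩ := pow_eq_one_of_uni hp hA huni
  have h1 : u ∈ Subgroup.zpowers (u ^ m) :=
    mem_zpowers_pow_iff.2 (Nat.Coprime.coprime_dvd_right (orderOf_dvd_of_pow_eq_one hk) (hm.pow_right k))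
  exact (Subgroup.zpowers_le.2 (h u hu)) h1

theorem Lmin_eq_Lmax (h2 : IsUnit (2 : A)) : Lmin A = Lmax A := by
  refine le_antisymm Lmin_le_Lmax fun x hx => ?_
  have hx' : star x = -x := hx
  obtain ⟨u, hu⟩ := h2
  have h1 : ∀ y : A, y * (u⁻¹ : Aˣ) = (u⁻¹ : Aˣ) * y := fun y => by
    rw [Units.mul_inv_eq_iff_eq_mul, mul_assoc, hu, mul_two, ← two_mul, ← hu, Units.inv_mul_cancel_left]
  have h3 : star ((u⁻¹ : Aˣ) : A) = (u⁻¹ : Aˣ) := by
    refine Units.eq_inv_of_mul_eq_one_right ?_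
    have h4 : star (u : A) = u := by rw [hu, star_ofNat]
    rw [← h4, ← star_mul, Units.mul_inv, star_one]
  refine ⟨(u⁻¹ : Aˣ) * x, ?_⟩
  rw [star_mul, hx', h3, h1, ← mul_sub, sub_neg_eq_add, ← two_mul, ← hu, Units.inv_mul_cancel_left]

end general

theorem card_coprime (F : Type) [Field F] [Fintype F] (p : ℕ) [CharP F p] : (Fintype.card F - 1).Coprime p := by
  obtain ⟨n, hp, hn⟩ := FiniteField.card F p
  rw [Nat.coprime_comm, Nat.Prime.coprime_iff_not_dvd hp]
  intro h
  have h1 : p ∣ Fintype.card F := hn ▸ dvd_pow_self p n.ne_zero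
  have h2 := (Nat.dvd_sub_iff_right Fintype.card_pos h1).1 h
  exact hp.one_lt.ne' (Nat.dvd_one.1 h2)

theorem eb_natCast {K V : Type} [Field K] [AddCommGroup V] [Module K V] (h : HF K V) (n : ℕ) :
    (n : h.EB) = h.eb ((n : K) • 1) := h.ap_ext fun v => by
  change (n : Module.End K V) v = (n : K) • v
  rw [Module.End.natCast_apply, Nat.cast_smul_eq_nsmul]

theorem eb_char {K V : Type} [Field K] [AddCommGroup V] [Module K V] (h : HF K V) {n : ℕ} (hn : (n : K) = 0) :
    (n : h.EB) = 0 := by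
  rw [eb_natCast, hn, zero_smul]
  rfl

/-! ### linear groups -/

section L

/-- the form structure of the linear groups -/
def frL (ι F : Type) [Fintype ι] [DecidableEq ι] [Field F] : FR (LR ι F) := ⟨LR.mk 1 0, Lmax _, LR.half, Or.inr rfl⟩

/-- the special linear group -/
def phL (ι F : Type) [Fintype ι] [DecidableEq ι] [Field F] : Matrix.SpecialLinearGroup ι F →* (LR ι F)ˣ :=
  LR.gl.comp Matrix.SpecialLinearGroup.toGL

theorem isoL (ι F : Type) [Fintype ι] [DecidableEq ι] [Field F] :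
    (LR.gl (ι := ι) (F := F)).range = (frL ι F).Iso := by
  ext u
  rw [LR.mem_gl]
  exact ⟨fun hu => mem_Iso_max rfl hu, fun hu => hu.1⟩

open Cfsg.Agent.ClassicalGeometry.AutPSL.Auto (itr) in
theorem phL_val {F : Type} [Field F] {n : ℕ} (k : Matrix.SpecialLinearGroup (Fin n) F) :
    (phL (Fin n) F k : LR (Fin n) F) = LR.mk k.1 (itr k).1 := by
  change (LR.gl (Matrix.SpecialLinearGroup.toGL k) : LR (Fin n) F) = _
  rw [LR.gl_val, ← map_inv]
  rfl

theorem phL_transvection {F : Type} [Field F] {n : ℕ} {i j : Fin n} (hij : i ≠ j) (c : F) :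
    (phL (Fin n) F (Matrix.SpecialLinearGroup.transvection hij c) : LR (Fin n) F) - 1 =
      LR.mk (Matrix.single i j c) (Matrix.single j i (-c)) := by
  rw [phL_val, Cfsg.Agent.ClassicalGeometry.AutPSL.Auto.itr_transvection, LR.one_eq, LR.mk_sub]
  change LR.mk (1 + Matrix.single i j c - 1) (1 + Matrix.single j i (-c) - 1) = _
  rw [add_sub_cancel_left, add_sub_cancel_left]

theorem mem_phL {ι F : Type} [Fintype ι] [DecidableEq ι] [Field F] {A : GL ι F} (hA : (A : Matrix ι ι F).det = 1) :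
    LR.gl A ∈ (phL ι F).range := ⟨⟨A, hA⟩, congrArg LR.gl (Units.ext rfl)⟩

theorem datL {F : Type} [Field F] {n : ℕ} (hn : 2 ≤ n) (hn2 : n = 2 → ∃ a : F, a ≠ 0 ∧ a ≠ 1) :
    Dat (frL (Fin n) F) (phL (Fin n) F) := by
  have hnt : Nontrivial (Fin n) := Fin.nontrivial_iff_two_le.2 hn
  have hc : (phL (Fin n) F).range = Dr (frL (Fin n) F) := by
    rw [Dr, ← isoL, comm_range, Cfsg.Agent.S0264.result n hn2, phL, MonoidHom.range_comp]
    congr 1
    ext A
    constructor
    · rintro ⟨k, rfl⟩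
      exact Units.ext k.2
    · intro hA
      exact ⟨⟨A, congrArg Units.val (MonoidHom.mem_ker.1 hA)⟩, Units.ext rfl⟩
  refine ⟨LR.ss, ?_, fun A B H => Subtype.ext (congrArg (fun u : (LR (Fin n) F)ˣ => u.1.1) H), hc⟩
  rw [FR.Span, eq_top_iff]
  intro x _
  obtain ⟨a, b, rfl⟩ := LR.exists_mk x
  set S := Subring.closure ((Subring.center (LR (Fin n) F) : Set (LR (Fin n) F)) ∪
    ((fun u : (LR (Fin n) F)ˣ => (u : LR (Fin n) F)) ''
      (⁅(frL (Fin n) F).Iso, (frL (Fin n) F).Iso⁆ : Subgroup (LR (Fin n) F)ˣ))) with hS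
  have h1 : (LR.mk 1 0 : LR (Fin n) F) ∈ S := Subring.subset_closure (Or.inl (Subring.mem_center_iff.2 fun g => by
    obtain ⟨c, d, rfl⟩ := LR.exists_mk g
    rw [LR.mk_mul, LR.mk_mul, mul_one, one_mul, mul_zero, zero_mul]))
  have h2 : (LR.mk 0 1 : LR (Fin n) F) ∈ S := Subring.subset_closure (Or.inl (Subring.mem_center_iff.2 fun g => by
    obtain ⟨c, d, rfl⟩ := LR.exists_mk g
    rw [LR.mk_mul, LR.mk_mul, mul_one, one_mul, mul_zero, zero_mul]))
  have h3 : ∀ i j, i ≠ j → ∀ c : F, LR.mk (Matrix.single i j c) (Matrix.single j i (-c)) ∈ S := fun i j hij c => by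
    have h4 : (phL (Fin n) F (Matrix.SpecialLinearGroup.transvection hij c) : LR (Fin n) F) ∈ S :=
      Subring.subset_closure (Or.inr ⟨_, by
        change _ ∈ Dr (frL (Fin n) F)
        rw [← hc]
        exact ⟨_, rfl⟩, rfl⟩)
    have h5 := S.sub_mem h4 S.one_mem
    rwa [phL_transvection] at h5
  have h4 : LR.mk a 0 ∈ S := by
    refine mat_ind (fun a => LR.mk a 0 ∈ S) S.zero_mem (fun a b ha hb => ?_) (fun a b ha hb => ?_)
      (fun i j hij c => ?_) a
    · have h5 := S.add_mem ha hb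
      rwa [LR.mk_add, add_zero] at h5
    · have h5 := S.mul_mem ha hb
      rwa [LR.mk_mul, mul_zero] at h5
    · have h5 := S.mul_mem h1 (h3 i j hij c)
      rwa [LR.mk_mul, one_mul, zero_mul] at h5
  have h5 : LR.mk 0 b ∈ S := by
    refine mat_ind (fun a => LR.mk 0 a ∈ S) S.zero_mem (fun a b ha hb => ?_) (fun a b ha hb => ?_)
      (fun i j hij c => ?_) b
    · have h5 := S.add_mem ha hb
      rwa [LR.mk_add, add_zero] at h5
    · have h5 := S.mul_mem ha hb
      rwa [LR.mk_mul, mul_zero] at h5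
    · have h5 := S.mul_mem h2 (h3 j i hij.symm (-c))
      rwa [LR.mk_mul, one_mul, zero_mul, neg_neg] at h5
  have h6 := S.add_mem h4 h5
  rwa [LR.mk_add, add_zero, zero_add] at h6

theorem charL (ι F : Type) [Fintype ι] [DecidableEq ι] [Field F] {p : ℕ} (hp : (p : F) = 0) : (p : LR ι F) = 0 := by
  have h1 : (p : Matrix ι ι F) = 0 := by rw [← map_natCast (algebraMap F (Matrix ι ι F)), hp, map_zero]
  exact Prod.ext h1 h1

theorem powL {ι F : Type} [Fintype ι] [DecidableEq ι] [Field F] [Fintype F] {u : (LR ι F)ˣ}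
    (hu : u ∈ (frL ι F).Iso) : u ^ (Fintype.card F - 1) ∈ (phL ι F).range := by
  rw [← isoL] at hu
  obtain ⟨A, rfl⟩ := hu
  rw [← map_pow]
  refine mem_phL ?_
  rw [Units.val_pow_eq_pow_val, Matrix.det_pow]
  exact FiniteField.pow_card_sub_one_eq_one _ A.det_ne_zero

end L

/-! ### symplectic groups -/

section Sp

open Cfsg.Agent.ClassicalGeometry.SympBasic Cfsg.Agent.ClassicalGeometry.SympAutSemi

theorem exists_lSp (m : ℕ) (F : Type) [Field F] [Fintype F] : ∃ l : (spH m F).EB, l + star l = 1 := by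
  let h := spH m F
  obtain ⟨β, hβ⟩ := exists_half (sympBilin m F) (fun v => sympForm_self v)
  obtain ⟨l, hl⟩ := h.exists_op (fun _ => rfl) β
  refine ⟨l, h.ap_ext fun v => h.ext_right fun u => ?_⟩
  rw [h.ap_add, h.add_right, h.b_star, hl, h.swap v (h.ap l u), hl, h.ap_one]
  change β u v + -1 * β v u = sympBilin m F u v
  rw [← hβ]
  ring

/-- the symplectic group -/
def phSp (m : ℕ) (F : Type) [Field F] : Matrix.symplecticGroup (Fin m) F →* (spH m F).EBˣ :=
  ((matHom (spH m F)).comp (Matrix.symplecticGroup (Fin m) F).subtype).toHomUnits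

theorem ap_phSp {m : ℕ} {F : Type} [Field F] (A : Matrix.symplecticGroup (Fin m) F) (v : Fin m ⊕ Fin m → F) :
    (spH m F).ap (phSp m F A) v = (A : Matrix _ _ F) *ᵥ v := rfl

theorem phSp_inj (m : ℕ) (F : Type) [Field F] : Function.Injective (phSp m F) :=
  fun _ _ H => Subtype.ext (matHom_inj (spH m F) (congrArg Units.val H))

theorem isoSp {m : ℕ} {F : Type} [Field F] [Fintype F] {R : FR (spH m F).EB} (hR : R.L = Lmax _) :
    (phSp m F).range = R.Iso := by
  let h := spH m F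
  ext u
  constructor
  · rintro ⟨A, rfl⟩
    exact mem_Iso_max hR ((h.unit_iff _).2 fun x y => sympForm_mulVec A.2 x y)
  · intro hu
    have h1 := (h.unit_iff u).1 hu.1
    refine ⟨⟨LinearMap.toMatrix' (h.ap u), mem_symplecticGroup_iff.2 fun x y => ?_⟩, Units.ext (matHom_surj h u)⟩
    rw [LinearMap.toMatrix'_mulVec, LinearMap.toMatrix'_mulVec]
    exact h1 x y

theorem phSp_transv {m : ℕ} {F : Type} [Field F] (x : Fin m ⊕ Fin m → F) :
    (phSp m F (transv x 1) : (spH m F).EB) - 1 = (spH m F).eb ((spH m F).ro x x) := (spH m F).ap_ext fun v => by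
  rw [HF.ap_sub, ap_phSp, HF.ap_one, HF.ap_eb, HF.ro_apply]
  change sympTransvection m x 1 *ᵥ v - v = _
  rw [sympTransvection_mulVec, one_mul, add_sub_cancel_left]
  rfl

theorem datSp {m : ℕ} {F : Type} [Field F] [Fintype F] (hm : 0 < m)
    (hperf : commutator (Matrix.symplecticGroup (Fin m) F) = ⊤) {R : FR (spH m F).EB} (hR : R.L = Lmax _) :
    Dat R (phSp m F) := by
  have hnt : Nontrivial (Fin m ⊕ Fin m → F) := by
    have : Nonempty (Fin m ⊕ Fin m) := ⟨Sum.inl ⟨0, hm⟩⟩
    infer_instance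
  let h := spH m F
  have hc : (phSp m F).range = ⁅R.Iso, R.Iso⁆ := by
    rw [← isoSp hR, comm_range, hperf, ← MonoidHom.range_eq_map]
  refine ⟨h.ss, ?_, phSp_inj m F, hc⟩
  refine h.span_top _ (fun c => Subring.subset_closure (Or.inl (h.smul_mem_center c))) {x | x ≠ 0}
    (exists_ne 0) (fun x hx => hx) (fun x _ => ?_) (fun x _ v hv => ⟨0, ?_, by rwa [zero_smul, add_zero]⟩)
  · rw [← phSp_transv]
    refine Subring.sub_mem _ (Subring.subset_closure (Or.inr ⟨phSp m F (transv x 1), ?_, rfl⟩)) (Subring.one_mem _)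
    rw [← hc]
    exact ⟨_, rfl⟩
  · rw [zero_smul, add_zero]
    rintro rfl
    exact hv (h.zero_left x)

end Sp

/-! ### unitary groups -/

section U

open Cfsg.Agent.LieClassical.HermBasic Cfsg.Agent.LieClassical.HermSiegel

variable {n q : ℕ} {F : Type} [Field F] [Fintype F] (hF : Fintype.card F = q ^ 2)

theorem exists_lU (n : ℕ) : ∃ l : (unH n hF).EB, l + star l = 1 := by
  let h := unH n hF
  obtain ⟨c, hc1⟩ := exists_trace_eq hF (one_pow q)
  refine ⟨h.eb (c • 1), h.ap_ext fun v => h.ext_right fun u => ?_⟩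
  rw [h.ap_add, h.add_right, h.b_star, h.ap_one, h.ap_eb, LinearMap.smul_apply, LinearMap.smul_apply,
    h.smul_right, h.smul_left]
  change c ^ q * h.b u v + c * h.b u v = h.b u v
  rw [← add_mul, add_comm, hc1, one_mul]

/-- the special unitary group -/
def phU (n : ℕ) : SU n F q →* (unH n hF).EBˣ :=
  ((matHom (unH n hF)).comp (⟨⟨mat, mat_one⟩, mat_mul⟩ : SU n F q →* Matrix (Fin n) (Fin n) F)).toHomUnits

theorem ap_phU (A : SU n F q) (v : Fin n → F) : (unH n hF).ap (phU hF n A) v = act A v := rfl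

theorem phU_inj (n : ℕ) : Function.Injective (phU hF n) :=
  fun _ _ H => mat_injective (matHom_inj (unH n hF) (congrArg Units.val H))

theorem mem_phU {u : (unH n hF).EBˣ} (hu : (u : (unH n hF).EB) * star (u : (unH n hF).EB) = 1)
    (hd : detU (unH n hF) u = 1) : u ∈ (phU hF n).range := by
  let h := unH n hF
  have h1 := (h.unit_iff _).1 hu
  refine ⟨mkSU (LinearMap.toMatrix' (h.ap u)) ?_ fun x y => ?_, Units.ext (matHom_surj h _)⟩
  · rw [LinearMap.det_toMatrix', ← detU_val, hd, Units.val_one]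
  · rw [LinearMap.toMatrix'_mulVec, LinearMap.toMatrix'_mulVec]
    exact h1 x y

theorem phU_le {R : FR (unH n hF).EB} (hR : R.L = Lmax _) : (phU hF n).range ≤ R.Iso := by
  rintro _ ⟨A, rfl⟩
  exact mem_Iso_max hR (((unH n hF).unit_iff _).2 fun x y => herm_act A x y)

theorem Dr_le_phU (R : FR (unH n hF).EB) : Dr R ≤ (phU hF n).range := by
  rw [Dr, Subgroup.commutator_le]
  intro a ha b hb
  have hu : ⁅a, b⁆ ∈ R.Iso := by
    rw [commutatorElement_def]
    exact mul_mem (mul_mem (mul_mem ha hb) (inv_mem ha)) (inv_mem hb)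
  refine mem_phU hF hu.1 ?_
  rw [map_commutatorElement, commutatorElement_eq_one_iff_mul_comm, mul_comm]

theorem phU_siegel {x : Fin n → F} {μ : F} (hs : IsSiegel q x 0 μ) :
    (phU hF n (siegel hF x 0 μ hs) : (unH n hF).EB) - 1 = (unH n hF).eb (μ • (unH n hF).ro x x) :=
  (unH n hF).ap_ext fun v => by
    rw [HF.ap_sub, ap_phU, HF.ap_one, HF.ap_eb, LinearMap.smul_apply, HF.ro_apply, act_siegel, smul_zero, add_zero,
      herm_zero_right hF, sub_zero, add_sub_cancel_left, smul_smul]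
    rfl

theorem datU (hn : 2 ≤ n) (hperf : commutator (SU n F q) = ⊤) {R : FR (unH n hF).EB} (hR : R.L = Lmax _) :
    Dat R (phU hF n) := by
  have hnt : Nontrivial (Fin n → F) := by
    have : Nonempty (Fin n) := ⟨⟨0, by omega⟩⟩
    infer_instance
  let h := unH n hF
  have hc : (phU hF n).range = ⁅R.Iso, R.Iso⁆ := by
    refine le_antisymm ?_ (Dr_le_phU hF R)
    have e : (phU hF n).range = ⁅(phU hF n).range, (phU hF n).range⁆ := by
      rw [comm_range, hperf, ← MonoidHom.range_eq_map]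
    rw [e]
    exact Subgroup.commutator_mono (phU_le hF hR) (phU_le hF hR)
  refine ⟨h.ss, ?_, phU_inj hF n, hc⟩
  obtain ⟨e, f, H⟩ := Cfsg.Agent.ClassicalGeometry.PSUAutBasic.exists_frame (F := F) (q := q) (n := n) hF hn
  have he : e ≠ 0 := by
    rintro rfl
    exact zero_ne_one ((herm_zero_left f).symm.trans H.ef)
  obtain ⟨μ, hμ0, hμ⟩ := exists_trace_zero_ne hF
  refine h.span_top _ (fun c => Subring.subset_closure (Or.inl (h.smul_mem_center c)))
    {x | x ≠ 0 ∧ hermForm n F q x x = 0} ⟨e, he, H.ee⟩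
    (fun x hx => hx.1) (fun x hx => ?_) (fun x hx v hv => ?_)
  · have hs : IsSiegel q x 0 μ := ⟨hx.2, herm_zero_left x, by rw [herm_zero_left, add_zero, hμ]⟩
    have e1 : h.eb (h.ro x x) = h.eb (μ⁻¹ • 1) * ((phU hF n (siegel hF x 0 μ hs) : h.EB) - 1) := by
      rw [phU_siegel, ← h.eb_smul, smul_smul, inv_mul_cancel₀ hμ0, one_smul]
    rw [e1]
    refine Subring.mul_mem _ (Subring.subset_closure (Or.inl (h.smul_mem_center _))) (Subring.sub_mem _
      (Subring.subset_closure (Or.inr ⟨phU hF n (siegel hF x 0 μ hs), ?_, rfl⟩)) (Subring.one_mem _))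
    rw [← hc]
    exact ⟨_, rfl⟩
  · have hv' : hermForm n F q v x ≠ 0 := hv
    have hxv : hermForm n F q x v ≠ 0 := h.ne_swap hv
    obtain ⟨t, ht⟩ := exists_trace_eq hF (c := -hermForm n F q v v) (by rw [neg_pow_q hF, herm_self_pow hF])
    have h1 : hermForm n F q (v + (t / hermForm n F q x v) • x) x = hermForm n F q v x := by
      rw [herm_add_left, herm_smul_left, hx.2, mul_zero, add_zero]
    refine ⟨t / hermForm n F q x v, ⟨fun h0 => hv' ?_, ?_⟩, fun h0 => hv' (h1.symm.trans h0)⟩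
    · rw [← h1, h0, herm_zero_left]
    · rw [herm_add_right hF, herm_smul_right, h1, herm_add_left, herm_smul_left, div_mul_cancel₀ _ hxv,
        herm_swap hF x v, ← mul_pow, div_mul_cancel₀ _ hxv, add_assoc, ht, add_neg_cancel]

theorem powU {R : FR (unH n hF).EB} {u : (unH n hF).EBˣ} (hu : u ∈ R.Iso) :
    u ^ (Fintype.card F - 1) ∈ (phU hF n).range := by
  refine mem_phU hF (pow_mem hu _).1 (Units.ext ?_)
  rw [map_pow, Units.val_pow_eq_pow_val, Units.val_one]
  exact FiniteField.pow_card_sub_one_eq_one _ (Units.ne_zero _)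

end U

/-! ### orthogonal groups -/

section O

open QuadraticMap Cfsg.Agent.LieClassical.OrthCore Cfsg.Agent.LieClassical.OrthTrans

variable {F V : Type} [Field F] [Finite F] [AddCommGroup V] [Module F V] [Finite V] {Q : QuadraticForm F V}
  (hQ : Nondeg Q)

theorem exists_lO : ∃ l : (orH Q hQ).EB, l + star l = 1 ∧ ∀ v, polar Q v ((orH Q hQ).ap l v) = Q v := by
  have : Module.Finite F V := Module.Finite.of_finite
  let h := orH Q hQ
  obtain ⟨β, hβ⟩ := LinearMap.BilinMap.toQuadraticMap_surjective Q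
  obtain ⟨l, hl⟩ := h.exists_op (fun _ => rfl) β
  refine ⟨l, h.ap_ext fun v => h.ext_right fun u => ?_, fun v => ?_⟩
  · rw [h.ap_add, h.add_right, h.b_star, hl, h.swap v (h.ap l u), hl, h.ap_one]
    change β u v + 1 * β v u = polar Q u v
    rw [one_mul, ← hβ, LinearMap.BilinMap.polar_toQuadraticMap]
  · have h1 : β v v = Q v := by rw [← hβ, LinearMap.BilinMap.toQuadraticMap_apply]
    rw [← h1]
    exact hl v v

/-- linear automorphisms as units -/
def psO {K W : Type} [Field K] [AddCommGroup W] [Module K W] (h : HF K W) : (W ≃ₗ[K] W) →* h.EBˣ :=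
  MonoidHom.toHomUnits
    { toFun := fun g => h.eb g
      map_one' := rfl
      map_mul' := fun _ _ => rfl }

theorem ap_psO {K W : Type} [Field K] [AddCommGroup W] [Module K W] (h : HF K W) (g : W ≃ₗ[K] W) (v : W) :
    h.ap (psO h g) v = g v := rfl

theorem psO_inj {K W : Type} [Field K] [AddCommGroup W] [Module K W] (h : HF K W) : Function.Injective (psO h) :=
  fun g g' H => LinearEquiv.ext fun v => by rw [← ap_psO h, ← ap_psO h, H]

theorem psO_surj {K W : Type} [Field K] [AddCommGroup W] [Module K W] (h : HF K W) : Function.Surjective (psO h) :=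
  fun u => ⟨LinearEquiv.ofLinearMap (h.ap u) (h.ap (u⁻¹ : h.EBˣ))
    (LinearMap.ext fun v => by rw [LinearMap.comp_apply, ← h.ap_mul, Units.mul_inv]; rfl)
    (LinearMap.ext fun v => by rw [LinearMap.comp_apply, ← h.ap_mul, Units.inv_mul]; rfl),
    Units.ext (h.ap_ext fun _ => rfl)⟩

theorem isoO {R : FR (orH Q hQ).EB} (hR : R.L = Lmin _) (hl : ∀ v, polar Q v ((orH Q hQ).ap R.l v) = Q v) :
    (O Q).map (psO (orH Q hQ)) = R.Iso := by
  let h := orH Q hQ
  ext u
  constructor
  · rintro ⟨g, hg, rfl⟩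
    have hg' : ∀ v, Q (g v) = Q v := hg
    have h1 : ∀ x y, h.b (h.ap (psO h g) x) (h.ap (psO h g) y) = h.b x y := fun x y => polar_map hg x y
    have h2 := (h.unit_iff _).2 h1
    refine ⟨h2, ?_⟩
    rw [hR]
    refine (mem_Lmin_iff Q hQ _).2 fun v => ?_
    change h.b v (h.ap (psO h g * R.l * star (psO h g : h.EB) - R.l) v) = 0
    rw [h.ap_sub, h.sub_right, h.ap_mul, h.ap_mul, ← h.star_b]
    change polar Q _ _ - polar Q _ _ = 0
    rw [hl, hl, ← hg', ← ap_psO h, ← h.ap_mul, h2, h.ap_one, sub_self]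
  · intro hu
    have h0 := hu.2
    rw [hR] at h0
    have h1 := (mem_Lmin_iff Q hQ _).1 h0
    obtain ⟨g, rfl⟩ := psO_surj h u
    refine ⟨g, fun v => ?_, rfl⟩
    have h2 : h.b (h.ap (psO h g) v) (h.ap (psO h g * R.l * star (psO h g : h.EB) - R.l) (h.ap (psO h g) v)) = 0 :=
      h1 (h.ap (psO h g) v)
    have h3 : star (psO h g : h.EB) * psO h g = 1 := by
      have h4 : star (psO h g : h.EB) = ((psO h g)⁻¹ : h.EBˣ) := Units.eq_inv_of_mul_eq_one_left hu.1
      rw [h4, Units.inv_mul]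
    rw [h.ap_sub, h.sub_right, h.ap_mul, h.ap_mul, ← h.star_b, ← h.ap_mul (star (psO h g : h.EB)), h3,
      h.ap_one] at h2
    change polar Q _ _ - polar Q _ _ = 0 at h2
    rw [hl, hl, sub_eq_zero] at h2
    exact h2.symm

omit [Finite F] [Finite V] in
theorem psO_siegel {x s : V} (hx : Q x = 0) (hs : polar Q x s = 0) (hQs : Q s = 0) (v : V) :
    (orH Q hQ).ap ((psO (orH Q hQ) (siegel Q x s hx hs) : (orH Q hQ).EB) - 1) v =
      polar Q x v • s - polar Q s v • x := by
  rw [HF.ap_sub, ap_psO, HF.ap_one, siegel_apply, hQs, zero_mul, zero_smul]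
  abel

theorem datO (hG : Good Q) {R : FR (orH Q hG.nondeg).EB} (hR : R.L = Lmin _)
    (hl : ∀ v, polar Q v ((orH Q hG.nondeg).ap R.l v) = Q v) :
    Dat R ((psO (orH Q hG.nondeg)).comp (E Q).subtype) := by
  have : Module.Finite F V := Module.Finite.of_finite
  obtain ⟨x₀, hx₀, hQx₀⟩ := hG.sing
  have hnt : Nontrivial V := ⟨x₀, 0, hx₀⟩
  let h := orH Q hG.nondeg
  have hc : ((psO h).comp (E Q).subtype).range = ⁅R.Iso, R.Iso⁆ := by
    rw [← isoO hG.nondeg hR hl, ← Subgroup.map_commutator, hG.commutator_eq_E, MonoidHom.range_comp,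
      Subgroup.range_subtype]
  refine ⟨h.ss, ?_, (psO_inj h).comp Subtype.val_injective, hc⟩
  refine h.span_top _ (fun c => Subring.subset_closure (Or.inl (h.smul_mem_center c))) {x | x ≠ 0 ∧ Q x = 0}
    ⟨x₀, hx₀, hQx₀⟩ (fun x hx => hx.1) (fun x hx => ?_) (fun x hx v hv => ?_)
  · obtain ⟨y, hy⟩ := exists_hyp hG.nondeg hx.2 hx.1
    obtain ⟨z, w, hzw, h1, h2, -, -⟩ := hG.exists_hyp2 hy
    have hmem : ∀ (s : V) (hs : polar Q x s = 0), (psO h (siegel Q x s hx.2 hs) : h.EB) - 1 ∈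
        Subring.closure ((Subring.center h.EB : Set h.EB) ∪
          ((fun u : h.EBˣ => (u : h.EB)) '' (⁅R.Iso, R.Iso⁆ : Subgroup h.EBˣ))) := fun s hs => by
      refine Subring.sub_mem _ (Subring.subset_closure (Or.inr ⟨psO h (siegel Q x s hx.2 hs), ?_, rfl⟩))
        (Subring.one_mem _)
      rw [← hc]
      exact ⟨⟨_, siegel_mem_E hx.2 hs⟩, rfl⟩
    have hxx : polar Q x x = 0 := by rw [polar_self, hx.2, smul_zero]
    have e : h.eb (h.ro x x) =
        -(((psO h (siegel Q x z hx.2 h1) : h.EB) - 1) * ((psO h (siegel Q x w hx.2 h2) : h.EB) - 1)) := by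
      rw [eq_neg_iff_add_eq_zero]
      apply h.ap_ext
      intro v
      rw [h.ap_add, h.ap_mul, psO_siegel hG.nondeg hx.2 h1 hzw.left, psO_siegel hG.nondeg hx.2 h2 hzw.right, h.ap_eb,
        h.ro_apply, polar_sub_right, polar_sub_right, polar_smul_right, polar_smul_right, polar_smul_right,
        polar_smul_right, h2, hxx, hzw.pair, polar_comm Q z x, h1]
      change polar Q v x • x + _ = (0 : V)
      rw [polar_comm Q v x]
      simp
    rw [e]
    exact Subring.neg_mem _ (Subring.mul_mem _ (hmem z h1) (hmem w h2))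
  · have hv' : polar Q v x ≠ 0 := hv
    have hxx : polar Q x x = 0 := by rw [polar_self, hx.2, smul_zero]
    have h1 : polar Q (v + (-(Q v) / polar Q v x) • x) x = polar Q v x := by
      rw [polar_add_left, polar_smul_left, hxx, smul_zero, add_zero]
    refine ⟨-(Q v) / polar Q v x, ⟨fun h0 => hv' ?_, ?_⟩, fun h0 => hv' (h1.symm.trans h0)⟩
    · rw [← h1, h0, polar_zero_left]
    · rw [QuadraticMap.map_add (⇑Q), QuadraticMap.map_smul, hx.2, smul_zero, add_zero, polar_smul_right,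
        smul_eq_mul]
      field_simp
      ring

omit [Finite F] [Finite V] in
/-- squares of isometries -/
theorem sq_mem_E (hG : Good Q) {g : V ≃ₗ[F] V} (hg : g ∈ O Q) : g * g ∈ E Q := by
  have : FiniteDimensional F V := Module.finite_of_finrank_pos (by have := hG.dim; omega)
  have hle : Subgroup.closure (reflSet Q ∪ siegelSet Q) ≤ O Q := (O_eq_closure hG.nondeg).ge
  rw [O_eq_closure hG.nondeg] at hg
  induction hg using Subgroup.closure_induction with
  | mem x hx =>
    rcases hx with ⟨v, hv, rfl⟩ | ⟨u, w, hu, hw, rfl⟩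
    · rw [refl_mul_self]; exact one_mem _
    · exact mul_mem (siegel_mem_E hu hw) (siegel_mem_E hu hw)
  | one => rw [mul_one]; exact one_mem _
  | mul x y hx hy ihx ihy =>
    have e : x * y * (x * y) = (x * y * x⁻¹ * y⁻¹) * (y * (x * x) * y⁻¹) * (y * y) := by group
    rw [e]
    refine mul_mem (mul_mem ?_ (conj_mem_E (hle hy) ihx)) ihy
    exact hG.commutator_le_E (Subgroup.commutator_mem_commutator (hle hx) (hle hy))
  | inv x hx ih =>
    have e : x⁻¹ * x⁻¹ = (x * x)⁻¹ := by group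
    rw [e]
    exact inv_mem ih

end O

end Cfsg.Agent.Cam.Cl.Tp
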