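import Cfsg.Agent.Cam.Cl.Base
import Cfsg.Agent.Cam.Cl.TopDat
import Cfsg.Agent.DS.Cl.Mod
import Cfsg.Agent.DS.Cl.Vec
import Cfsg.Agent.S0144

/-!
# S3689, classical groups, `BoxQS`: tools (helper12)

* quasisimple and solvable groups: `qs_top`, `qs_range`, `qs_simple`, `solv_of_le`, `SL₂`;
* `transport` : `QSC` along a ring isomorphism; `of_star` : along an isomorphism of rings with involution;
* the ring of a form: rank one unipotent elements (`tyR_ro`), dimension two (`tyI_EB`), `exists_iso`.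
-/

set_option autoImplicit false

namespace Cfsg.Agent.Cam.Cl.Qs

open Cfsg Cfsg.Agent.DS.Cl Cfsg.Agent.DS.Cl.Fwd Cfsg.Agent.Cam.Cl
open scoped Matrix MatrixGroups commutatorElement

section grp

variable {K G : Type} [Group K] [Group G]

theorem qs_top (hp : commutator K = ⊤) (hs : IsSimpleGroup (K ⧸ Subgroup.center K)) : QS (⊤ : Subgroup K) := by
  refine ⟨by rw [← commutator_def, hp], fun hc => ?_, fun N _ hn => ?_⟩
  · obtain ⟨x, hx⟩ := exists_ne (1 : K ⧸ Subgroup.center K)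
    obtain ⟨x, rfl⟩ := QuotientGroup.mk_surjective x
    exact hx ((QuotientGroup.eq_one_iff x).2 (Subgroup.mem_center_iff.2 fun g => hc g trivial x trivial))
  · have hN : N.Normal := ⟨fun n hn' g => hn g trivial n hn'⟩
    rcases (hN.map _ (QuotientGroup.mk'_surjective (Subgroup.center K))).eq_bot_or_eq_top with h | h
    · right
      intro n hn' t _
      have h1 : QuotientGroup.mk' (Subgroup.center K) n ∈ N.map (QuotientGroup.mk' (Subgroup.center K)) :=
        ⟨n, hn', rfl⟩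
      rw [h, Subgroup.mem_bot] at h1
      exact (Subgroup.mem_center_iff.1 ((QuotientGroup.eq_one_iff n).1 h1) t).symm
    · left
      have h1 : ∀ g : K, ∃ n ∈ N, ∃ z ∈ Subgroup.center K, g = n * z := fun g => by
        have h2 : QuotientGroup.mk' (Subgroup.center K) g ∈ N.map (QuotientGroup.mk' (Subgroup.center K)) := by
          rw [h]; trivial
        obtain ⟨n, hn', h3⟩ := h2
        exact ⟨n, hn', n⁻¹ * g, QuotientGroup.eq.1 h3, by group⟩
      rw [eq_top_iff, ← hp, commutator_def, Subgroup.commutator_le]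
      intro a _ b _
      obtain ⟨n, hn', z, hz, rfl⟩ := h1 a
      have h2 : ⁅n * z, b⁆ = n * (b * n⁻¹ * b⁻¹) := by
        rw [commutatorElement_def, mul_assoc n z, ← Subgroup.mem_center_iff.1 hz b]
        group
      rw [h2]
      exact mul_mem hn' (hN.conj_mem _ (inv_mem hn') b)

theorem qs_range (h : QS (⊤ : Subgroup K)) (f : K →* G) (hf : ∀ k, f k = 1 → k ∈ Subgroup.center K) :
    QS f.range := by
  rw [MonoidHom.range_eq_map]
  exact h.map f fun t _ ht s _ => (Subgroup.mem_center_iff.1 (hf t ht) s).symm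

theorem qs_inj {T : Subgroup K} (h : QS T) (f : K →* G) (hf : Function.Injective f) : QS (T.map f) :=
  h.map f fun t _ ht s _ => by rw [(injective_iff_map_eq_one f).1 hf t ht, one_mul, mul_one]

theorem qs_equiv (h : QS (⊤ : Subgroup K)) (e : K ≃* G) : QS (⊤ : Subgroup G) := by
  have h1 := qs_inj h e.toMonoidHom e.injective
  rwa [← MonoidHom.range_eq_map, MonoidHom.range_eq_top.2 e.surjective] at h1

theorem qs_simple (T : Subgroup G) (hs : IsSimpleGroup T) (hc : ¬ Cm T T) : QS T := by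
  have h1 : ∀ N : Subgroup G, N ≤ T → Nm T N → N = T ∨ N = ⊥ := fun N hN hn => by
    have h2 : (N.subgroupOf T).Normal := ⟨fun n hn' g => hn g g.2 n hn'⟩
    rcases h2.eq_bot_or_eq_top with h | h
    · right
      rw [Subgroup.subgroupOf_eq_bot] at h
      exact h.eq_bot_of_le hN
    · exact Or.inl (le_antisymm hN (Subgroup.subgroupOf_eq_top.1 h))
  refine ⟨?_, hc, fun N hN hn => (h1 N hN hn).imp_right ?_⟩
  · rcases h1 ⁅T, T⁆ (nm_self T).commutator_le ((nm_self T).commutator (nm_self T)) with h | h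
    · exact h.ge
    · exact absurd (cm_iff_bot.2 h) hc
  · rintro rfl s hs t _
    rw [Subgroup.mem_bot.1 hs, one_mul, mul_one]

theorem solv_of_le {T : Subgroup G} (hK : Group.IsSolvable K) (f : K →* G) (h : T ≤ f.range) : Group.IsSolvable T :=
  have : Group.IsSolvable f.range := Group.isSolvable_of_surjective f.rangeRestrict_surjective
  Group.isSolvable_of_isSolvable_injective (Subgroup.inclusion_injective h)

theorem solv_map {T : Subgroup K} (h : Group.IsSolvable T) (f : K →* G) : Group.IsSolvable (T.map f) :=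
  solv_of_le h (f.comp T.subtype) (by rw [MonoidHom.range_comp, Subgroup.range_subtype])

theorem cm_map {S T : Subgroup K} (h : Cm S T) (f : K →* G) : Cm (S.map f) (T.map f) := by
  rintro _ ⟨s, hs, rfl⟩ _ ⟨t, ht, rfl⟩
  rw [← map_mul, ← map_mul, h s hs t ht]

/-- the commutator group of a subgroup -/
theorem comm_equiv {S : Subgroup G} (e : K ≃* S) :
    (commutator K).map (S.subtype.comp e.toMonoidHom) = ⁅S, S⁆ := by
  rw [← comm_range, MonoidHom.range_comp, MonoidHom.range_eq_top.2 e.surjective, ← MonoidHom.range_eq_map,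
    Subgroup.range_subtype]

theorem solv_dihedral (n : ℕ) : Group.IsSolvable (commutator (DihedralGroup n)) := by
  let f : Multiplicative (ZMod n) →* DihedralGroup n :=
    { toFun := fun i => DihedralGroup.r i.toAdd
      map_one' := rfl
      map_mul' := fun i j => by rw [DihedralGroup.r_mul_r]; rfl }
  refine solv_of_le inferInstance f ?_
  rw [commutator_def, Subgroup.commutator_le]
  rintro (a | a) - (b | b) - <;>
    simp only [commutatorElement_def, DihedralGroup.r_mul_r, DihedralGroup.r_mul_sr, DihedralGroup.sr_mul_r,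
      DihedralGroup.sr_mul_sr, DihedralGroup.inv_r, DihedralGroup.inv_sr] <;> exact ⟨Multiplicative.ofAdd _, rfl⟩

end grp

section sl2

variable {K : Type} [Field K] [Fintype K]

theorem qs_sl2 (h : 4 ≤ Fintype.card K) : QS (⊤ : Subgroup SL(2, K)) := by
  obtain ⟨a, ha, ha'⟩ := Vec.exists_sq_ne h
  exact qs_top (Matrix.SL2.commutator_eq_top ha ha')
    (Matrix.ProjectiveSpecialLinearGroup.rank_two_simple' ⟨a, ha, ha'⟩)

theorem solv_sl2 (h : ¬ 4 ≤ Fintype.card K) : Group.IsSolvable SL(2, K) := by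
  have h0 := Cfsg.Agent.S0242.result (F := K) rfl 2 (by norm_num)
  rcases Vec.card_cases K with h | h | h
  · rw [h] at h0
    simp only [Fin.prod_univ_two] at h0
    exact Cfsg.Agent.S0144.result 2 3 1 1 Nat.prime_two Nat.prime_three
      (show Nat.card SL(2, K) = 6 by simpa using h0)
  · rw [h] at h0
    simp only [Fin.prod_univ_two] at h0
    have h1 : Nat.card SL(2, K) = 24 := by
      simp at h0
      omega
    exact Cfsg.Agent.S0144.result 2 3 3 1 Nat.prime_two Nat.prime_three h1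
  · contradiction

theorem exists_ne_of_four (h : 3 ≤ Fintype.card K) : ∃ a : K, a ≠ 0 ∧ a ≠ 1 := by
  classical
  by_contra hcon
  push Not at hcon
  have h1 : (Finset.univ : Finset K) ⊆ {0, 1} := by
    intro a _
    by_cases ha : a = 0
    · simp [ha]
    · simp [hcon a ha]
  have h2 := Finset.card_le_card h1
  have h3 : ({0, 1} : Finset K).card ≤ 2 := Finset.card_le_two
  rw [Finset.card_univ] at h2
  omega

omit [Fintype K] in
/-- Cayley-Hamilton in dimension two -/
theorem add_inv_mat {a b : Matrix (Fin 2) (Fin 2) K} (hab : a * b = 1) (hd : a.det = 1) : a + b = a.trace • 1 := by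
  have h1 : b = a.adjugate := by
    rw [← one_mul b, ← one_smul K (1 : Matrix (Fin 2) (Fin 2) K), ← hd, ← Matrix.adjugate_mul, mul_assoc, hab, mul_one]
  rw [h1, Matrix.adjugate_fin_two, Matrix.trace_fin_two]
  ext i j
  fin_cases i <;> fin_cases j <;> simp [add_comm]

omit [Fintype K] in
/-- involutions of determinant one in dimension three -/
theorem trace_invol_mat {a : Matrix (Fin 3) (Fin 3) K} (ha : a * a = 1) (hd : a.det = 1) : a = 1 ∨ a.trace = -1 := by
  have h1 : a = a.adjugate := by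
    conv_lhs => rw [← one_mul a, ← one_smul K (1 : Matrix (Fin 3) (Fin 3) K), ← hd, ← Matrix.adjugate_mul, mul_assoc,
      ha, mul_one]
  have h2 : a.adjugate = a * a - a.trace • a + a.adjugate.trace • 1 := by
    rw [Matrix.adjugate_fin_three, Matrix.trace_fin_three, Matrix.trace_fin_three]
    ext i j
    fin_cases i <;> fin_cases j <;> simp [Matrix.mul_apply, Fin.sum_univ_three] <;> ring
  rw [← h1, ha] at h2
  have h3 : (1 + a.trace) • (a - 1) = 0 := by
    rw [add_smul, one_smul, smul_sub]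
    conv_lhs => enter [1, 1]; rw [h2]
    abel
  rcases smul_eq_zero.1 h3 with h | h
  · exact Or.inr (eq_neg_of_add_eq_zero_right h)
  · exact Or.inl (sub_eq_zero.1 h)

end sl2

section transport

variable {A B : Type} [Ring A] [Ring B] (e : A ≃+* B)

/-- the map of unit groups -/
def uE : Aˣ →* Bˣ := Units.map (e : A →* B)

theorem uE_val (u : Aˣ) : (uE e u : B) = e u := rfl

theorem uE_inj : Function.Injective (uE e) := fun _ _ h => Units.ext (e.injective (congrArg Units.val h))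

theorem cen_map {c : A} (hc : c ∈ Subring.center A) : e c ∈ Subring.center B := by
  rw [Subring.mem_center_iff] at hc ⊢
  intro b
  obtain ⟨a, rfl⟩ := e.surjective b
  rw [← map_mul, ← map_mul, hc]

theorem Bd_uE (T : Subgroup Aˣ) : Bd (T.map (uE e)) = (Bd T).map (e : A →+* B) := by
  refine le_antisymm (Bd_le (fun c hc => ⟨e.symm c, cen_mem_Bd _ (cen_map e.symm hc), e.apply_symm_apply c⟩) ?_) ?_
  · rintro _ ⟨t, ht, rfl⟩
    exact ⟨t, mem_Bd ht, rfl⟩
  · rw [Subring.map_le_iff_le_comap]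
    exact Bd_le (fun c hc => cen_mem_Bd _ (cen_map e hc)) fun t ht => mem_Bd (t := uE e t) ⟨t, ht, rfl⟩

theorem simple_Bd {T : Subgroup Aˣ} (h : IsSimpleRing (Bd T)) : IsSimpleRing (Bd (T.map (uE e))) := by
  rw [Bd_uE]
  exact IsSimpleRing.of_ringEquiv (e.subringMap (s := Bd T)) h

theorem uni_uE {v : Aˣ} (h : Uni v) : Uni (uE e v) := by
  have h1 := IsNilpotent.map h (e : A →+* B)
  rwa [map_sub, map_one] at h1

theorem uE_ne {v : Aˣ} (h : v ≠ 1) : uE e v ≠ 1 := fun h1 => h ((injective_iff_map_eq_one _).1 (uE_inj e) v h1)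

theorem hasUni_uE {T : Subgroup Aˣ} (h : HasUni T) : HasUni (T.map (uE e)) := by
  obtain ⟨v, hv, h1, h2⟩ := h
  exact ⟨_, ⟨v, hv, rfl⟩, uE_ne e h1, uni_uE e h2⟩

theorem tyI_uE {T : Subgroup Aˣ} (h : TyI T) : TyI (T.map (uE e)) := by
  rintro _ ⟨s, hs, rfl⟩ _ ⟨t, ht, rfl⟩
  rw [← map_inv, uE_val, uE_val, uE_val, ← map_add, ← map_mul, ← map_mul, h s hs t ht]

theorem noCen_uE {T : Subgroup Aˣ} (h : NoCen T) : NoCen (T.map (uE e)) := by
  rintro _ ⟨t, ht, rfl⟩ h1
  rw [h t ht fun s hs => uE_inj e (by rw [map_mul, map_mul]; exact h1 _ ⟨s, hs, rfl⟩), map_one]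

theorem ty_uE {T : Subgroup Aˣ} (h : Ty T 1) : Ty (T.map (uE e)) 1 := by
  have hs : ∀ v : Aˣ, (uE e v : B) - 1 = e ((v : A) - 1) := fun v => by rw [map_sub, map_one, uE_val]
  rcases h with ⟨v, hv, h1, h2, a, f, h3, h4, h5⟩ | ⟨v, hv, j, h1, h2, h3, h4⟩ | h | ⟨h1, h2, h3⟩ |
    ⟨h1, h2, h3, t, ht, h4, h5, s, hs', s', h6, h7⟩
  · refine Or.inl ⟨_, ⟨v, hv, rfl⟩, uE_ne e h1, uni_uE e h2, e a, e f, ?_, ?_, ?_⟩
    · rw [hs, ← map_mul, h3, map_zero]
    · rw [hs, ← map_mul, h4, map_zero]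
    · rw [← map_one e, ← map_mul, ← map_mul]
      exact (map_ne_zero_iff e e.injective).2 h5
  · refine Or.inr (Or.inl ⟨_, ⟨v, hv, rfl⟩, j, h1, ?_, ?_, ?_⟩)
    · rw [hs, ← map_pow, h2, map_zero]
    · rw [hs, ← map_pow]
      exact (map_ne_zero_iff e e.injective).2 h3
    · rw [← map_natCast e]
      exact h4.map e
  · exact Or.inr (Or.inr (Or.inl (tyI_uE e h)))
  · refine Or.inr (Or.inr (Or.inr (Or.inl ⟨?_, noCen_uE e h2, ?_⟩)))
    · rw [← map_ofNat e]
      exact h1.map e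
    · rintro _ ⟨a, ha, rfl⟩ _ ⟨b, hb, rfl⟩ g1 g2 g3 g4 g5 g6
      have h4 := congrArg e (h3 a ha b hb (uE_inj e (by rw [map_mul, g1, map_one]))
        (uE_inj e (by rw [map_mul, g2, map_one])) (uE_inj e (by rw [map_mul, map_mul, g3]))
        (fun h => g4 (by rw [h, map_one])) (fun h => g5 (by rw [h, map_one])) (fun h => g6 (by rw [h])))
      rwa [map_mul, map_mul, map_add, map_add, map_one, map_zero] at h4
  · refine Or.inr (Or.inr (Or.inr (Or.inr ⟨?_, noCen_uE e h2, ?_, _, ⟨t, ht, rfl⟩, by rw [← map_pow, h4, map_one],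
      uE_ne e h5, e s, ?_, e s', by rw [← map_mul, h6, map_one], by rw [uE_val, ← map_pow, ← map_mul, ← map_mul, h7]⟩)))
    · rw [← map_ofNat e, h1, map_zero]
    · rintro _ ⟨w, hw, rfl⟩ g1 g2
      have h8 := congrArg e (h3 w hw (uE_inj e (by rw [map_pow, g1, map_one])) fun h => g2 (by rw [h, map_one]))
      simp only [map_mul, map_add, map_one, map_zero, map_pow] at h8
      exact h8
    · have h8 : Subring.closure (insert (1 : A) ((fun u : Aˣ => (u : A)) '' T)) ≤ (Subring.closure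
          (insert (1 : B) ((fun u : Bˣ => (u : B)) '' (T.map (uE e))))).comap (e : A →+* B) := by
        rw [Subring.closure_le]
        rintro x (rfl | ⟨u, hu, rfl⟩)
        · exact Subring.one_mem _
        · exact Subring.subset_closure (Or.inr ⟨_, ⟨u, hu, rfl⟩, rfl⟩)
      exact h8 hs'

variable [StarRing A] [StarRing B]

theorem transport {F : FR A} {F' : FR B} (hD : Dr F' = (Dr F).map (uE e)) (hL : F.L ≠ Lmax A → F'.L ≠ Lmax B)
    (h : QSC F) : QSC F' := by
  rcases h with h | ⟨h1, h2, h3, h4⟩ | ⟨h1, Y₁, Y₂, h2, h3, h4⟩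
  · exact Or.inl (hD ▸ solv_map h _)
  · refine Or.inr (Or.inl ⟨hD ▸ qs_inj h1 _ (uE_inj e), ?_, hD ▸ hasUni_uE e h3, h4.imp (fun h5 => hD ▸ ty_uE e h5) hL⟩)
    have h5 : Bd (Dr F) = ⊤ := h2
    change Bd (Dr F') = ⊤
    rw [hD, Bd_uE, h5, eq_top_iff]
    exact fun x _ => ⟨e.symm x, trivial, e.apply_symm_apply x⟩
  · refine Or.inr (Or.inr ⟨h1.imp hL fun h5 h6 => h5 (e.injective (by rw [map_ofNat, h6, map_zero])),
      Y₁.map (uE e), Y₂.map (uE e), by rw [← Subgroup.map_sup, h2, hD], cm_map h3 _, ?_⟩)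
    have h5 : ∀ Z ∈ ({Y₁, Y₂} : Set (Subgroup Aˣ)), QS (Z.map (uE e)) ∧ HasUni (Z.map (uE e)) ∧ TyI (Z.map (uE e)) ∧
        IsSimpleRing (Bd (Z.map (uE e))) := fun Z hZ =>
      ⟨qs_inj (h4 Z hZ).1 _ (uE_inj e), hasUni_uE e (h4 Z hZ).2.1, tyI_uE e (h4 Z hZ).2.2.1, simple_Bd e (h4 Z hZ).2.2.2⟩
    rintro Z (rfl | rfl)
    · exact h5 _ (Or.inl rfl)
    · exact h5 _ (Or.inr rfl)

variable {e}

theorem mem_Lmax_iff (he : ∀ a, e (star a) = star (e a)) (x : A) : e x ∈ Lmax B ↔ x ∈ Lmax A := by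
  change star (e x) = -e x ↔ star x = -x
  rw [← he, ← map_neg, e.injective.eq_iff]

theorem mem_Lmin_iff' (he : ∀ a, e (star a) = star (e a)) (x : A) : e x ∈ Lmin B ↔ x ∈ Lmin A := by
  constructor
  · rintro ⟨b, hb⟩
    obtain ⟨a, rfl⟩ := e.surjective b
    exact ⟨a, e.injective (by rw [hb, map_sub, he])⟩
  · rintro ⟨a, rfl⟩
    exact ⟨e a, by rw [map_sub, he]⟩

/-- `QSC` along an isomorphism of rings with involution -/
theorem of_star (he : ∀ a, e (star a) = star (e a)) (F : FR A)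
    (h : ∀ R : FR B, R.l = e F.l → (F.L = Lmin A → R.L = Lmin B) → (F.L = Lmax A → R.L = Lmax B) → QSC R) : QSC F := by
  classical
  let R : FR B := ⟨e F.l, if F.L = Lmax A then Lmax B else Lmin B, by rw [← he, ← map_add, F.l_add, map_one], by
    split_ifs
    · exact Or.inr rfl
    · exact Or.inl rfl⟩
  have h1 : ∀ x, e x ∈ R.L ↔ x ∈ F.L := fun x => by
    change e x ∈ (if F.L = Lmax A then Lmax B else Lmin B) ↔ _
    split_ifs with h2
    · rw [h2, mem_Lmax_iff he]
    · rw [F.par.resolve_right h2, mem_Lmin_iff' he]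
  have h2 : F.Iso = R.Iso.map (uE e.symm) := by
    have h3 : ∀ u : Aˣ, uE e u ∈ R.Iso ↔ u ∈ F.Iso := fun u => by
      change e u * star (e u) = 1 ∧ e u * e F.l * star (e u) - e F.l ∈ R.L ↔ _ ∧ _
      rw [← he, ← map_mul, ← map_mul, ← map_mul, ← map_sub, h1, map_eq_one_iff e e.injective]
    ext u
    constructor
    · intro hu
      exact ⟨_, (h3 u).2 hu, Units.ext (e.symm_apply_apply _)⟩
    · rintro ⟨v, hv, rfl⟩
      rw [← h3]
      rwa [show uE e (uE e.symm v) = v from Units.ext (e.apply_symm_apply _)]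
  refine transport e.symm (F := R) (by rw [Dr, Dr, Subgroup.map_commutator, h2]) (fun h3 h4 => h3 (if_pos h4))
    (h R rfl (fun h3 => ?_) fun h3 => if_pos h3)
  ext y
  obtain ⟨x, rfl⟩ := e.surjective y
  rw [h1, h3, mem_Lmin_iff' he]

theorem iso_max {R R' : FR A} (h : R.L = Lmax A) (h' : R'.L = Lmax A) : R.Iso = R'.Iso := by
  ext u
  exact ⟨fun hu => mem_Iso_max h' hu.1, fun hu => mem_Iso_max h hu.1⟩

theorem solv_of_comm (R : FR A) (h : ∀ u ∈ R.Iso, ∀ v ∈ R.Iso, u * v = v * u) : QSC R := by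
  have h1 : Dr R = ⊥ := cm_iff_bot.1 h
  exact Or.inl (h1 ▸ inferInstance)

theorem Dr_le (R : FR A) : Dr R ≤ R.Iso := (nm_self _).commutator_le

end transport

section form

variable {K V : Type} [Field K] [AddCommGroup V] [Module K V] (h : HF K V)

theorem exists_perp (h3 : 3 ≤ Module.finrank K V) (x y : V) : ∃ w, w ≠ 0 ∧ h.b w x = 0 ∧ h.b w y = 0 := by
  have : Module.Finite K V := Module.finite_of_finrank_pos (by omega)
  have h1 : LinearMap.ker ((h.lin x).prod (h.lin y)) ≠ ⊥ :=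
    LinearMap.ker_ne_bot_of_finrank_lt (by rw [Module.finrank_prod, Module.finrank_self]; omega)
  obtain ⟨w, hw, hw0⟩ := Submodule.exists_mem_ne_zero_of_ne_bot h1
  have h2 : (h.b w x, h.b w y) = 0 := hw
  exact ⟨w, hw0, congrArg Prod.fst h2, congrArg Prod.snd h2⟩

theorem exists_pair (h3 : 3 ≤ Module.finrank K V) {x : V} (hx : x ≠ 0) :
    ∃ w w', h.b w x = 0 ∧ h.b w' x = 0 ∧ h.b w' w ≠ 0 := by
  obtain ⟨y, hy⟩ := h.exists_ne hx
  obtain ⟨w, hw0, h1, h2⟩ := exists_perp h h3 x y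
  obtain ⟨v, hv⟩ := h.exists_ne hw0
  have h4 : h.b y w = 0 := by rw [h.swap w y, h2, map_zero, mul_zero]
  refine ⟨w, v - (h.b v x / h.b y x) • y, h1, ?_, ?_⟩
  · rw [h.sub_left, h.smul_left, div_mul_cancel₀ _ hy, sub_self]
  · rwa [h.sub_left, h.smul_left, h4, mul_zero, sub_zero]

theorem ro_ne {x y : V} (hx : x ≠ 0) (hy : y ≠ 0) {c : K} (hc : c ≠ 0) : h.eb (c • h.ro x y) ≠ 0 := fun h0 => by
  obtain ⟨z, hz⟩ := h.exists_ne hy
  have h1 : c • (h.b z y • x) = 0 := congrArg (fun a => h.ap a z) h0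
  rw [smul_smul, smul_eq_zero] at h1
  exact h1.elim (mul_ne_zero hc hz) hx

theorem uni_ro {v : h.EBˣ} {x : V} {c : K} (hx : x ≠ 0) (hxx : h.b x x = 0) (hc : c ≠ 0)
    (hv : (v : h.EB) - 1 = h.eb (c • h.ro x x)) : v ≠ 1 ∧ Uni v := by
  refine ⟨fun h1 => ro_ne h hx hx hc (by rw [← hv, h1, Units.val_one, sub_self]), 2, ?_⟩
  rw [hv, pow_two]
  refine h.ap_ext fun y => ?_
  change c • (h.b (c • (h.b y x • x)) x • x) = 0
  rw [h.smul_left, h.smul_left, hxx, mul_zero, mul_zero, zero_smul, smul_zero]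

/-- a unipotent element with a pair of fixed vectors orthogonal to its commutator space -/
theorem tyR_of {T : Subgroup h.EBˣ} {v : h.EBˣ} (hT : v ∈ T) (h1 : v ≠ 1) (h2 : Uni v) {w w' : V}
    (hw : ∀ y, h.b (h.ap ((v : h.EB) - 1) y) w = 0) (hw' : h.ap ((v : h.EB) - 1) w' = 0) (hww : h.b w' w ≠ 0) :
    TyR T 1 := by
  have h3 : w ≠ 0 := by
    rintro rfl
    exact hww (h.zero_right _)
  have h4 : w' ≠ 0 := by
    rintro rfl
    exact hww (h.zero_left _)
  refine ⟨v, hT, h1, h2, h.eb (h.ro w w), h.eb (h.ro w' w'), h.ap_ext fun y => ?_, h.ap_ext fun y => ?_, ?_⟩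
  · rw [h.ap_mul, h.ap_eb, h.ro_apply, hw, zero_smul]
    rfl
  · rw [h.ap_mul, h.ap_eb, h.ro_apply, map_smul, hw', smul_zero]
    rfl
  · rw [mul_one]
    exact fun h0 => ro_ne h h3 h4 hww ((congrArg h.eb (h.ro_mul w w w' w')).symm.trans h0)

theorem tyR_ro (h3 : 3 ≤ Module.finrank K V) {T : Subgroup h.EBˣ} {v : h.EBˣ} (hT : v ∈ T) {x : V} {c : K} (hx : x ≠ 0)
    (hxx : h.b x x = 0) (hc : c ≠ 0) (hv : (v : h.EB) - 1 = h.eb (c • h.ro x x)) : TyR T 1 := by
  obtain ⟨w, w', h1, h2, h4⟩ := exists_pair h h3 hx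
  obtain ⟨h5, h6⟩ := uni_ro h hx hxx hc hv
  refine tyR_of h hT h5 h6 (fun y => ?_) ?_ h4
  · rw [hv]
    change h.b (c • (h.b y x • x)) w = 0
    rw [h.smul_left, h.smul_left, h.swap w x, h1, map_zero, mul_zero, mul_zero, mul_zero]
  · rw [hv]
    change c • (h.b w' x • x) = 0
    rw [h2, zero_smul, smul_zero]

theorem add_inv_two (h2 : Module.finrank K V = 2) {a b : Module.End K V} (hab : a * b = 1)
    (hd : LinearMap.det a = 1) : ∃ c : K, a + b = c • 1 := by
  have : Module.Finite K V := Module.finite_of_finrank_pos (by omega)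
  let B := Module.finBasisOfFinrankEq K V h2
  have h1 := add_inv_mat (a := LinearMap.toMatrix B B a) (b := LinearMap.toMatrix B B b)
    (by rw [← LinearMap.toMatrix_mul, hab, LinearMap.toMatrix_one]) (by rw [LinearMap.det_toMatrix, hd])
  refine ⟨(LinearMap.toMatrix B B a).trace, (LinearMap.toMatrix B B).injective ?_⟩
  rw [map_add, h1, map_smul, LinearMap.toMatrix_one]

theorem trace_invol (h3 : Module.finrank K V = 3) {a : Module.End K V} (ha : a * a = 1) (hd : LinearMap.det a = 1) :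
    a = 1 ∨ LinearMap.trace K V a = -1 := by
  have : Module.Finite K V := Module.finite_of_finrank_pos (by omega)
  let B := Module.finBasisOfFinrankEq K V h3
  rcases trace_invol_mat (a := LinearMap.toMatrix B B a)
    (by rw [← LinearMap.toMatrix_mul, ha, LinearMap.toMatrix_one]) (by rw [LinearMap.det_toMatrix, hd]) with h | h
  · exact Or.inl ((LinearMap.toMatrix B B).injective (by rw [h, LinearMap.toMatrix_one]))
  · exact Or.inr (by rw [LinearMap.trace_eq_matrix_trace K B, h])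

theorem cen_EB [Nontrivial V] {z : h.EB} (hz : z ∈ Subring.center h.EB) : ∃ c : K, z = h.eb (c • 1) :=
  H277.FC.exists_smul_one (h.ap z) fun Y => (Subring.mem_center_iff.1 hz (h.eb Y)).symm

variable [Finite K] [Finite V]

theorem det_Dr (R : FR h.EB) {u : h.EBˣ} (hu : u ∈ Dr R) : LinearMap.det (h.ap u) = 1 := by
  have h1 : Dr R ≤ (detU h).ker := by
    rw [Dr, Subgroup.commutator_le]
    intro a _ b _
    rw [MonoidHom.mem_ker, map_commutatorElement, commutatorElement_eq_one_iff_mul_comm, mul_comm]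
  rw [← detU_val, MonoidHom.mem_ker.1 (h1 hu), Units.val_one]

theorem tyI_EB (h2 : Module.finrank K V = 2) (R : FR h.EB) : TyI (Dr R) := by
  intro s _ t ht
  obtain ⟨c, hc⟩ := add_inv_two h2 (a := h.ap t) (b := h.ap (t⁻¹ : h.EBˣ)) t.mul_inv (det_Dr h R ht)
  have h1 : (t : h.EB) + (t⁻¹ : h.EBˣ) = h.eb (c • 1) := hc
  rw [h1]
  exact Subring.mem_center_iff.1 (h.smul_mem_center c) s

/-- change of the model -/
theorem exists_iso {A W : Type} [Ring A] [StarRing A] [AddCommGroup W] [Module K W] (e : A ≃+* Module.End K W)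
    (b : W → W → K) (hadj : ∀ a v w, b (e a v) w = b v (e (star a) w)) (g : W ≃ₗ[K] V) {c : K}
    (hg : ∀ u v, h.b (g u) (g v) = c * b u v) :
    ∃ e' : A ≃+* h.EB, (∀ a, e' (star a) = star (e' a)) ∧ ∀ a v, h.ap (e' a) (g v) = g (e a v) := by
  let e' : A ≃+* h.EB := e.trans g.conjRingEquiv
  have h1 : ∀ a v, h.ap (e' a) (g v) = g (e a v) := fun a v => by
    change g (e a (g.symm (g v))) = _
    rw [g.symm_apply_apply]
  refine ⟨e', fun a => h.ap_ext fun v => h.ext_right fun u => ?_, h1⟩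
  obtain ⟨v, rfl⟩ := g.surjective v
  obtain ⟨u, rfl⟩ := g.surjective u
  rw [h.b_star, h1, h1, hg, hg, hadj]

end form

end Cfsg.Agent.Cam.Cl.Qs
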