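import Cfsg.Agent.Cam.Cl.QSBase
import Cfsg.Agent.S0249
import Cfsg.Agent.S0283

/-!
# S3689, classical groups, `BoxQS`: linear and unitary groups (helper12)
-/

set_option autoImplicit false

namespace Cfsg.Agent.Cam.Cl.Qs

open Cfsg Cfsg.Agent.DS.Cl Cfsg.Agent.DS.Cl.Fwd Cfsg.Agent.Cam.Cl Cfsg.Agent.Cam.Cl.Tp
open scoped Matrix MatrixGroups commutatorElement

section general

variable {A : Type} [Ring A] [StarRing A]

theorem dat_congr {F F' : FR A} {K : Type} [Group K] {φ : K →* Aˣ} (h : Dat F φ) (hI : F'.Iso = F.Iso) : Dat F' φ :=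
  ⟨h.ss, by rw [FR.Span, hI]; exact h.span, h.inj, by rw [Dr, hI]; exact h.range⟩

theorem qsc_of_dat {F : FR A} {K : Type} [Group K] {φ : K →* Aˣ} (h : Dat F φ) (hq : QS (⊤ : Subgroup K))
    (hu : HasUni (Dr F)) (ht : Ty (Dr F) 1 ∨ F.L ≠ Lmax A) : QSC F := by
  refine Or.inr (Or.inl ⟨?_, h.span, hu, ht⟩)
  rw [← h.range, MonoidHom.range_eq_map]
  exact qs_inj hq φ h.inj

theorem top_of_qs {K : Type} [Group K] (h : QS (⊤ : Subgroup K)) : commutator K = ⊤ := top_le_iff.1 h.perf

theorem star_smul_EB {K V : Type} [Field K] [AddCommGroup V] [Module K V] (h : HF K V) [Finite K] [Finite V] (c : K) :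
    star (h.eb (c • 1)) = h.eb (h.τ c • 1) := h.ap_ext fun v => h.ext_right fun u => by
  rw [h.b_star]
  change h.b (c • u) v = h.b u (h.τ c • v)
  rw [h.smul_left, h.smul_right, h.τ_τ]

theorem L_max {K V : Type} [Field K] [AddCommGroup V] [Module K V] (h : HF K V) [Finite K] [Finite V] {c : K}
    (hc : c + h.τ c = 1) (R : FR h.EB) : R.L = Lmax h.EB := by
  refine R.L_eq (h.smul_mem_center c) ?_
  rw [star_smul_EB]
  refine h.ap_ext fun v => ?_
  change c • v + h.τ c • v = v
  rw [← add_smul, hc, one_smul]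

end general

section L

variable {K : Type} [Field K] {n : ℕ}

theorem L_LR (R : FR (LR (Fin n) K)) : R.L = Lmax _ := R.L_eq (c := LR.mk 1 0) (Subring.mem_center_iff.2 fun g => by
  obtain ⟨c, d, rfl⟩ := LR.exists_mk g
  rw [LR.mk_mul, LR.mk_mul, mul_one, one_mul, mul_zero, zero_mul]) LR.half

theorem Dr_le_phL (R : FR (LR (Fin n) K)) : Dr R ≤ (phL (Fin n) K).range := by
  rw [Dr, iso_max (R' := frL (Fin n) K) (L_LR R) rfl, ← isoL, comm_range]
  rintro _ ⟨g, hg, rfl⟩
  exact mem_phL (congrArg Units.val (MonoidHom.mem_ker.1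
    (Abelianization.commutator_subset_ker (Matrix.GeneralLinearGroup.det : GL (Fin n) K →* Kˣ) hg)))

theorem uni_phL {i j : Fin n} (hij : i ≠ j) :
    phL (Fin n) K (Matrix.SpecialLinearGroup.transvection hij 1) ≠ 1 ∧
      Uni (phL (Fin n) K (Matrix.SpecialLinearGroup.transvection hij 1)) := by
  refine ⟨fun h => ?_, 2, ?_⟩
  · have h1 := phL_transvection hij (1 : K)
    rw [h, Units.val_one, sub_self] at h1
    have h2 : (0 : Matrix (Fin n) (Fin n) K) = Matrix.single i j 1 := congrArg Prod.fst h1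
    have h3 := congrFun (congrFun h2 i) j
    rw [Matrix.single_apply_same] at h3
    exact zero_ne_one h3
  · rw [phL_transvection, pow_two, LR.mk_mul, Matrix.single_mul_single_of_ne _ _ _ _ hij.symm,
      Matrix.single_mul_single_of_ne _ _ _ _ hij, LR.zero_eq]

open Cfsg.Agent.ClassicalGeometry.AutPSL.Auto (itr) in
theorem tyI_phL : TyI (phL (Fin 2) K).range := by
  rintro s - _ ⟨t, rfl⟩
  have h1 := add_inv_mat (a := t.1) (b := (t⁻¹).1) (congrArg Subtype.val (mul_inv_cancel t)) t.2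
  have h2 := add_inv_mat (a := (itr t).1) (b := (itr t⁻¹).1)
    (by rw [map_inv]; exact congrArg Subtype.val (mul_inv_cancel (itr t))) (itr t).2
  obtain ⟨a, b, h3⟩ := LR.exists_mk (s : LR (Fin 2) K)
  rw [← map_inv, phL_val, phL_val, LR.mk_add, h1, h2, h3, LR.mk_mul, LR.mk_mul]
  simp only [Matrix.mul_smul, Matrix.smul_mul, mul_one, one_mul]

theorem qsc_LR [Fintype K] (R : FR (LR (Fin n) K)) : QSC R := by
  by_cases h1 : n ≤ 1
  · refine solv_of_comm R fun u _ v _ => Units.ext ?_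
    exact Prod.ext (Vec.matrix_comm h1 _ _) (Vec.matrix_comm h1 _ _)
  have hI := iso_max (R' := frL (Fin n) K) (L_LR R) rfl
  by_cases h3 : 3 ≤ n
  · have hD := dat_congr (datL (F := K) (n := n) (by omega) (by omega)) hI
    let i : Fin n := ⟨0, by omega⟩
    let j : Fin n := ⟨1, by omega⟩
    let k : Fin n := ⟨2, by omega⟩
    have hij : i ≠ j := by simp [i, j]
    have hki : k ≠ i := by simp [i, k]
    have hjk : j ≠ k := by simp [j, k]
    have hm : phL (Fin n) K (Matrix.SpecialLinearGroup.transvection hij 1) ∈ Dr R := hD.range ▸ ⟨_, rfl⟩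
    obtain ⟨h4, h5⟩ := uni_phL (K := K) hij
    refine qsc_of_dat hD (qs_top (Cfsg.Agent.S0248.result n h3) (Cfsg.Agent.S0249.result n h3)) ⟨_, hm, h4, h5⟩
      (Or.inl (Or.inl ⟨_, hm, h4, h5, LR.mk (Matrix.single k k 1) 0, LR.mk (Matrix.single k k 1) 0, ?_, ?_, ?_⟩))
    · rw [phL_transvection, LR.mk_mul, Matrix.single_mul_single_of_ne _ _ _ _ hki, zero_mul, LR.zero_eq]
    · rw [phL_transvection, LR.mk_mul, Matrix.single_mul_single_of_ne _ _ _ _ hjk, mul_zero, LR.zero_eq]
    · rw [mul_one, LR.mk_mul, Matrix.single_mul_single_same]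
      intro h6
      have h7 : Matrix.single k k ((1 : K) * 1) = 0 := congrArg Prod.fst h6
      have h8 := congrFun (congrFun h7 k) k
      rw [Matrix.single_apply_same, mul_one] at h8
      exact one_ne_zero h8
  obtain rfl : n = 2 := by omega
  by_cases h4 : 4 ≤ Fintype.card K
  · have hD := dat_congr (datL (F := K) (n := 2) le_rfl fun _ => exists_ne_of_four (by omega)) hI
    obtain ⟨h5, h6⟩ := uni_phL (K := K) (show (0 : Fin 2) ≠ 1 by decide)
    exact qsc_of_dat hD (qs_sl2 h4) ⟨_, hD.range ▸ ⟨_, rfl⟩, h5, h6⟩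
      (Or.inl (Or.inr (Or.inr (Or.inl (hD.range ▸ tyI_phL)))))
  · exact Or.inl (solv_of_le (solv_sl2 h4) _ (Dr_le_phL R))

theorem qsc_L {A : Type} [Ring A] [StarRing A] (F : FR A) (hM : ModL A) : QSC F := by
  obtain ⟨K, _, _, n, π, -, hπ⟩ := hM
  let M := (LinearMap.toMatrixAlgEquiv' (R := K) (n := Fin n)).toRingEquiv
  let f : A →+* LR (Fin n) K :=
    { toFun := fun a => LR.mk (M (π a)) (M (π (star a)))ᵀ
      map_one' := by rw [star_one, map_one, map_one, Matrix.transpose_one, LR.one_eq]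
      map_mul' := fun a b => by rw [star_mul, map_mul, map_mul, map_mul, map_mul, Matrix.transpose_mul, LR.mk_mul]
      map_zero' := by rw [star_zero, map_zero, map_zero, Matrix.transpose_zero, LR.zero_eq]
      map_add' := fun a b => by rw [star_add, map_add, map_add, map_add, map_add, Matrix.transpose_add, LR.mk_add] }
  have hf : Function.Bijective f := by
    constructor
    · intro a b hab
      exact hπ.1 (Prod.ext (M.injective (congrArg Prod.fst hab))
        (M.injective (Matrix.transpose_injective (congrArg Prod.snd hab))))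
    · intro x
      obtain ⟨c, d, rfl⟩ := LR.exists_mk x
      obtain ⟨a, ha⟩ := hπ.2 (M.symm c, M.symm dᵀ)
      have h1 : π a = M.symm c := congrArg Prod.fst ha
      have h2 : π (star a) = M.symm dᵀ := congrArg Prod.snd ha
      refine ⟨a, ?_⟩
      change LR.mk (M (π a)) (M (π (star a)))ᵀ = _
      rw [h1, h2, M.apply_symm_apply, M.apply_symm_apply, Matrix.transpose_transpose]
  refine of_star (e := RingEquiv.ofBijective f hf) (fun a => ?_) F fun R _ _ _ => qsc_LR R
  change LR.mk (M (π (star a))) (M (π (star (star a))))ᵀ = star (LR.mk (M (π a)) (M (π (star a)))ᵀ)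
  rw [LR.star_mk, star_star, Matrix.transpose_transpose]

end L

section U

open Cfsg.Agent.LieClassical.HermBasic Cfsg.Agent.LieClassical.HermSiegel

variable {n q : ℕ} {K : Type} [Field K] [Fintype K] (hK : Fintype.card K = q ^ 2)

theorem exists_transvU (hn : 2 ≤ n) : ∃ (k : SU n K q) (x : Fin n → K) (c : K), x ≠ 0 ∧ (unH n hK).b x x = 0 ∧ c ≠ 0 ∧
    (phU hK n k : (unH n hK).EB) - 1 = (unH n hK).eb (c • (unH n hK).ro x x) := by
  obtain ⟨e, f, H⟩ := Cfsg.Agent.ClassicalGeometry.PSUAutBasic.exists_frame (F := K) (q := q) (n := n) hK hn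
  have he : e ≠ 0 := by
    rintro rfl
    exact zero_ne_one ((herm_zero_left f).symm.trans H.ef)
  obtain ⟨μ, hμ0, hμ⟩ := exists_trace_zero_ne hK
  have hs : IsSiegel q e 0 μ := ⟨H.ee, herm_zero_left e, by rw [herm_zero_left, add_zero, hμ]⟩
  exact ⟨_, e, μ, he, H.ee, hμ0, phU_siegel hK hs⟩

theorem qsc_unH (R : FR (unH n hK).EB) : QSC R := by
  obtain ⟨c, hc⟩ := exists_trace_eq hK (one_pow q)
  have hR := L_max (unH n hK) (c := c) hc R
  by_cases h1 : n ≤ 1
  · refine solv_of_comm R fun u _ v _ => Units.ext ?_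
    rw [Units.val_mul, Units.val_mul, ← matHom_surj _ (u : (unH n hK).EB), ← matHom_surj _ (v : (unH n hK).EB),
      ← map_mul (matHom _), ← map_mul (matHom _), Vec.matrix_comm h1]
  obtain ⟨k, x, μ, hx, hxx, hμ, hk⟩ := exists_transvU hK (show 2 ≤ n by omega)
  obtain ⟨h4, h5⟩ := uni_ro _ hx hxx hμ hk
  by_cases h3 : 3 ≤ n
  · by_cases h : n = 3 ∧ q = 2
    · obtain ⟨rfl, rfl⟩ := h
      let f : SU 3 K 2 →* GU 3 K 2 := ((Matrix.SpecialLinearGroup.toGL : SL(3, K) →* GL (Fin 3) K).comp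
        (SU 3 K 2).subtype).codRestrict (GU 3 K 2) fun x => x.2
      have : Group.IsSolvable (GU 3 K 2) :=
        Cfsg.Agent.S0144.result 2 3 3 4 Nat.prime_two Nat.prime_three (Vec.card_gu32 hK)
      have hf : Function.Injective f := fun a b hab =>
        Subtype.ext (Subtype.ext (congrArg (fun t : GU 3 K 2 => (t.1 : Matrix (Fin 3) (Fin 3) K)) hab))
      exact Or.inl (solv_of_le (Group.isSolvable_of_isSolvable_injective hf) _ (Dr_le_phU hK R))
    · have hp := LieClassical.HermPerfect.commutator_SU_eq_top hK h3 h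
      have hD := datU hK (by omega) hp hR
      have hm : phU hK n k ∈ Dr R := hD.range ▸ ⟨_, rfl⟩
      exact qsc_of_dat hD (qs_top hp (Cfsg.Agent.S0283.result hK n h3 h)) ⟨_, hm, h4, h5⟩
        (Or.inl (Or.inl (tyR_ro _ (by simpa using h3) hm hx hxx hμ hk)))
  obtain rfl : n = 2 := by omega
  obtain ⟨p, j, hp, -, hq, hj⟩ := exists_prime_pow hK
  obtain ⟨L, _, _, hL⟩ := Vec.exists_field p j hp hj.ne'
  obtain ⟨e⟩ := Cfsg.Agent.S0281.result hK (hL.trans hq.symm)
  by_cases h6 : 4 ≤ Fintype.card L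
  · have hq := qs_equiv (qs_sl2 h6) e.symm
    have hD := datU hK le_rfl (top_of_qs hq) hR
    exact qsc_of_dat hD hq ⟨_, hD.range ▸ ⟨_, rfl⟩, h4, h5⟩
      (Or.inl (Or.inr (Or.inr (Or.inl (tyI_EB _ (by simp) R)))))
  · have := solv_sl2 h6
    exact Or.inl (solv_of_le (Group.isSolvable_of_isSolvable_injective (f := e.toMonoidHom) e.injective) _
      (Dr_le_phU hK R))

theorem qsc_U {A : Type} [Ring A] [StarRing A] (F : FR A) (hM : ModU A) : QSC F := by
  obtain ⟨K, _, _, n, e, σ, b, -, hσ, hσ2, hb, hs, hadj⟩ := hM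
  obtain ⟨q, -, hq, hσq⟩ := H324.FC.exists_q (RingEquiv.ofRingHom σ σ (RingHom.ext hσ2) (RingHom.ext hσ2)) hσ2
    (ClassicalGeometry.InvolutiveNorm.exists_sigma_ne hσ)
  have hσq' : ∀ x, σ x = x ^ q := hσq
  rw [Nat.card_eq_fintype_card] at hq
  obtain ⟨c, hc⟩ := ClassicalGeometry.HermOrthonormal.exists_orthonormal_basis hσ hσ2 b hb hs
  obtain ⟨e', h1, -⟩ := exists_iso (unH _ hq) e (fun v w => b w v) (fun a v w => by rw [hadj, star_star]) c.equivFun
    (c := 1) fun u v => by
      obtain ⟨u, rfl⟩ := c.equivFun.symm.surjective u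
      obtain ⟨v, rfl⟩ := c.equivFun.symm.surjective v
      rw [LinearEquiv.apply_symm_apply, LinearEquiv.apply_symm_apply, one_mul]
      change hermForm _ K q u v = _
      simp only [Module.Basis.equivFun_symm_apply, map_sum, LinearMap.sum_apply, LinearMap.map_smulₛₗ, map_smul,
        LinearMap.smul_apply, hc, smul_eq_mul, mul_ite, mul_one, mul_zero, Finset.sum_ite_eq', Finset.mem_univ,
        if_true, hσq', hermForm]
  exact of_star h1 F fun R _ _ _ => qsc_unH hq R

end U

end Cfsg.Agent.Cam.Cl.Qs
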