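import Cfsg.Agent.Cam.Cl.QSLU
import Cfsg.Agent.S0244
import Cfsg.Agent.S0270

/-!
# S3689, classical groups, `BoxQS`: symplectic groups (helper12)
-/

set_option autoImplicit false

namespace Cfsg.Agent.Cam.Cl.Qs

open Cfsg Cfsg.Agent.DS.Cl Cfsg.Agent.DS.Cl.Fwd Cfsg.Agent.Cam.Cl Cfsg.Agent.Cam.Cl.Tp
open Cfsg.Agent.ClassicalGeometry.SympBasic
open scoped Matrix MatrixGroups commutatorElement

/-- `Sp₂ = SL₂` -/
def spTwo (F : Type) [Field F] : Matrix.symplecticGroup (Fin 1) F ≃* Matrix.SpecialLinearGroup (Fin 2) F where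
  toFun A := ⟨Matrix.reindex finSumFinEquiv finSumFinEquiv (A : Matrix (Fin 1 ⊕ Fin 1) (Fin 1 ⊕ Fin 1) F), by
    rw [Matrix.det_reindex_self]
    exact (S0244.result _).1 A.2⟩
  invFun A := ⟨Matrix.reindex finSumFinEquiv.symm finSumFinEquiv.symm (A : Matrix (Fin 2) (Fin 2) F), by
    rw [S0244.result, Matrix.det_reindex_self]
    exact A.2⟩
  left_inv A := by
    apply Subtype.ext
    ext i j
    simp
  right_inv A := by
    apply Subtype.ext
    ext i j
    simp
  map_mul' A B := by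
    apply Subtype.ext
    change Matrix.reindex finSumFinEquiv finSumFinEquiv (A.1 * B.1) =
      Matrix.reindex finSumFinEquiv finSumFinEquiv A.1 * Matrix.reindex finSumFinEquiv finSumFinEquiv B.1
    rw [Matrix.reindex_apply, Matrix.reindex_apply, Matrix.reindex_apply, Matrix.submatrix_mul_equiv]

/-- a `5`-cycle -/
def c5 : Equiv.Perm (Fin 6) := ⟨![1, 2, 3, 4, 0, 5], ![4, 0, 1, 2, 3, 5], by decide, by decide⟩

/-- a `4`-cycle normalizing `c5` -/
def c4 : Equiv.Perm (Fin 6) := ⟨![0, 2, 4, 1, 3, 5], ![0, 3, 1, 4, 2, 5], by decide, by decide⟩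

theorem c4_c5 : c4 * c5 = c5 ^ 2 * c4 := by decide

theorem c5_pow : c5 ^ 5 = 1 := by decide

theorem c5_ne : c5 ≠ 1 := by decide

theorem c5_mem : c5 ∈ commutator (Equiv.Perm (Fin 6)) := by
  have h : c5 = ⁅c4, c5⁆ := by
    rw [commutatorElement_def, c4_c5]
    group
  rw [h]
  exact Subgroup.commutator_mem_commutator trivial trivial

theorem qs_alt : QS (commutator (Equiv.Perm (Fin 6))) := by
  refine qs_simple _ ?_ fun h => ?_
  · rw [alternatingGroup.commutator_perm_eq (by simp)]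
    exact alternatingGroup.isSimpleGroup (by simp)
  · have h1 := h _ c5_mem _ ((inferInstance : (commutator (Equiv.Perm (Fin 6))).Normal).conj_mem _ c5_mem
      (Equiv.swap 0 5))
    revert h1
    decide

/-- elements of order five on a space with sixteen elements -/
theorem fix_five {K V : Type} [Field K] [AddCommGroup V] [Module K V] [Finite V] (hV : Nat.card V = 16)
    {a : Module.End K V} (h5 : a ^ 5 = 1) (h1 : a ≠ 1) : 1 + a + a ^ 2 + a ^ 3 + a ^ 4 = 0 := by
  classical
  have := Fintype.ofFinite V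
  have : Fact (Nat.Prime 5) := ⟨Nat.prime_five⟩
  let μ : Module.End K V →* Function.End V := ⟨⟨fun b v => b v, rfl⟩, fun _ _ => rfl⟩
  have h2 := Equiv.Perm.card_fixedPoints_modEq (f := μ a) (p := 5) (n := 1) (by rw [pow_one, ← map_pow, h5, map_one])
  let U : AddSubgroup V := (LinearMap.ker (a - 1)).toAddSubgroup
  have hU : ∀ v, v ∈ U ↔ a v = v := fun v => by
    change (a - 1) v = 0 ↔ _
    rw [LinearMap.sub_apply, sub_eq_zero, Module.End.one_apply]
  have h3 : Fintype.card (μ a).fixedPoints = Nat.card U := by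
    rw [← Nat.card_eq_fintype_card]
    exact Nat.card_congr (Equiv.subtypeEquivRight fun v => (hU v).symm)
  have h4 := U.card_addSubgroup_dvd_card
  rw [h3, ← Nat.card_eq_fintype_card, hV] at h2
  rw [hV] at h4
  have h6 : Nat.card U = 1 ∨ Nat.card U = 16 := by
    have h7 := Nat.le_of_dvd (by norm_num) h4
    unfold Nat.ModEq at h2
    interval_cases Nat.card U <;> simp_all
  rcases h6 with h6 | h6
  · rw [AddSubgroup.card_eq_one] at h6
    ext v
    have h7 : (1 + a + a ^ 2 + a ^ 3 + a ^ 4 : Module.End K V) v ∈ U := by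
      rw [hU, ← Module.End.mul_apply]
      congr 1
      have h8 : a * (1 + a + a ^ 2 + a ^ 3 + a ^ 4) = a ^ 5 + a + a ^ 2 + a ^ 3 + a ^ 4 := by noncomm_ring
      rw [h8, h5]
    rwa [h6, AddSubgroup.mem_bot] at h7
  · rw [← hV, AddSubgroup.card_eq_iff_eq_top] at h6
    exact absurd (LinearMap.ext fun v => (hU v).1 (h6 ▸ trivial)) h1

variable {K : Type} [Field K] [Fintype K]

theorem qsc_sp42 (hK : Fintype.card K = 2) (R : FR (spH 2 K).EB) (hR : R.L = Lmax _) : QSC R := by
  let h := spH 2 K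
  have hc : ∀ c : K, c ≠ 0 → c = 1 := fun c hc => by
    have h1 := FiniteField.pow_card_sub_one_eq_one c hc
    rwa [hK, pow_one] at h1
  have h2 : (2 : K) = 0 := by
    have h1 := FiniteField.cast_card_eq_zero K
    rwa [hK] at h1
  have h2' : (2 : h.EB) = 0 := eb_char h (n := 2) h2
  have hd : 3 ≤ Module.finrank K (Fin 2 ⊕ Fin 2 → K) := by simp
  obtain ⟨e⟩ := Cfsg.Agent.S0247.result (F := K) hK
  let ψ : Equiv.Perm (Fin 6) →* h.EBˣ := (phSp 2 K).comp e.symm.toMonoidHom
  have hψ : Function.Injective ψ := (phSp_inj 2 K).comp e.symm.injective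
  have hD : Dr R = (commutator _).map ψ := by
    rw [← comm_range, MonoidHom.range_comp, MonoidHom.range_eq_top.2 e.symm.surjective, ← MonoidHom.range_eq_map,
      isoSp hR, Dr]
  let r : (Fin 2 ⊕ Fin 2 → K) → h.EB := fun x => h.eb (h.ro x x)
  have hr : ∀ x z, h.b z x = 0 → r x * r z = 0 := fun x z hxz => by
    have h1 := congrArg h.eb (h.ro_mul x x z z)
    rwa [hxz, zero_smul] at h1
  have ht : ∀ x, (phSp 2 K (transv x 1) : h.EB) = 1 + r x := fun x => by
    rw [← sub_eq_iff_eq_add', phSp_transv]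
  have hxx : ∀ x, h.b x x = 0 := fun x => sympForm_self x
  have hmem : ∀ x z, x ≠ 0 → z ≠ 0 → phSp 2 K (transv x 1 * transv z 1) ∈ Dr R := fun x z hx hz => by
    obtain ⟨g, -, hg⟩ := exists_transvGroup_mulVec_eq hx hz
    have h1 : (transv x (1 : K))⁻¹ = transv x 1 := inv_eq_of_mul_eq_one_left (phSp_inj 2 K (Units.ext (by
      rw [map_mul, Units.val_mul, ht, map_one, Units.val_one, mul_add, mul_one, add_mul, one_mul, hr x x (hxx x),
        add_zero, add_assoc, ← two_mul, h2', zero_mul, add_zero])))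
    have h3 : transv x 1 * transv z 1 = ⁅transv x (1 : K), g⁆ := by
      rw [commutatorElement_def, h1, ← hg, ← LieClassical.SympPerfect.conj_transv]
      group
    rw [h3, map_commutatorElement, Dr, ← isoSp hR]
    exact Subgroup.commutator_mem_commutator ⟨_, rfl⟩ ⟨_, rfl⟩
  have hval : ∀ x z, h.b z x = 0 → (phSp 2 K (transv x 1 * transv z 1) : h.EB) - 1 = r x + r z := fun x z hxz => by
    rw [map_mul, Units.val_mul, ht, ht, mul_add, mul_one, add_mul, one_mul, hr x z hxz]
    abel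
  have hB : ∀ x z, x ≠ 0 → z ≠ 0 → h.b z x = 0 → r x + r z ∈ Bd (Dr R) := fun x z hx hz hxz => by
    rw [← hval x z hxz]
    exact Subring.sub_mem _ (mem_Bd (hmem x z hx hz)) (Subring.one_mem _)
  have hsw : ∀ {x y}, h.b x y = 0 → h.b y x = 0 := fun {x y} hxy => by rw [h.swap x y, hxy, map_zero, mul_zero]
  have hspan : R.Span := by
    refine h.span_top (Bd (Dr R)) (fun c => cen_mem_Bd _ (h.smul_mem_center c)) {x | x ≠ 0}
      (exists_ne 0) (fun x hx => hx) (fun x hx => ?_) (fun x _ v hv => ⟨0, ?_, by rwa [zero_smul, add_zero]⟩)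
    · obtain ⟨y, hy⟩ := h.exists_ne hx
      have hy0 : y ≠ 0 := by
        rintro rfl
        exact hy (h.zero_left x)
      obtain ⟨z, hz, h3, h4⟩ := exists_perp h hd x y
      have h5 : (r x + r z) * (r y + r z) * (r x + r z) = r x := by
        rw [add_mul (r x), mul_add (r x), mul_add (r z), hr x z h3, hr z y (hsw h4), hr z z (hxx z), add_zero, add_zero,
          add_zero, mul_add, mul_assoc _ _ (r z), hr y z h4, mul_zero, add_zero]
        refine h.ap_ext fun v => ?_
        change h.b (h.b (h.b v x • x) y • y) x • x = h.b v x • x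
        rw [h.smul_left, h.smul_left, hc _ hy, hc _ (h.ne_swap hy), mul_one, mul_one]
      change r x ∈ _
      rw [← h5]
      exact Subring.mul_mem _ (Subring.mul_mem _ (hB x z hx hz h3) (hB y z hy0 hz h4)) (hB x z hx hz h3)
    · rw [zero_smul, add_zero]
      rintro rfl
      exact hv (h.zero_left x)
  have hcen : ∀ z ∈ Subring.center h.EB, z = 0 ∨ z = 1 := fun z hz => by
    obtain ⟨c, rfl⟩ := cen_EB h hz
    by_cases h0 : c = 0
    · left
      rw [h0, zero_smul]
      rfl
    · right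
      rw [hc c h0, one_smul]
      rfl
  refine Or.inr (Or.inl ⟨hD ▸ qs_inj qs_alt ψ hψ, hspan, ?_, Or.inl (Or.inr (Or.inr (Or.inr (Or.inr
    ⟨h2', fun t _ ht' => ?_, fun w _ h3 h4 => ?_, ψ c5, hD ▸ ⟨_, c5_mem, rfl⟩, by rw [← map_pow, c5_pow, map_one],
      fun h3 => c5_ne ((injective_iff_map_eq_one ψ).1 hψ _ h3), ψ c4, ?_, (ψ c4⁻¹ : h.EBˣ), ?_, ?_⟩))))⟩)
  · obtain ⟨x, hx⟩ := exists_ne (0 : Fin 2 ⊕ Fin 2 → K)
    obtain ⟨y, hy⟩ := h.exists_ne hx
    obtain ⟨z, hz, h3, h4⟩ := exists_perp h hd x y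
    refine ⟨_, hmem x z hx hz, fun h5 => ?_, 2, ?_⟩
    · have h6 := hval x z h3
      rw [h5, Units.val_one, sub_self] at h6
      have h7 : (0 : Fin 2 ⊕ Fin 2 → K) = h.b y x • x + h.b y z • z := congrArg (fun a => h.ap a y) h6
      rw [hsw h4, zero_smul, add_zero, hc _ hy, one_smul] at h7
      exact hx h7.symm
    · rw [hval x z h3, pow_two, add_mul, mul_add, mul_add, hr x x (hxx x), hr x z h3, hr z x (hsw h3), hr z z (hxx z),
        add_zero, add_zero]
  · have h3 := comm_of_span hspan (z := (t : h.EB)) fun u hu => congrArg Units.val (ht' u hu)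
    have := h.ss.1
    exact Units.ext ((hcen _ (Subring.mem_center_iff.2 fun g => (h3 g).symm)).resolve_left t.ne_zero)
  · rw [mul_one]
    exact fix_five (K := K) (a := h.ap w) (by simp [hK]) (congrArg Units.val h3) fun h5 => h4 (Units.ext h5)
  · have h3 : Bd (Dr R) ≤ Subring.closure (insert (1 : h.EB) ((fun u : h.EBˣ => (u : h.EB)) '' (Dr R))) :=
      Bd_le (fun z hz => by
        rcases hcen z hz with rfl | rfl
        · exact Subring.zero_mem _
        · exact Subring.one_mem _) fun t ht' => Subring.subset_closure (Or.inr ⟨t, ht', rfl⟩)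
    have h4 : Bd (Dr R) = ⊤ := hspan
    exact h3 (h4 ▸ trivial)
  · rw [map_inv, Units.inv_mul]
  · rw [← Units.val_pow_eq_pow_val, ← Units.val_mul, ← Units.val_mul, ← map_pow, ← map_mul, ← map_mul, c4_c5]

theorem qsc_spH {m : ℕ} (hm : 0 < m) (R : FR (spH m K).EB) (hR : R.L = Lmax _) : QSC R := by
  have : Nonempty (Fin m ⊕ Fin m) := ⟨Sum.inl ⟨0, hm⟩⟩
  obtain ⟨x, hx⟩ := exists_ne (0 : Fin m ⊕ Fin m → K)
  have hk : (phSp m K (transv x 1) : (spH m K).EB) - 1 = (spH m K).eb ((1 : K) • (spH m K).ro x x) := by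
    rw [phSp_transv, one_smul]
  have hxx : (spH m K).b x x = 0 := sympForm_self x
  obtain ⟨h4, h5⟩ := uni_ro _ hx hxx one_ne_zero hk
  by_cases h2 : 2 ≤ m
  · by_cases h3 : m = 2 → 3 ≤ Fintype.card K
    · have hp := LieClassical.SympPerfect.commutator_eq_top (m := m) (F := K) (by omega)
      have hD := datSp hm hp hR
      have hm : phSp m K (transv x 1) ∈ Dr R := hD.range ▸ ⟨_, rfl⟩
      exact qsc_of_dat hD (qs_top hp (Cfsg.Agent.S0270.result m h2 h3)) ⟨_, hm, h4, h5⟩
        (Or.inl (Or.inl (tyR_ro _ (by simp; omega) hm hx hxx one_ne_zero hk)))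
    · push Not at h3
      obtain ⟨rfl, h3⟩ := h3
      exact qsc_sp42 (by have := Vec.card_cases K; omega) R hR
  obtain rfl : m = 1 := by omega
  by_cases h6 : 4 ≤ Fintype.card K
  · have hq := qs_equiv (qs_sl2 h6) (spTwo K).symm
    have hD := datSp hm (top_of_qs hq) hR
    exact qsc_of_dat hD hq ⟨_, hD.range ▸ ⟨_, rfl⟩, h4, h5⟩
      (Or.inl (Or.inr (Or.inr (Or.inl (tyI_EB _ (by simp) R)))))
  · have := solv_sl2 h6
    exact Or.inl (solv_of_le (Group.isSolvable_of_isSolvable_injective (f := (spTwo K).toMonoidHom) (spTwo K).injective)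
      (phSp 1 K) (isoSp hR ▸ Dr_le R))

theorem qsc_S {A V : Type} [Ring A] [StarRing A] [AddCommGroup V] [Module K V] [Module.Finite K V] [Nontrivial V]
    (F : FR A) (e : A ≃+* Module.End K V) (b : LinearMap.BilinForm K V) (hb : b.IsAlt) (hs : b.SeparatingLeft)
    (hadj : ∀ a v w, b (e a v) w = b v (e (star a) w)) (hL : F.L = Lmax A) : QSC F := by
  obtain ⟨m, l, c, -, -, -, h4⟩ := Cfsg.Agent.S0752.result b hb
  have hl : l = 0 := by
    by_contra hl
    exact c.ne_zero _ (hs _ (h4 ⟨0, Nat.pos_of_ne_zero hl⟩))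
  subst hl
  have hm : Module.finrank K V = 2 * m := by
    rw [Module.finrank_eq_card_basis c]
    simp [two_mul]
  obtain ⟨g, hg⟩ := ClassicalGeometry.SympIso.exists_linearEquiv_sympForm b hb hs hm
  obtain ⟨e', h1, -⟩ := exists_iso (spH m K) e (fun v w => b v w) hadj g.symm (c := 1) fun u v => by
    rw [one_mul]
    change sympForm m K _ _ = _
    rw [← hg, g.apply_symm_apply, g.apply_symm_apply]
  have h0 := Module.finrank_pos (R := K) (M := V)
  exact of_star h1 F fun R _ _ h2 => qsc_spH (by omega) R (h2 hL)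

end Cfsg.Agent.Cam.Cl.Qs
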