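import Cfsg.Agent.Cam.Cl.Base

/-!
# The radical of a subring and the lemma END (helper8)

* `Jp B n` : the `n`-th power of the radical of the subring `B`, as an additive subgroup of `A`; `Jr B = Jp B 1`;
* `mem_Jr`, `Jp_mul`, `Jp_star`, `exists_Jp_bot`, `exists_ann`, `semisimple_of_Jr`;
* `end_lemma` : `(t - 1) J = 0 = J (t - 1)` for a perfect group implies `J = 0`; `semisimple_of_symm`.
-/

set_option autoImplicit false

namespace Cfsg.Agent.Cam.Cl.JB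

open Cfsg Cfsg.Agent.DS.Cl
open scoped commutatorElement

variable {A : Type} [Ring A]

/-- the powers of the radical of a subring -/
def Jp (B : Subring A) (n : ℕ) : AddSubgroup A :=
  ((Ring.jacobson B ^ n : Ideal B).toAddSubgroup).map B.subtype.toAddMonoidHom

/-- the radical of a subring -/
def Jr (B : Subring A) : AddSubgroup A := Jp B 1

variable {B : Subring A}

theorem mem_Jp {n : ℕ} {x : A} : x ∈ Jp B n ↔ ∃ h : x ∈ B, (⟨x, h⟩ : B) ∈ (Ring.jacobson B ^ n : Ideal B) :=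
  ⟨by rintro ⟨y, hy, rfl⟩; exact ⟨y.2, hy⟩, fun ⟨h, h1⟩ => ⟨_, h1, rfl⟩⟩

theorem Jp_le {n : ℕ} {x : A} (h : x ∈ Jp B n) : x ∈ B := (mem_Jp.1 h).1

theorem mem_Jp_zero {x : A} : x ∈ Jp B 0 ↔ x ∈ B := by
  rw [mem_Jp, Submodule.pow_zero, Ideal.one_eq_top]
  exact ⟨fun h => h.1, fun h => ⟨h, trivial⟩⟩

theorem Jp_mul {m n : ℕ} {x y : A} (hx : x ∈ Jp B m) (hy : y ∈ Jp B n) : x * y ∈ Jp B (m + n) := by
  obtain ⟨h1, h2⟩ := mem_Jp.1 hx
  obtain ⟨h3, h4⟩ := mem_Jp.1 hy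
  refine mem_Jp.2 ⟨B.mul_mem h1 h3, ?_⟩
  rw [Ideal.IsTwoSided.pow_add]
  exact Ideal.mul_mem_mul h2 h4

theorem Jp_mul_left {n : ℕ} {b x : A} (hb : b ∈ B) (hx : x ∈ Jp B n) : b * x ∈ Jp B n := by
  simpa using Jp_mul (mem_Jp_zero.2 hb) hx

theorem Jp_mul_right {n : ℕ} {b x : A} (hx : x ∈ Jp B n) (hb : b ∈ B) : x * b ∈ Jp B n :=
  Jp_mul hx (mem_Jp_zero.2 hb)

theorem Jp_anti {m n : ℕ} (h : m ≤ n) : Jp B n ≤ Jp B m := fun _ hx => by
  obtain ⟨h1, h2⟩ := mem_Jp.1 hx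
  exact mem_Jp.2 ⟨h1, Ideal.pow_le_pow_right h h2⟩

theorem mem_Jr' {x : A} : x ∈ Jr B ↔ ∃ h : x ∈ B, (⟨x, h⟩ : B) ∈ Ring.jacobson B := by
  rw [Jr, mem_Jp, Submodule.pow_one]

/-- induction over a power of the radical -/
theorem Jp_succ_le {n : ℕ} {S : AddSubgroup A} (h : ∀ x ∈ Jp B n, ∀ y ∈ Jr B, x * y ∈ S) : Jp B (n + 1) ≤ S := by
  intro z hz
  obtain ⟨h1, h2⟩ := mem_Jp.1 hz
  rw [Submodule.pow_succ] at h2
  refine Submodule.mul_induction_on (C := fun w : B => (w : A) ∈ S) h2 (fun x hx y hy => ?_) fun x y hx hy => S.add_mem hx hy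
  exact h x (mem_Jp.2 ⟨x.2, hx⟩) y (mem_Jr'.2 ⟨y.2, hy⟩)

theorem Jr_le {x : A} (h : x ∈ Jr B) : x ∈ B := Jp_le h

theorem Jr_mul_left {b x : A} (hb : b ∈ B) (hx : x ∈ Jr B) : b * x ∈ Jr B := Jp_mul_left hb hx

theorem Jr_mul_right {b x : A} (hx : x ∈ Jr B) (hb : b ∈ B) : x * b ∈ Jr B := Jp_mul_right hx hb

theorem pow_mem_Jp {x : A} (hx : x ∈ Jr B) (n : ℕ) : x ^ n ∈ Jp B n := by
  induction n with
  | zero => rw [pow_zero]; exact mem_Jp_zero.2 B.one_mem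
  | succ n ih => rw [pow_succ]; exact Jp_mul ih hx

variable [Finite A]

theorem exists_Jp_bot (B : Subring A) : ∃ n, Jp B n = ⊥ := by
  obtain ⟨n, hn⟩ := IsArtinianRing.isNilpotent_jacobson_bot (R := B)
  rw [Ideal.jacobson_bot] at hn
  refine ⟨n, eq_bot_iff.2 fun x hx => ?_⟩
  obtain ⟨h1, h2⟩ := mem_Jp.1 hx
  rw [hn] at h2
  exact congrArg Subtype.val (show (⟨x, h1⟩ : B) = 0 from h2)

theorem Jr_nil {x : A} (hx : x ∈ Jr B) : IsNilpotent x := by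
  obtain ⟨n, hn⟩ := exists_Jp_bot B
  have h := pow_mem_Jp hx n
  rw [hn] at h
  exact ⟨n, h⟩

theorem mem_Jr {x : A} : x ∈ Jr B ↔ x ∈ B ∧ ∀ b ∈ B, IsNilpotent (b * x) := by
  refine ⟨fun h => ⟨Jr_le h, fun b hb => Jr_nil (Jr_mul_left hb h)⟩, fun ⟨h1, h2⟩ => mem_Jr'.2 ⟨h1, ?_⟩⟩
  rw [← Ideal.jacobson_bot, Ideal.mem_jacobson_iff]
  intro y
  obtain ⟨n, hn⟩ := h2 y y.2
  have h3 : IsNilpotent (y * ⟨x, h1⟩ : B) := ⟨n, Subtype.ext (by simpa using hn)⟩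
  obtain ⟨u, hu⟩ := h3.isUnit_add_one
  refine ⟨(u⁻¹ : Bˣ), ?_⟩
  rw [Ideal.mem_bot, mul_assoc, ← mul_add_one, ← hu, Units.inv_mul, sub_self]

theorem semisimple_of_Jr (h : ∀ x ∈ Jr B, x = 0) : IsSemisimpleRing B := by
  rw [IsArtinianRing.isSemisimpleRing_iff_jacobson, eq_bot_iff]
  intro x hx
  exact Subtype.ext (h x (mem_Jr'.2 ⟨x.2, hx⟩))

/-- the annihilator of a non-zero radical meets it -/
theorem exists_ann (h : ∃ x ∈ Jr B, x ≠ 0) : ∃ x ∈ Jr B, x ≠ 0 ∧ ∀ y ∈ Jr B, x * y = 0 ∧ y * x = 0 := by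
  classical
  obtain ⟨x0, hx0, hne⟩ := h
  have h1 := Nat.find_spec (exists_Jp_bot B)
  obtain ⟨k, hk⟩ : ∃ k, Nat.find (exists_Jp_bot B) = k + 2 := by
    refine Nat.exists_eq_add_of_le' (not_lt.1 fun h2 => hne ?_)
    have h3 := Jp_anti (Nat.lt_succ_iff.1 h2) hx0
    rwa [h1] at h3
  have h2 := Nat.find_min (exists_Jp_bot B) (show k + 1 < _ by omega)
  obtain ⟨⟨x, hx⟩, hx1⟩ := AddSubgroup.ne_bot_iff_exists_ne_zero.1 h2
  rw [hk] at h1
  refine ⟨x, Jp_anti (by omega) hx, fun e => hx1 (Subtype.ext e), fun y hy => ⟨?_, ?_⟩⟩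
  · have h3 := Jp_mul hx hy
    rwa [h1] at h3
  · have h3 := Jp_mul hy hx
    rwa [show 1 + (k + 1) = k + 2 by omega, h1] at h3

theorem Jr_map {γ : RingAut A} (h : ∀ b ∈ B, γ b ∈ B) (h' : ∀ b ∈ B, γ⁻¹ b ∈ B) {x : A} (hx : x ∈ Jr B) :
    γ x ∈ Jr B := by
  refine mem_Jr.2 ⟨h x (Jr_le hx), fun b hb => ?_⟩
  have h1 := (Jr_nil (Jr_mul_left (h' b hb) hx)).map γ
  rwa [map_mul, ra_apply_inv] at h1

section star

variable [StarRing A]

theorem Jr_star (hs : ∀ b ∈ B, star b ∈ B) {x : A} (hx : x ∈ Jr B) : star x ∈ Jr B := by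
  refine mem_Jr.2 ⟨hs x (Jr_le hx), fun b hb => ?_⟩
  obtain ⟨n, hn⟩ := Jr_nil (Jr_mul_right hx (hs b hb))
  exact ⟨n, by rw [← star_star b, ← star_mul, ← star_pow, hn, star_zero]⟩

theorem Jp_star (hs : ∀ b ∈ B, star b ∈ B) (n : ℕ) : ∀ x ∈ Jp B n, star x ∈ Jp B n := by
  induction n with
  | zero => exact fun x hx => mem_Jp_zero.2 (hs x (Jp_le hx))
  | succ n ih =>
    refine Jp_succ_le (S := (Jp B (n + 1)).comap (starAddEquiv (R := A)).toAddMonoidHom) fun x hx y hy => ?_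
    show star (x * y) ∈ Jp B (n + 1)
    rw [star_mul, add_comm]
    exact Jp_mul (Jr_star hs hy) (ih x hx)

omit [Finite A] [StarRing A] in
/-- an element fixed on the left by `T` -/
theorem Bd_mul_fix {T : Subgroup Aˣ} {m x : A} (hm : ∀ t ∈ T, (t : A) * m = m) (hx : x ∈ Bd T) :
    ∃ c ∈ Subring.center A, x * m = c * m := by
  let R : Subring A :=
    { carrier := {x | ∃ c ∈ Subring.center A, x * m = c * m}
      mul_mem' := by
        rintro x y ⟨c, hc, h1⟩ ⟨d, hd, h2⟩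
        exact ⟨c * d, mul_mem hc hd, by rw [mul_assoc, h2, ← mul_assoc, cen_comm hd, mul_assoc, h1, ← mul_assoc,
          cen_comm hc]⟩
      one_mem' := ⟨1, one_mem _, rfl⟩
      add_mem' := by
        rintro x y ⟨c, hc, h1⟩ ⟨d, hd, h2⟩
        exact ⟨c + d, add_mem hc hd, by rw [add_mul, add_mul, h1, h2]⟩
      zero_mem' := ⟨0, zero_mem _, rfl⟩
      neg_mem' := by
        rintro x ⟨c, hc, h1⟩
        exact ⟨-c, neg_mem hc, by rw [neg_mul, neg_mul, h1]⟩ }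
  have h1 : Bd T ≤ R := Bd_le (fun c hc => ⟨c, hc, rfl⟩) fun t ht => ⟨1, one_mem _, by rw [hm t ht, one_mul]⟩
  exact h1 hx

/-- **END** -/
theorem end_lemma (hA : SS A) {T : Subgroup Aˣ} (hT : T ≤ ⁅T, T⁆)
    (h : ∀ j ∈ Jr (Bd T), ∀ t ∈ T, ((t : A) - 1) * j = 0 ∧ j * ((t : A) - 1) = 0) : ∀ j ∈ Jr (Bd T), j = 0 := by
  let I : Ideal (Bd T) := Ideal.span {x | ∃ t ∈ T, (x : A) = (t : A) - 1}
  let q := Ideal.Quotient.mk (Ring.jacobson (Bd T))
  obtain ⟨e', he', hI⟩ := IsSemisimpleRing.ideal_eq_span_idempotent (I.map q)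
  obtain ⟨e, he, rfl⟩ := (Ideal.mem_map_iff_of_surjective q Ideal.Quotient.mk_surjective).1
    (hI ▸ Ideal.mem_span_singleton_self e')
  have h1 : ∀ x ∈ I, ((x : A) * (1 - e)) ∈ Jr (Bd T) := fun x hx => by
    have h2 := Ideal.mem_map_of_mem q hx
    rw [hI] at h2
    obtain ⟨b, hb⟩ := Ideal.mem_span_singleton'.1 h2
    refine mem_Jr'.2 ⟨(x * (1 - e)).2, ?_⟩
    show x * (1 - e) ∈ _
    rw [← Ideal.Quotient.eq_zero_iff_mem]
    show q _ = 0
    rw [map_mul, map_sub, map_one, ← hb, mul_assoc, mul_sub, mul_one, he'.eq, sub_self, mul_zero]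
  have h2 : ∀ t ∈ T, ((t : A) - 1) * (1 - e) ∈ Jr (Bd T) := fun t ht =>
    h1 ⟨(t : A) - 1, sub_mem (mem_Bd ht) (one_mem _)⟩ (Ideal.subset_span ⟨t, ht, rfl⟩)
  have h3 : ∀ t ∈ T, (t : A) * (1 - e) = 1 - e := fun t ht => by
    have h4 := eq_one_of_perf hT (fun t : Aˣ => Multiplicative.ofAdd (((t : A) - 1) * (1 - e))) (by simp)
      (fun a ha b hb => by
        rw [← ofAdd_add, Units.val_mul]
        congr 1
        rw [← sub_eq_zero, ← (h _ (h2 b hb) a ha).1]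
        noncomm_ring) (fun _ _ _ _ => mul_comm _ _) t ht
    rw [ofAdd_eq_one, sub_mul, one_mul, sub_eq_zero] at h4
    exact h4
  have h4 : ∀ x ∈ I, (x : A) * (1 - e) = 0 ∧ ∀ j ∈ Jr (Bd T), j * x = 0 := fun x hx => by
    induction hx using Submodule.span_induction with
    | mem x hx =>
      obtain ⟨t, ht, e1⟩ := hx
      exact ⟨by rw [e1, sub_mul, h3 t ht, one_mul, sub_self], fun j hj => by rw [e1, (h j hj t ht).2]⟩
    | zero => simp
    | add x y _ _ hx hy =>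
      exact ⟨by rw [Subring.coe_add, add_mul, hx.1, hy.1, add_zero],
        fun j hj => by rw [Subring.coe_add, mul_add, hx.2 j hj, hy.2 j hj, add_zero]⟩
    | smul b x _ hx =>
      exact ⟨by rw [smul_eq_mul, Subring.coe_mul, mul_assoc, hx.1, mul_zero],
        fun j hj => by rw [smul_eq_mul, Subring.coe_mul, ← mul_assoc, hx.2 _ (Jr_mul_right hj b.2)]⟩
  intro j hj
  obtain ⟨c, hc, h5⟩ := Bd_mul_fix h3 (Jr_le hj)
  rw [mul_sub, mul_one, (h4 e he).2 j hj, sub_zero] at h5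
  have h6 : (1 - (e : A)) * (1 - e) = 1 - e := by rw [sub_mul, one_mul, (h4 e he).1, sub_zero]
  obtain ⟨n, hn⟩ := Jr_nil hj
  obtain ⟨y, hy⟩ := hA.regular c
  have h7 : ∀ k : ℕ, j = y ^ k * j ^ (k + 1) := fun k => by
    induction k with
    | zero => simp
    | succ k ih =>
      have h8 : j = y * (j * j) := by
        rw [h5, mul_assoc c, ← mul_assoc (1 - (e : A)), cen_comm hc, mul_assoc c, h6, ← mul_assoc, ← mul_assoc,
          cen_comm hc y, hy]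
      rw [pow_succ' y, mul_assoc, pow_succ j (k + 1), ← mul_assoc (y ^ k), ← ih]
      exact h8
  rw [h7 n, pow_succ, hn, zero_mul, mul_zero]

theorem semisimple_of_end (hA : SS A) {T : Subgroup Aˣ} (hT : T ≤ ⁅T, T⁆)
    (h : ∀ j ∈ Jr (Bd T), ∀ t ∈ T, ((t : A) - 1) * j = 0 ∧ j * ((t : A) - 1) = 0) : IsSemisimpleRing (Bd T) :=
  semisimple_of_Jr (end_lemma hA hT h)

/-- a symmetric radical is zero -/
theorem semisimple_of_symm (hA : SS A) {T : Subgroup Aˣ} (hT : T ≤ ⁅T, T⁆)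
    (hu : ∀ t ∈ T, (t : A) * star (t : A) = 1) (h : ∀ j ∈ Jr (Bd T), star j = j) : IsSemisimpleRing (Bd T) := by
  have h1 : ∀ j ∈ Jr (Bd T), ∀ b ∈ Bd T, b * j = j * star b := fun j hj b hb => by
    rw [← h _ (Jr_mul_left hb hj), star_mul, h j hj]
  have h2 : ∀ j ∈ Jr (Bd T), ∀ t ∈ T, (t : A) * j = j := fun j hj => by
    let K : Subgroup Aˣ :=
      { carrier := {t | (t : A) * j = j}
        mul_mem' := fun {a b} (ha : (a : A) * j = j) (hb : (b : A) * j = j) => by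
          show ((a * b : Aˣ) : A) * j = j
          rw [Units.val_mul, mul_assoc, hb, ha]
        one_mem' := one_mul j
        inv_mem' := fun {a} (ha : (a : A) * j = j) => by
          show ((a⁻¹ : Aˣ) : A) * j = j
          conv_lhs => rw [← ha, ← mul_assoc, Units.inv_mul, one_mul] }
    have h3 : ⁅T, T⁆ ≤ K := by
      rw [Subgroup.commutator_le]
      intro a ha b hb
      have h4 : ∀ x ∈ Jr (Bd T), (a : A) * (b * x) = b * (a * x) := fun x hx => by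
        rw [h1 _ (Jr_mul_left (mem_Bd hb) hx) _ (mem_Bd ha), mul_assoc, ← h1 _ hx _ (mem_Bd ha)]
      show ((a * b * a⁻¹ * b⁻¹ : Aˣ) : A) * j = j
      rw [Units.val_mul, Units.val_mul, Units.val_mul, mul_assoc, mul_assoc, mul_assoc,
        h4 _ (Jr_mul_left (mem_Bd (inv_mem ha)) (Jr_mul_left (mem_Bd (inv_mem hb)) hj)), Units.mul_inv_cancel_left,
        Units.mul_inv_cancel_left]
    exact fun t ht => h3 (hT ht)
  refine semisimple_of_end hA hT fun j hj t ht => ⟨by rw [sub_mul, h2 j hj t ht, one_mul, sub_self], ?_⟩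
  have h3 := h1 j hj _ (mem_Bd (inv_mem ht))
  rw [h2 j hj _ (inv_mem ht), star_eq_inv (hu t ht), star_star] at h3
  rw [mul_sub, ← h3, mul_one, sub_self]

end star

end Cfsg.Agent.Cam.Cl.JB
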