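import Cfsg.Agent.Cam.Cl.Asm
import Cfsg.Agent.Cam.Cl.QS
import Cfsg.Agent.Cam.Cl.O2
import Cfsg.Agent.Cam.Cl.Cyc

/-!
# Classical rows of S3689, unconditional (helper12)
-/

set_option autoImplicit false

namespace Cfsg.Agent.Cam.Cl.Rw

/-- the six classical rows -/
theorem rows : BoxPSL ∧ BoxPSp ∧ BoxPSU ∧ BoxOOdd ∧ BoxOPlus ∧ BoxOMinus :=
  Asm.rows Qs.boxQS (Ot.boxO2 (JB.boxBk (Pc.boxPc Qs.boxQS)) (Pc.boxPc Qs.boxQS) Qs.boxQS) Cy.boxCyc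

end Cfsg.Agent.Cam.Cl.Rw
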